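import Cfsg.Agent.H785.CompLem
import Cfsg.Agent.H105.Og.Defs

/-!
# Lemma F of S2454 in the form of `tools/plans/S2454_O.lean.txt` (helper785)
-/

set_option autoImplicit false

namespace Cfsg.Agent.H785.CompLem

open Polynomial Matrix Cfsg.Agent.H514.DP

variable {F : Type} [Field F] [Finite F]

/-- **LEMMA F**: the companion matrix of the minimal polynomial of a generator of the norm one group. -/
theorem lemmaF {n : ℕ} (hn : 3 ≤ n) : ∃ (c : ℕ → F) (h : (comp n c).det = 1) (P : F[X]) (v0 : Fin n → F),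
    aeval (compSL n c h).1 P = 0 ∧
    (∀ x : Fin n → F, (aeval ((compSL n c h)⁻¹).1 P) *ᵥ x = 0 → x = 0) ∧ P.eval 1 ≠ 0 ∧ v0 ≠ 0 ∧
    Submodule.span F (Set.range fun i : ℕ => ((compSL n c h).1 ^ i) *ᵥ v0) = ⊤ := by
  obtain ⟨c, P, h, -, -, -, -, h1, h2, h3, h4⟩ := exists_comp F hn
  have hne : (Pi.single ⟨0, by omega⟩ 1 : Fin n → F) ≠ 0 := by
    intro h0
    have := congrFun h0 ⟨0, by omega⟩
    rw [Pi.single_eq_same] at this
    exact one_ne_zero this
  refine ⟨c, h, P, Pi.single ⟨0, by omega⟩ 1, h1, ?_, h2, hne, ?_⟩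
  · have h5 : ((compSL n c h)⁻¹).1 = (comp n c)⁻¹ := by
      symm
      apply Matrix.inv_eq_right_inv
      exact congrArg Subtype.val (mul_inv_cancel (compSL n c h))
    rw [h5]
    exact h3
  · rw [eq_top_iff]
    intro w _
    obtain ⟨f, hf⟩ := h4 _ hne w
    rw [← hf, aeval_eq_sum_range, Matrix.sum_mulVec]
    refine Submodule.sum_mem _ fun i _ => ?_
    rw [Matrix.smul_mulVec]
    exact Submodule.smul_mem _ _ (Submodule.subset_span ⟨i, rfl⟩)

end Cfsg.Agent.H785.CompLem
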