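import Cfsg.Agent.H759.FusNormal

/-!
# Two transvections on a finite abelian `p`-group (helper785)

`A` is a finite abelian `p`-group, `G` a group of automorphisms of `A` whose `p`-subgroups have order at most `p`, and
`s, s' ∈ G` have order `p`, generate different subgroups, and `[A,s]`, `[A,s']` have order `p`. Then `A = V × C` with
`V = [A,s] [A,s']` of order `p²`, `C = C_A(s) ∩ C_A(s')`, both invariant under `G`; and the torus elements of
`SL₂(p) = ⟨s, s'⟩` are exhibited.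
-/

set_option autoImplicit false
set_option linter.unusedSectionVars false
set_option linter.unusedVariables false

namespace Cfsg.Agent.H785

section General

variable {A : Type*} [Group A]

/-- The automorphisms `k` with `x⁻¹ k(x) ∈ D` for all `x`. -/
def moveIn (D : Subgroup A) : Subgroup (MulAut A) where
  carrier := {k | ∀ x, x⁻¹ * k x ∈ D}
  one_mem' := fun x => by simp
  mul_mem' := by
    intro k l hk hl x
    have h := D.mul_mem (hl x) (hk (l x))
    have e : x⁻¹ * l x * ((l x)⁻¹ * k (l x)) = x⁻¹ * k (l x) := by group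
    rw [e] at h
    exact h
  inv_mem' := by
    intro k hk x
    have h := D.inv_mem (hk (k⁻¹ x))
    rw [MulAut.apply_inv_self, mul_inv_rev, inv_inv] at h
    exact h

theorem mem_moveIn {D : Subgroup A} {k : MulAut A} : k ∈ moveIn D ↔ ∀ x, x⁻¹ * k x ∈ D := Iff.rfl

/-- The automorphisms fixing every element of `D`. -/
def fixing (D : Subgroup A) : Subgroup (MulAut A) where
  carrier := {k | ∀ x ∈ D, k x = x}
  one_mem' := fun x _ => rfl
  mul_mem' := by
    intro k l hk hl x hx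
    rw [MulAut.mul_apply, hl x hx, hk x hx]
  inv_mem' := by
    intro k hk x hx
    rw [← hk x hx, MulAut.inv_apply_self]
    exact (hk x hx).symm

theorem mem_fixing {D : Subgroup A} {k : MulAut A} : k ∈ fixing D ↔ ∀ x ∈ D, k x = x := Iff.rfl

/-- An automorphism of `p`-power order acts trivially on every invariant subgroup of order `p`. -/
theorem apply_eq_of_card_prime {p : ℕ} [hp : Fact p.Prime] {b : MulAut A} {k : ℕ}
    (hb : b ^ p ^ k = 1) {D : Subgroup A} (hD : Nat.card D = p) (hinv : ∀ x ∈ D, b x ∈ D) :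
    ∀ x ∈ D, b x = x := by
  intro x hx
  by_cases hx1 : x = 1
  · rw [hx1, map_one]
  have hcyc : ∀ y ∈ D, ∃ n : ℕ, x ^ n = y := by
    intro y hy
    have h1 : (⟨x, hx⟩ : D) ≠ 1 := fun h => hx1 (congrArg Subtype.val h)
    have h2 : (⟨y, hy⟩ : D) ∈ Subgroup.zpowers (⟨x, hx⟩ : D) :=
      mem_zpowers_of_prime_card hD h1
    have hfin : Finite D := Nat.finite_of_card_ne_zero (by rw [hD]; exact hp.out.ne_zero)
    obtain ⟨n, hn⟩ := mem_powers_iff_mem_zpowers.2 h2
    exact ⟨n, congrArg Subtype.val hn⟩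
  obtain ⟨n, hn⟩ := hcyc _ (hinv x hx)
  have hpow : ∀ j : ℕ, (b ^ j) x = x ^ n ^ j := by
    intro j
    induction j with
    | zero => simp
    | succ j ih => rw [pow_succ', MulAut.mul_apply, ih, map_pow, ← hn, ← pow_mul, pow_succ']
  have h1 := hpow (p ^ k)
  rw [hb, MulAut.one_apply] at h1
  have hord : orderOf x = p := by
    have h2 : orderOf (⟨x, hx⟩ : D) ∣ p := by rw [← hD]; exact orderOf_dvd_natCard _
    rw [Subgroup.orderOf_mk] at h2
    rcases (Nat.dvd_prime hp.out).1 h2 with h3 | h3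
    · exact absurd (orderOf_eq_one_iff.1 h3) hx1
    · exact h3
  have h2 : x ^ 1 = x ^ n ^ p ^ k := by rw [pow_one]; exact h1
  rw [pow_eq_pow_iff_modEq, hord] at h2
  have h3 : ((1 : ℕ) : ZMod p) = ((n ^ p ^ k : ℕ) : ZMod p) :=
    (ZMod.natCast_eq_natCast_iff _ _ _).2 h2
  rw [Nat.cast_pow, ZMod.pow_card_pow] at h3
  have h4 : 1 ≡ n [MOD p] := (ZMod.natCast_eq_natCast_iff _ _ _).1 h3
  rw [← hn]
  conv_rhs => rw [← pow_one x]
  rw [pow_eq_pow_iff_modEq, hord]
  exact h4.symm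

end General

section Comm

variable {A : Type*} [CommGroup A]

/-- `x ↦ x⁻¹ s(x)`. -/
def del (s : MulAut A) : A →* A where
  toFun x := x⁻¹ * s x
  map_one' := by simp
  map_mul' x y := by rw [map_mul, mul_inv]; exact mul_mul_mul_comm _ _ _ _

theorem del_apply (s : MulAut A) (x : A) : del s x = x⁻¹ * s x := rfl

theorem apply_eq_mul_del (s : MulAut A) (x : A) : s x = x * del s x := by
  rw [del_apply, mul_inv_cancel_left]

/-- `C_A(s)`. -/
def fix (s : MulAut A) : Subgroup A := (del s).ker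

/-- `[A, s]`. -/
def com (s : MulAut A) : Subgroup A := (del s).range

theorem mem_fix {s : MulAut A} {x : A} : x ∈ fix s ↔ s x = x := by
  rw [fix, MonoidHom.mem_ker, del_apply, inv_mul_eq_one, eq_comm]

theorem mem_com {s : MulAut A} {y : A} : y ∈ com s ↔ ∃ x, x⁻¹ * s x = y := Iff.rfl

theorem del_mem_com (s : MulAut A) (x : A) : del s x ∈ com s := ⟨x, rfl⟩

theorem card_com_mul_card_fix (s : MulAut A) :
    Nat.card (com s) * Nat.card (fix s) = Nat.card A := by
  rw [com, fix, ← Nat.card_congr (QuotientGroup.quotientKerEquivRange (del s)).toEquiv,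
    Subgroup.card_eq_card_quotient_mul_card_subgroup (del s).ker]

theorem mem_com_conj {s g : MulAut A} {y : A} : y ∈ com (g * s * g⁻¹) ↔ g⁻¹ y ∈ com s := by
  constructor
  · rintro ⟨x, rfl⟩
    refine ⟨g⁻¹ x, ?_⟩
    rw [del_apply, del_apply, map_mul, map_inv, MulAut.mul_apply, MulAut.mul_apply,
      MulAut.inv_apply_self]
  · rintro ⟨x, hx⟩
    refine ⟨g x, ?_⟩
    rw [del_apply] at hx
    rw [del_apply, MulAut.mul_apply, MulAut.mul_apply, MulAut.inv_apply_self, ← map_inv, ← map_mul,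
      hx, MulAut.apply_inv_self]

theorem mem_fix_conj {s g : MulAut A} {y : A} : y ∈ fix (g * s * g⁻¹) ↔ g⁻¹ y ∈ fix s := by
  rw [mem_fix, mem_fix, MulAut.mul_apply, MulAut.mul_apply]
  constructor
  · intro h
    conv_rhs => rw [← h]
    rw [MulAut.inv_apply_self]
  · intro h
    rw [h, MulAut.apply_inv_self]

theorem com_conj_eq_map (s g : MulAut A) : com (g * s * g⁻¹) = (com s).map g.toMonoidHom := by
  ext y
  rw [mem_com_conj]
  constructor
  · intro h
    exact ⟨g⁻¹ y, h, MulAut.apply_inv_self _ g y⟩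
  · rintro ⟨x, hx, rfl⟩
    have : g⁻¹ (g.toMonoidHom x) = x := MulAut.inv_apply_self _ g x
    rw [this]
    exact hx

theorem card_com_conj (s g : MulAut A) : Nat.card (com (g * s * g⁻¹)) = Nat.card (com s) := by
  rw [com_conj_eq_map]
  exact Nat.card_congr ((com s).equivMapOfInjective _ g.injective).symm.toEquiv

theorem com_le_of_mem_zpowers {a b : MulAut A} (h : b ∈ Subgroup.zpowers a) : com b ≤ com a := by
  have h1 : Subgroup.zpowers a ≤ moveIn (com a) := by
    rw [Subgroup.zpowers_le]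
    exact fun x => del_mem_com a x
  rintro _ ⟨x, rfl⟩
  exact h1 h x

theorem fix_le_of_mem_zpowers {a b : MulAut A} (h : b ∈ Subgroup.zpowers a) : fix a ≤ fix b := by
  have h1 : Subgroup.zpowers a ≤ fixing (fix a) := by
    rw [Subgroup.zpowers_le]
    exact fun x hx => mem_fix.1 hx
  intro x hx
  exact mem_fix.2 (h1 h x hx)

theorem com_eq_of_zpowers_eq {a b : MulAut A} (h : Subgroup.zpowers a = Subgroup.zpowers b) :
    com a = com b :=
  le_antisymm (com_le_of_mem_zpowers (h ▸ Subgroup.mem_zpowers a))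
    (com_le_of_mem_zpowers (h ▸ Subgroup.mem_zpowers b))

theorem fix_eq_of_zpowers_eq {a b : MulAut A} (h : Subgroup.zpowers a = Subgroup.zpowers b) :
    fix a = fix b :=
  le_antisymm (fix_le_of_mem_zpowers (h ▸ Subgroup.mem_zpowers b))
    (fix_le_of_mem_zpowers (h ▸ Subgroup.mem_zpowers a))

theorem zpow_apply_of_mem_fix {a : MulAut A} {w : A} (hw : w ∈ fix a) (m : ℤ) : (a ^ m) w = w :=
  mem_fix.1 (fix_le_of_mem_zpowers (Subgroup.zpow_mem_zpowers a m) hw)

theorem pow_apply {a : MulAut A} {y : A} (hw : del a y ∈ fix a) (m : ℕ) :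
    (a ^ m) y = y * del a y ^ m := by
  induction m with
  | zero => simp
  | succ m ih =>
    rw [pow_succ', MulAut.mul_apply, ih, map_mul, map_pow, mem_fix.1 hw, apply_eq_mul_del a y,
      pow_succ' (del a y), mul_assoc]

theorem zpow_apply {a : MulAut A} {y : A} (hw : del a y ∈ fix a) (m : ℤ) :
    (a ^ m) y = y * del a y ^ m := by
  obtain ⟨k, rfl | rfl⟩ := m.eq_nat_or_neg
  · rw [zpow_natCast, zpow_natCast, pow_apply hw]
  · have h1 := pow_apply hw k
    have h2 : (a ^ (-(k : ℤ))) ((a ^ k) y) = y := by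
      rw [zpow_neg, zpow_natCast, MulAut.inv_apply_self]
    rw [h1, map_mul, zpow_apply_of_mem_fix ((fix a).pow_mem hw k)] at h2
    have h3 := eq_mul_inv_of_mul_eq h2
    rw [h3, zpow_neg, zpow_natCast]

variable {p : ℕ} [hp : Fact p.Prime]

/-- `[A,s] ≤ C_A(s)` when `[A,s]` has order `p` and `s` has order `p`. -/
theorem com_le_fix {s : MulAut A} (hs : orderOf s = p) (hc : Nat.card (com s) = p) :
    com s ≤ fix s := by
  have h := apply_eq_of_card_prime (b := s) (k := 1) (by rw [pow_one, ← hs, pow_orderOf_eq_one]) hc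
    (fun x hx => by
      rw [apply_eq_mul_del]
      exact (com s).mul_mem hx (del_mem_com s x))
  exact fun x hx => mem_fix.2 (h x hx)

theorem zpowers_eq_of_mem {a b : MulAut A} (ha : orderOf a = p) (hb : orderOf b = p)
    (h : b ∈ Subgroup.zpowers a) : Subgroup.zpowers a = Subgroup.zpowers b := by
  have hfin : Finite (Subgroup.zpowers a) := by
    apply Nat.finite_of_card_ne_zero
    rw [Nat.card_zpowers, ha]
    exact hp.out.ne_zero
  refine (Subgroup.eq_of_le_of_card_ge (Subgroup.zpowers_le.2 h) ?_).symm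
  rw [Nat.card_zpowers, Nat.card_zpowers, ha, hb]

/-- Two subgroups of prime order meeting non-trivially. -/
theorem le_of_card_prime_of_mem {D E : Subgroup A} (hD : Nat.card D = p) {x : A} (hx : x ∈ D)
    (hx1 : x ≠ 1) (hxE : x ∈ E) : D ≤ E := by
  intro y hy
  have h1 : (⟨x, hx⟩ : D) ≠ 1 := fun h => hx1 (congrArg Subtype.val h)
  have h2 : (⟨y, hy⟩ : D) ∈ Subgroup.zpowers (⟨x, hx⟩ : D) := mem_zpowers_of_prime_card hD h1
  obtain ⟨n, hn⟩ := Subgroup.mem_zpowers_iff.1 h2
  have h3 : x ^ n = y := congrArg Subtype.val hn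
  rw [← h3]
  exact E.zpow_mem hxE n

theorem exists_zpow_eq {D : Subgroup A} (hD : Nat.card D = p) {x y : A} (hx : x ∈ D)
    (hx1 : x ≠ 1) (hy : y ∈ D) : ∃ n : ℤ, x ^ n = y := by
  have h1 : (⟨x, hx⟩ : D) ≠ 1 := fun h => hx1 (congrArg Subtype.val h)
  have h2 : (⟨y, hy⟩ : D) ∈ Subgroup.zpowers (⟨x, hx⟩ : D) := mem_zpowers_of_prime_card hD h1
  obtain ⟨n, hn⟩ := Subgroup.mem_zpowers_iff.1 h2
  exact ⟨n, congrArg Subtype.val hn⟩

/-- Key dichotomy. -/
theorem zpowers_eq_of_com_le_fix [Finite A] (hA : IsPGroup p A) {G : Subgroup (MulAut A)}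
    (hG : ∀ B : Subgroup (MulAut A), B ≤ G → IsPGroup p B → Nat.card B ≤ p) {a b : MulAut A}
    (haG : a ∈ G) (hbG : b ∈ G) (ha : orderOf a = p) (hb : orderOf b = p)
    (hca : Nat.card (com a) = p) (hcb : Nat.card (com b) = p) (h : com a ≤ fix b) :
    Subgroup.zpowers a = Subgroup.zpowers b := by
  set D := com a with hD
  set E := com a ⊔ com b with hE
  have hDE : D ≤ E := le_sup_left
  have hEb : E ≤ fix b := sup_le h (com_le_fix hb hcb)
  -- the chain stabilizer
  let P : Subgroup (MulAut A) :=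
    { carrier := {k | (∀ x ∈ D, k x = x) ∧ (∀ x ∈ E, x⁻¹ * k x ∈ D) ∧ ∀ x, x⁻¹ * k x ∈ E}
      one_mem' := ⟨fun x _ => rfl, fun x _ => by simp, fun x => by simp⟩
      mul_mem' := by
        rintro k l ⟨hk1, hk2, hk3⟩ ⟨hl1, hl2, hl3⟩
        refine ⟨fun x hx => ?_, fun x hx => ?_, fun x => ?_⟩
        · rw [MulAut.mul_apply, hl1 x hx, hk1 x hx]
        · have h1 := hl2 x hx
          have h2 : l x ∈ E := by
            have := E.mul_mem hx (hDE h1)
            rwa [mul_inv_cancel_left] at this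
          have h3 := D.mul_mem h1 (hk2 _ h2)
          have e : x⁻¹ * l x * ((l x)⁻¹ * k (l x)) = x⁻¹ * k (l x) := by group
          rw [e] at h3
          exact h3
        · have h3 := E.mul_mem (hl3 x) (hk3 (l x))
          have e : x⁻¹ * l x * ((l x)⁻¹ * k (l x)) = x⁻¹ * k (l x) := by group
          rw [e] at h3
          exact h3
      inv_mem' := by
        rintro k ⟨hk1, hk2, hk3⟩
        refine ⟨fun x hx => ?_, fun x hx => ?_, fun x => ?_⟩
        · conv_lhs => rw [← hk1 x hx]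
          rw [MulAut.inv_apply_self]
        · have h1 := hk3 (k⁻¹ x)
          rw [MulAut.apply_inv_self] at h1
          have h2 : k⁻¹ x ∈ E := by
            have := E.mul_mem hx (E.inv_mem h1)
            have e : x * ((k⁻¹ x)⁻¹ * x)⁻¹ = k⁻¹ x := by group
            rwa [e] at this
          have h3 := D.inv_mem (hk2 _ h2)
          rw [MulAut.apply_inv_self, mul_inv_rev, inv_inv] at h3
          exact h3
        · have h3 := E.inv_mem (hk3 (k⁻¹ x))
          rw [MulAut.apply_inv_self, mul_inv_rev, inv_inv] at h3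
          exact h3 }
  have haP : a ∈ P :=
    ⟨fun x hx => mem_fix.1 (com_le_fix ha hca hx), fun x _ => del_mem_com a x,
      fun x => hDE (del_mem_com a x)⟩
  have hbP : b ∈ P := by
    refine ⟨fun x hx => mem_fix.1 (h hx), fun x hx => ?_,
      fun x => (le_sup_right : com b ≤ E) (del_mem_com b x)⟩
    rw [mem_fix.1 (hEb hx), inv_mul_cancel]
    exact D.one_mem
  have hPp : ∀ k ∈ P, ∃ n : ℕ, k ^ p ^ n = 1 := by
    rintro k ⟨hk1, hk2, hk3⟩
    refine H759.exists_pow_eq_one_of_chain hA k 3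
      (fun i => if i = 0 then ⊤ else if i = 1 then E else if i = 2 then D else ⊥) (by simp)
      (by simp) ?_ ?_
    · intro i hi x hx
      have hcase : i = 0 ∨ i = 1 ∨ i = 2 ∨ i = 3 := by omega
      rcases hcase with rfl | rfl | rfl | rfl
      · simp
      · simp only [one_ne_zero, if_false, if_true] at hx ⊢
        have := E.mul_mem hx (hk3 x)
        rwa [mul_inv_cancel_left] at this
      · simp only [OfNat.ofNat_ne_zero, if_false, if_true, OfNat.ofNat_ne_one] at hx ⊢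
        rw [hk1 x hx]
        exact hx
      · simp only [OfNat.ofNat_ne_zero, if_false, OfNat.ofNat_ne_one] at hx ⊢
        simp only [show (3 : ℕ) ≠ 2 by norm_num, if_false, Subgroup.mem_bot] at hx ⊢
        rw [hx, map_one]
    · intro i hi x hx
      have hcase : i = 0 ∨ i = 1 ∨ i = 2 := by omega
      rcases hcase with rfl | rfl | rfl
      · simpa using hk3 x
      · simp only [one_ne_zero, if_false, if_true] at hx
        simpa using hk2 x hx
      · simp only [OfNat.ofNat_ne_zero, if_false, if_true, OfNat.ofNat_ne_one] at hx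
        simp [hk1 x hx]
  set B := Subgroup.closure {a, b} with hB
  have hBP : B ≤ P := by
    rw [hB, Subgroup.closure_le]
    rintro x (rfl | rfl)
    · exact haP
    · exact hbP
  have hBG : B ≤ G := by
    rw [hB, Subgroup.closure_le]
    rintro x (rfl | rfl)
    · exact haG
    · exact hbG
  have hBp : IsPGroup p B := by
    rintro ⟨x, hx⟩
    obtain ⟨n, hn⟩ := hPp x (hBP hx)
    exact ⟨n, Subtype.ext hn⟩
  have hcard := hG B hBG hBp
  have hfinM : Finite (MulAut A) := inferInstance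
  have h1 : Subgroup.zpowers a = B := by
    refine Subgroup.eq_of_le_of_card_ge
      (Subgroup.zpowers_le.2 (Subgroup.subset_closure (by simp))) ?_
    rw [Nat.card_zpowers, ha]
    exact hcard
  have h2 : Subgroup.zpowers b = B := by
    refine Subgroup.eq_of_le_of_card_ge
      (Subgroup.zpowers_le.2 (Subgroup.subset_closure (by simp))) ?_
    rw [Nat.card_zpowers, hb]
    exact hcard
  rw [h1, h2]

/-- The set-up: two transvections generating different Sylow subgroups of order `p` of `G`. -/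
structure Two (p : ℕ) (G : Subgroup (MulAut A)) (s s' : MulAut A) : Prop where
  pgroup : IsPGroup p A
  small : ∀ B : Subgroup (MulAut A), B ≤ G → IsPGroup p B → Nat.card B ≤ p
  sG : s ∈ G
  s'G : s' ∈ G
  os : orderOf s = p
  os' : orderOf s' = p
  cs : Nat.card (com s) = p
  cs' : Nat.card (com s') = p
  ne : Subgroup.zpowers s ≠ Subgroup.zpowers s'

namespace Two

variable [Finite A] {G : Subgroup (MulAut A)} {s s' : MulAut A}

theorem symm (h : Two p G s s') : Two p G s' s :=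
  ⟨h.pgroup, h.small, h.s'G, h.sG, h.os', h.os, h.cs', h.cs, h.ne.symm⟩

theorem com_inf_fix (h : Two p G s s') {x : A} (hx : x ∈ com s) (hx' : x ∈ fix s') : x = 1 := by
  by_contra hx1
  exact h.ne (zpowers_eq_of_com_le_fix h.pgroup h.small h.sG h.s'G h.os h.os' h.cs h.cs'
    (le_of_card_prime_of_mem h.cs hx hx1 hx'))

theorem com_le_fix_self (h : Two p G s s') : com s ≤ fix s := com_le_fix h.os h.cs

theorem eq_one_of_mem (h : Two p G s s') {x : A} (hx : x ∈ com s ⊔ com s') (hx1 : x ∈ fix s)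
    (hx2 : x ∈ fix s') : x = 1 := by
  obtain ⟨y, hy, z, hz, rfl⟩ := Subgroup.mem_sup.1 hx
  have hz1 : z ∈ fix s := ((fix s).mul_mem_cancel_left (h.com_le_fix_self hy)).1 hx1
  have hz0 := h.symm.com_inf_fix hz hz1
  subst hz0
  rw [mul_one] at hx2 ⊢
  exact h.com_inf_fix hy hx2

theorem inf_eq_bot (h : Two p G s s') : (com s ⊔ com s') ⊓ (fix s ⊓ fix s') = ⊥ := by
  rw [eq_bot_iff]
  rintro x ⟨hx, hx1, hx2⟩
  exact Subgroup.mem_bot.2 (h.eq_one_of_mem hx hx1 hx2)

theorem card_sup {D E : Subgroup A} (hDE : D ⊓ E = ⊥) :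
    Nat.card (D ⊔ E : Subgroup A) = Nat.card D * Nat.card E := by
  rw [← Nat.card_prod]
  refine (Nat.card_congr (Equiv.ofBijective
    (fun x : D × E => (⟨(x.1 : A) * x.2, Subgroup.mul_mem_sup x.1.2 x.2.2⟩ : (D ⊔ E : Subgroup A)))
    ⟨?_, ?_⟩)).symm
  · rintro ⟨a, b⟩ ⟨c, d⟩ hab
    have h1 : (a : A) * b = c * d := congrArg Subtype.val hab
    have h2 : (c : A)⁻¹ * a = d * (b : A)⁻¹ := by
      rw [inv_mul_eq_iff_eq_mul, ← mul_assoc, ← h1, mul_inv_cancel_right]
    have h3 : (c : A)⁻¹ * a ∈ D ⊓ E :=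
      ⟨D.mul_mem (D.inv_mem c.2) a.2, h2 ▸ E.mul_mem d.2 (E.inv_mem b.2)⟩
    rw [hDE, Subgroup.mem_bot] at h3
    have h4 : (a : A) = c := (inv_mul_eq_one.1 h3).symm
    rw [h3] at h2
    have h5 : (d : A) = b := mul_inv_eq_one.1 h2.symm
    exact Prod.ext (Subtype.ext h4) (Subtype.ext h5.symm)
  · rintro ⟨x, hx⟩
    obtain ⟨y, hy, z, hz, rfl⟩ := Subgroup.mem_sup.1 hx
    exact ⟨(⟨y, hy⟩, ⟨z, hz⟩), rfl⟩

theorem card_V (h : Two p G s s') : Nat.card (com s ⊔ com s' : Subgroup A) = p ^ 2 := by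
  rw [card_sup, h.cs, h.cs', pow_two]
  rw [eq_bot_iff]
  rintro x ⟨hx, hx'⟩
  exact Subgroup.mem_bot.2 (h.symm.com_inf_fix hx' (h.com_le_fix_self hx))

theorem card_fix (h : Two p G s s') : p * Nat.card (fix s) = Nat.card A := by
  rw [← card_com_mul_card_fix s, h.cs]

/-- `C_A(s) = [A,s] × (C_A(s) ∩ C_A(s'))`. -/
theorem fix_le (h : Two p G s s') {x : A} (hx : x ∈ fix s) :
    ∃ d ∈ com s, x * d ∈ fix s ⊓ fix s' := by
  by_cases hx' : x ∈ fix s'
  · exact ⟨1, (com s).one_mem, by rw [mul_one]; exact ⟨hx, hx'⟩⟩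
  · -- `del s'` maps `com s` onto `com s'`
    have hnt : Nontrivial (com s) := by
      rw [← Finite.one_lt_card_iff_nontrivial, h.cs]
      exact hp.out.one_lt
    obtain ⟨⟨d, hd⟩, hd1⟩ := exists_ne (1 : com s)
    have hd1' : d ≠ 1 := fun e => hd1 (Subtype.ext e)
    have hd2 : del s' d ≠ 1 := by
      intro e
      exact hd1' (h.com_inf_fix hd e)
    obtain ⟨n, hn⟩ := exists_zpow_eq h.cs' (del_mem_com s' d) hd2
      ((com s').inv_mem (del_mem_com s' x))
    refine ⟨d ^ n, (com s).zpow_mem hd n, ?_, ?_⟩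
    · exact (fix s).mul_mem hx ((fix s).zpow_mem (h.com_le_fix_self hd) n)
    · show del s' (x * d ^ n) = 1
      rw [map_mul, map_zpow, hn, mul_inv_cancel]

theorem mem_sup_all (h : Two p G s s') (x : A) :
    ∃ v ∈ com s ⊔ com s', x * v ∈ fix s ⊓ fix s' := by
  -- first correct by an element of `com s'` to get into `fix s`
  have hnt : Nontrivial (com s') := by
    rw [← Finite.one_lt_card_iff_nontrivial, h.cs']
    exact hp.out.one_lt
  obtain ⟨⟨d, hd⟩, hd1⟩ := exists_ne (1 : com s')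
  have hd1' : d ≠ 1 := fun e => hd1 (Subtype.ext e)
  have hd2 : del s d ≠ 1 := by
    intro e
    exact hd1' (h.symm.com_inf_fix hd e)
  obtain ⟨n, hn⟩ := exists_zpow_eq h.cs (del_mem_com s d) hd2 ((com s).inv_mem (del_mem_com s x))
  have h1 : x * d ^ n ∈ fix s := by
    show del s (x * d ^ n) = 1
    rw [map_mul, map_zpow, hn, mul_inv_cancel]
  obtain ⟨e, he, h2⟩ := h.fix_le h1
  refine ⟨d ^ n * e, ?_, ?_⟩
  · exact Subgroup.mul_mem _ ((le_sup_right : com s' ≤ _) ((com s').zpow_mem hd n))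
      ((le_sup_left : com s ≤ _) he)
  · rw [← mul_assoc]
    exact h2

theorem sup_eq_top (h : Two p G s s') : (com s ⊔ com s') ⊔ (fix s ⊓ fix s') = ⊤ := by
  rw [eq_top_iff]
  intro x _
  obtain ⟨v, hv, hx⟩ := h.mem_sup_all x
  have e : x = v⁻¹ * (x * v) := by rw [mul_comm x v, inv_mul_cancel_left]
  rw [e]
  exact Subgroup.mul_mem_sup (Subgroup.inv_mem _ hv) hx

/-- Every element of `V` outside `[A,s']` is moved into `[A,s]` by a power of `s'`. -/
theorem exists_move (h : Two p G s s') {x : A} (hx : x ∈ com s ⊔ com s') (hx' : x ∉ com s') :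
    ∃ n : ℤ, (s' ^ n) x ∈ com s := by
  obtain ⟨y, hy, z, hz, rfl⟩ := Subgroup.mem_sup.1 hx
  have hy1 : y ≠ 1 := by
    rintro rfl
    rw [one_mul] at hx'
    exact hx' hz
  have hd2 : del s' y ≠ 1 := by
    intro e
    exact hy1 (h.com_inf_fix hy e)
  obtain ⟨n, hn⟩ := exists_zpow_eq h.cs' (del_mem_com s' y) hd2 ((com s').inv_mem hz)
  have hz' : z ∈ fix s' := h.symm.com_le_fix_self hz
  have hw : del s' y ∈ fix s' := h.symm.com_le_fix_self (del_mem_com s' y)
  refine ⟨n, ?_⟩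
  rw [map_mul, zpow_apply hw, hn, zpow_apply_of_mem_fix hz' n, mul_assoc, inv_mul_cancel, mul_one]
  exact hy

theorem apply_mem_V (h : Two p G s s') {x : A} (hx : x ∈ com s ⊔ com s') (n : ℤ) :
    (s' ^ n) x ∈ com s ⊔ com s' := by
  have h0 : s' ∈ moveIn (com s') := fun x => del_mem_com s' x
  have h1 : s' ^ n ∈ moveIn (com s') := Subgroup.zpow_mem _ h0 n
  have h2 := Subgroup.mul_mem _ hx ((le_sup_right : com s' ≤ com s ⊔ com s') (h1 x))
  rwa [mul_inv_cancel_left] at h2

/-- **All transvections of `G` live on `V × C`.** -/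
theorem all (h : Two p G s s') {r : MulAut A} (hrG : r ∈ G) (hr : orderOf r = p)
    (hrc : Nat.card (com r) = p) : com r ≤ com s ⊔ com s' ∧ fix s ⊓ fix s' ≤ fix r := by
  -- a nontrivial element of `V ∩ fix r`
  obtain ⟨x, hxV, hxr, hx1⟩ : ∃ x ∈ com s ⊔ com s', x ∈ fix r ∧ x ≠ 1 := by
    by_contra hcon
    push Not at hcon
    have h1 : (com s ⊔ com s') ⊓ fix r = ⊥ := by
      rw [eq_bot_iff]
      rintro x ⟨hx, hx'⟩
      exact Subgroup.mem_bot.2 (hcon x hx hx')
    have h2 := card_sup h1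
    have h3 : Nat.card ((com s ⊔ com s') ⊔ fix r : Subgroup A) ≤ Nat.card A :=
      Subgroup.card_le_card_group _
    have h4 := card_com_mul_card_fix r
    rw [hrc] at h4
    rw [h2, h.card_V, ← h4, pow_two, mul_assoc] at h3
    have h5 : 0 < Nat.card (fix r) := Nat.card_pos
    have h6 : 0 < p * Nat.card (fix r) := Nat.mul_pos hp.out.pos h5
    have h7 : p * (p * Nat.card (fix r)) ≤ 1 * (p * Nat.card (fix r)) := by rwa [one_mul]
    have h8 := Nat.le_of_mul_le_mul_right h7 h6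
    exact absurd hp.out.one_lt (not_lt.2 h8)
  by_cases hx2 : x ∈ com s'
  · have h1 : com s' ≤ fix r := le_of_card_prime_of_mem h.cs' hx2 hx1 hxr
    have h2 := zpowers_eq_of_com_le_fix h.pgroup h.small h.s'G hrG h.os' hr h.cs' hrc h1
    rw [← com_eq_of_zpowers_eq h2, ← fix_eq_of_zpowers_eq h2]
    exact ⟨le_sup_right, inf_le_right⟩
  · obtain ⟨n, hn⟩ := h.exists_move hxV hx2
    set k := s' ^ n with hk
    have hkG : k ∈ G := G.zpow_mem h.s'G n
    set t := k⁻¹ * s * k⁻¹⁻¹ with ht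
    have htG : t ∈ G := G.mul_mem (G.mul_mem (G.inv_mem hkG) h.sG) (G.inv_mem (G.inv_mem hkG))
    have hto : orderOf t = p := by
      rw [← h.os]
      exact orderOf_injective (MulAut.conj k⁻¹).toMonoidHom (MulAut.conj k⁻¹).injective s
    have htc : Nat.card (com t) = p := by rw [ht, card_com_conj, h.cs]
    have hxt : x ∈ com t := by
      rw [ht, mem_com_conj, inv_inv]
      exact hn
    have h1 : com t ≤ fix r := le_of_card_prime_of_mem htc hxt hx1 hxr
    have h2 := zpowers_eq_of_com_le_fix h.pgroup h.small htG hrG hto hr htc hrc h1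
    rw [← com_eq_of_zpowers_eq h2, ← fix_eq_of_zpowers_eq h2]
    constructor
    · intro y hy
      rw [ht, mem_com_conj, inv_inv] at hy
      have h3 := h.apply_mem_V ((le_sup_left : com s ≤ com s ⊔ com s') hy) (-n)
      rw [zpow_neg, ← hk, MulAut.inv_apply_self] at h3
      exact h3
    · rintro y ⟨hy1, hy2⟩
      rw [ht, mem_fix_conj, inv_inv]
      have h3 : k y = y := mem_fix.1 (fix_le_of_mem_zpowers (Subgroup.zpow_mem_zpowers s' n) hy2)
      rw [h3]
      exact hy1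

theorem V_inv (h : Two p G s s') {g : MulAut A} (hg : g ∈ G) {x : A}
    (hx : x ∈ com s ⊔ com s') : g x ∈ com s ⊔ com s' := by
  have key : ∀ r ∈ G, orderOf r = p → Nat.card (com r) = p → ∀ y ∈ com r,
      g y ∈ com s ⊔ com s' := by
    intro r hr hro hrc y hy
    have h1 := (h.all (G.mul_mem (G.mul_mem hg hr) (G.inv_mem hg))
      (by rw [← hro]; exact orderOf_injective (MulAut.conj g).toMonoidHom (MulAut.conj g).injective r)
      (by rw [card_com_conj, hrc])).1
    refine h1 ?_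
    rw [mem_com_conj, MulAut.inv_apply_self]
    exact hy
  obtain ⟨y, hy, z, hz, rfl⟩ := Subgroup.mem_sup.1 hx
  rw [map_mul]
  exact Subgroup.mul_mem _ (key s h.sG h.os h.cs y hy) (key s' h.s'G h.os' h.cs' z hz)

theorem C_inv (h : Two p G s s') {g : MulAut A} (hg : g ∈ G) {x : A}
    (hx : x ∈ fix s ⊓ fix s') : g x ∈ fix s ⊓ fix s' := by
  have key : ∀ r ∈ G, orderOf r = p → Nat.card (com r) = p → g x ∈ fix r := by
    intro r hr hro hrc
    have h1 := (h.all (G.mul_mem (G.mul_mem (G.inv_mem hg) hr) (G.inv_mem (G.inv_mem hg)))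
      (by rw [← hro]; exact orderOf_injective (MulAut.conj g⁻¹).toMonoidHom
            (MulAut.conj g⁻¹).injective r)
      (by rw [card_com_conj, hrc])).2 hx
    rw [mem_fix_conj, inv_inv] at h1
    exact h1
  exact ⟨key s h.sG h.os h.cs, key s' h.s'G h.os' h.cs'⟩

theorem zpow_eq_of_dvd {x : A} (hx : x ^ p = 1) {m n : ℤ} (h : (p : ℤ) ∣ m - n) :
    x ^ m = x ^ n := by
  obtain ⟨k, hk⟩ := h
  have e : m = n + p * k := by omega
  rw [e, zpow_add, zpow_mul, zpow_natCast, hx, one_zpow, mul_one]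

theorem pow_eq_one_of_mem_com (h : Two p G s s') {x : A} (hx : x ∈ com s) : x ^ p = 1 := by
  have h1 : (⟨x, hx⟩ : com s) ^ Nat.card (com s) = 1 := pow_card_eq_one'
  rw [h.cs] at h1
  exact congrArg Subtype.val h1

theorem pow_eq_one_of_mem_V (h : Two p G s s') {x : A} (hx : x ∈ com s ⊔ com s') : x ^ p = 1 := by
  obtain ⟨y, hy, z, hz, rfl⟩ := Subgroup.mem_sup.1 hx
  rw [mul_pow, h.pow_eq_one_of_mem_com hy, h.symm.pow_eq_one_of_mem_com hz, one_mul]

/-- **The torus of `⟨s, s'⟩ ≅ SL₂(p)`.** -/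
theorem torus (h : Two p G s s') {l l' : ℤ} (hl : (p : ℤ) ∣ l * l' - 1) :
    ∃ t ∈ G, (∀ x ∈ com s, t x = x ^ l) ∧ (∀ x ∈ com s', t x = x ^ l') ∧
      (∀ x ∈ fix s ⊓ fix s', t x = x) ∧ t * s * t⁻¹ = s ^ (l ^ 2) := by
  have hnt : Nontrivial (com s') := by
    rw [← Finite.one_lt_card_iff_nontrivial, h.cs']
    exact hp.out.one_lt
  obtain ⟨⟨v2, hv2⟩, hv2ne⟩ := exists_ne (1 : com s')
  have hv2' : v2 ≠ 1 := fun e => hv2ne (Subtype.ext e)
  set v1 := del s v2 with hv1
  have hv1m : v1 ∈ com s := del_mem_com s v2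
  have hv1ne : v1 ≠ 1 := fun e => hv2' (h.symm.com_inf_fix hv2 e)
  have hv1f : v1 ∈ fix s := h.com_le_fix_self hv1m
  have hv2f : v2 ∈ fix s' := h.symm.com_le_fix_self hv2
  have hwm : del s' v1 ∈ com s' := del_mem_com s' v1
  have hwne : del s' v1 ≠ 1 := fun e => hv1ne (h.com_inf_fix hv1m e)
  have hwf : del s' v1 ∈ fix s' := h.symm.com_le_fix_self hwm
  obtain ⟨m, hm⟩ := exists_zpow_eq h.cs' hwm hwne ((com s').inv_mem hv2)
  have hv1p : v1 ^ p = 1 := h.pow_eq_one_of_mem_com hv1m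
  have hv2p : v2 ^ p = 1 := h.symm.pow_eq_one_of_mem_com hv2
  -- the elementary actions
  have a1 : ∀ n : ℤ, (s ^ n) v1 = v1 := fun n => zpow_apply_of_mem_fix hv1f n
  have a2 : ∀ n : ℤ, (s ^ n) v2 = v2 * v1 ^ n := fun n => zpow_apply hv1f n
  have b2 : ∀ n : ℤ, (s' ^ (m * n)) v2 = v2 := fun n => zpow_apply_of_mem_fix hv2f _
  have b1 : ∀ n : ℤ, (s' ^ (m * n)) v1 = v1 * v2 ^ (-n) := by
    intro n
    rw [zpow_apply hwf, zpow_mul, hm, inv_zpow, zpow_neg]
  have W : ∀ n n' : ℤ, (p : ℤ) ∣ n * n' - 1 → ∃ w ∈ G, w v1 = v2 ^ (-n') ∧ w v2 = v1 ^ n ∧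
      ∀ x ∈ fix s ⊓ fix s', w x = x := by
    intro n n' hnn
    refine ⟨s ^ n * s' ^ (m * n') * s ^ n, G.mul_mem (G.mul_mem (G.zpow_mem h.sG _)
      (G.zpow_mem h.s'G _)) (G.zpow_mem h.sG _), ?_, ?_, ?_⟩
    · rw [MulAut.mul_apply, MulAut.mul_apply, a1, b1, map_mul, map_zpow, a1, a2, mul_zpow,
        ← zpow_mul]
      have e : v1 ^ (n * -n') = v1⁻¹ := by
        have h2 : (p : ℤ) ∣ (n * -n') - (-1) := by
          obtain ⟨k, hk⟩ := hnn
          exact ⟨-k, by linear_combination -hk⟩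
        rw [zpow_eq_of_dvd hv1p h2, zpow_neg, zpow_one]
      rw [e, mul_comm v1, mul_assoc, inv_mul_cancel, mul_one]
    · rw [MulAut.mul_apply, MulAut.mul_apply, a2, map_mul, map_zpow, b1, b2, mul_zpow, ← zpow_mul]
      have e : v2 ^ (-n' * n) = v2⁻¹ := by
        have h2 : (p : ℤ) ∣ (-n' * n) - (-1) := by
          obtain ⟨k, hk⟩ := hnn
          exact ⟨-k, by linear_combination -hk⟩
        rw [zpow_eq_of_dvd hv2p h2, zpow_neg, zpow_one]
      rw [e, mul_comm v2, mul_assoc, inv_mul_cancel, mul_one, map_zpow, a1]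
    · rintro x ⟨hx1, hx2⟩
      rw [MulAut.mul_apply, MulAut.mul_apply, zpow_apply_of_mem_fix hx1, zpow_apply_of_mem_fix hx2,
        zpow_apply_of_mem_fix hx1]
  obtain ⟨w1, hw1G, hw11, hw12, hw1C⟩ := W 1 1 (by simp)
  obtain ⟨w2, hw2G, hw21, hw22, hw2C⟩ := W (-l) (-l') (by rwa [neg_mul_neg])
  have t1 : (w2 * w1) v1 = v1 ^ l := by
    rw [MulAut.mul_apply, hw11, map_zpow, hw22, ← zpow_mul]
    congr 1
    ring
  have t2 : (w2 * w1) v2 = v2 ^ l' := by
    rw [MulAut.mul_apply, hw12, zpow_one, hw21, neg_neg]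
  have tc1 : ∀ x ∈ com s, (w2 * w1) x = x ^ l := by
    intro x hx
    obtain ⟨n, rfl⟩ := exists_zpow_eq h.cs hv1m hv1ne hx
    rw [map_zpow, t1, ← zpow_mul, ← zpow_mul, mul_comm]
  have tc2 : ∀ x ∈ com s', (w2 * w1) x = x ^ l' := by
    intro x hx
    obtain ⟨n, rfl⟩ := exists_zpow_eq h.cs' hv2 hv2' hx
    rw [map_zpow, t2, ← zpow_mul, ← zpow_mul, mul_comm]
  have tC : ∀ x ∈ fix s ⊓ fix s', (w2 * w1) x = x := by
    intro x hx
    rw [MulAut.mul_apply, hw1C x hx, hw2C x hx]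
  refine ⟨w2 * w1, G.mul_mem hw2G hw1G, tc1, tc2, tC, ?_⟩
  rw [mul_inv_eq_iff_eq_mul]
  set t := w2 * w1 with ht
  have key : (⊤ : Subgroup A) ≤
      MonoidHom.eqLocus (t * s).toMonoidHom (s ^ (l ^ 2) * t).toMonoidHom := by
    rw [← h.sup_eq_top]
    refine sup_le (sup_le ?_ ?_) ?_
    · intro x hx
      show t (s x) = (s ^ (l ^ 2)) (t x)
      rw [mem_fix.1 (h.com_le_fix_self hx), tc1 x hx, map_zpow,
        zpow_apply_of_mem_fix (h.com_le_fix_self hx)]
    · intro x hx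
      obtain ⟨n, rfl⟩ := exists_zpow_eq h.cs' hv2 hv2' hx
      show t (s (v2 ^ n)) = (s ^ (l ^ 2)) (t (v2 ^ n))
      have e1 : t (s v2) = (s ^ (l ^ 2)) (t v2) := by
        have e2 : s v2 = v2 * v1 := by rw [hv1, ← apply_eq_mul_del]
        rw [e2, map_mul, t1, t2, map_zpow, a2, mul_zpow, ← zpow_mul]
        congr 1
        apply zpow_eq_of_dvd hv1p
        obtain ⟨k, hk⟩ := hl
        exact ⟨-(l * k), by linear_combination (-l) * hk⟩
      rw [map_zpow, map_zpow, map_zpow, map_zpow, e1]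
    · intro x hx
      show t (s x) = (s ^ (l ^ 2)) (t x)
      rw [mem_fix.1 hx.1, tC x hx, zpow_apply_of_mem_fix hx.1]
  exact MulEquiv.ext fun x => key (Subgroup.mem_top x)

/-- Frattini argument: `G = ⟨s, s'⟩ N_G(⟨s⟩)`, the elements of `⟨s, s'⟩` moving only inside `V` and fixing `C`. -/
theorem frattini (h : Two p G s s') {a : MulAut A} (ha : a ∈ G) :
    ∃ k ∈ G, (∀ x, x⁻¹ * k x ∈ com s ⊔ com s') ∧ (∀ x ∈ fix s ⊓ fix s', k x = x) ∧
      (k * a) * s * (k * a)⁻¹ ∈ Subgroup.zpowers s := by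
  -- a nontrivial element of `[A,s]`
  have hnt : Nontrivial (com s) := by
    rw [← Finite.one_lt_card_iff_nontrivial, h.cs]
    exact hp.out.one_lt
  obtain ⟨⟨d, hd⟩, hd1⟩ := exists_ne (1 : com s)
  have hd1' : d ≠ 1 := fun e => hd1 (Subtype.ext e)
  have hadV : a d ∈ com s ⊔ com s' := h.V_inv ha ((le_sup_left : com s ≤ _) hd)
  have had1 : a d ≠ 1 := fun e => hd1' (a.injective (e.trans (map_one a).symm))
  have hsV : s ∈ moveIn (com s ⊔ com s') := fun x => (le_sup_left : com s ≤ _) (del_mem_com s x)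
  have hs'V : s' ∈ moveIn (com s ⊔ com s') := fun x => (le_sup_right : com s' ≤ _) (del_mem_com s' x)
  have hsC : s ∈ fixing (fix s ⊓ fix s') := fun x hx => mem_fix.1 hx.1
  have hs'C : s' ∈ fixing (fix s ⊓ fix s') := fun x hx => mem_fix.1 hx.2
  obtain ⟨k, hkG, hkV, hkC, hk⟩ : ∃ k ∈ G, k ∈ moveIn (com s ⊔ com s') ∧
      k ∈ fixing (fix s ⊓ fix s') ∧ k (a d) ∈ com s := by
    by_cases h1 : a d ∈ com s'
    · have h2 : s (a d) ∈ com s ⊔ com s' := h.V_inv h.sG hadV
      have h3 : s (a d) ∉ com s' := by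
        intro h3
        have h4 : del s (a d) ∈ com s' := (com s').mul_mem ((com s').inv_mem h1) h3
        have h5 : del s (a d) = 1 := h.com_inf_fix (del_mem_com s _) (h.symm.com_le_fix_self h4)
        exact had1 (h.symm.com_inf_fix h1 h5)
      obtain ⟨n, hn⟩ := h.exists_move h2 h3
      exact ⟨s' ^ n * s, G.mul_mem (G.zpow_mem h.s'G n) h.sG,
        Subgroup.mul_mem _ (Subgroup.zpow_mem _ hs'V n) hsV,
        Subgroup.mul_mem _ (Subgroup.zpow_mem _ hs'C n) hsC, hn⟩
    · obtain ⟨n, hn⟩ := h.exists_move hadV h1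
      exact ⟨s' ^ n, G.zpow_mem h.s'G n, Subgroup.zpow_mem _ hs'V n, Subgroup.zpow_mem _ hs'C n, hn⟩
  refine ⟨k, hkG, hkV, hkC, ?_⟩
  set b := k * a with hb
  have hbG : b ∈ G := G.mul_mem hkG ha
  set t := b * s * b⁻¹ with ht
  have htG : t ∈ G := G.mul_mem (G.mul_mem hbG h.sG) (G.inv_mem hbG)
  have hto : orderOf t = p := by
    rw [← h.os]
    exact orderOf_injective (MulAut.conj b).toMonoidHom (MulAut.conj b).injective s
  have htc : Nat.card (com t) = p := by rw [ht, card_com_conj, h.cs]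
  have hx : b d ∈ com t := by
    rw [ht, mem_com_conj, MulAut.inv_apply_self]
    exact hd
  have hbd1 : b d ≠ 1 := fun e => hd1' (b.injective (e.trans (map_one b).symm))
  have h1 : com t ≤ fix s := le_of_card_prime_of_mem htc hx hbd1 (h.com_le_fix_self hk)
  have h2 := zpowers_eq_of_com_le_fix h.pgroup h.small htG h.sG hto h.os htc h.cs h1
  rw [← h2]
  exact Subgroup.mem_zpowers t

end Two

end Comm

/-- The output of the two-transvection lemma. -/
structure Decomp {A : Type*} [Group A] (p : ℕ) (G : Subgroup (MulAut A)) (s : MulAut A)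
    (V C D D' : Subgroup A) : Prop where
  cardD : Nat.card D = p
  cardD' : Nat.card D' = p
  cardV : Nat.card V = p ^ 2
  D_le : D ≤ V
  D'_le : D' ≤ V
  V_le : V ≤ D ⊔ D'
  D_inf : ∀ x ∈ D, x ∈ D' → x = 1
  V_inf : ∀ x ∈ V, x ∈ C → x = 1
  exists_mul : ∀ x, ∃ v ∈ V, ∃ c ∈ C, v * c = x
  fix_le : ∀ x, s x = x → ∃ d ∈ D, ∃ c ∈ C, d * c = x
  expV : ∀ x ∈ V, x ^ p = 1
  moveD : ∀ x, x⁻¹ * s x ∈ D
  fixD : ∀ x ∈ D, s x = x
  onto : ∀ x ∈ D, ∃ y ∈ D', y⁻¹ * s y = x
  fixC : ∀ x ∈ C, s x = x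
  V_inv : ∀ a ∈ G, ∀ x ∈ V, a x ∈ V
  C_inv : ∀ a ∈ G, ∀ x ∈ C, a x ∈ C
  torus : ∀ l l' : ℤ, (p : ℤ) ∣ l * l' - 1 → ∃ t ∈ G, (∀ x ∈ D, t x = x ^ l) ∧
    (∀ x ∈ D', t x = x ^ l') ∧ (∀ x ∈ C, t x = x) ∧ t * s * t⁻¹ = s ^ (l ^ 2)
  frattini : ∀ a ∈ G, ∃ k ∈ G, (∀ x, x⁻¹ * k x ∈ V) ∧ (∀ x ∈ C, k x = x) ∧
    (k * a) * s * (k * a)⁻¹ ∈ Subgroup.zpowers s

/-- **The two-transvection lemma**, for a group with commutative multiplication. -/
theorem exists_decomp {A : Type*} [Group A] [Finite A] {p : ℕ} [hp : Fact p.Prime]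
    (hc : ∀ x y : A, x * y = y * x) (hA : IsPGroup p A) {G : Subgroup (MulAut A)}
    (small : ∀ B : Subgroup (MulAut A), B ≤ G → IsPGroup p B → Nat.card B ≤ p) {s : MulAut A}
    (sG : s ∈ G) (os : orderOf s = p) (Z : Subgroup A) (hZ : ∀ x, x ∈ Z ↔ s x = x)
    (hZc : p * Nat.card Z = Nat.card A) {g : MulAut A} (gG : g ∈ G)
    (hg : g * s * g⁻¹ ∉ Subgroup.zpowers s) :
    ∃ V C D D' : Subgroup A, Decomp p G s V C D D' := by
  letI : CommGroup A := { ‹Group A› with mul_comm := hc }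
  have hfix : fix s = Z := by
    ext x
    rw [mem_fix, hZ]
  have hcom : Nat.card (com s) = p := by
    have h1 := card_com_mul_card_fix s
    rw [hfix, ← hZc] at h1
    exact Nat.eq_of_mul_eq_mul_right Nat.card_pos h1
  have hos' : orderOf (g * s * g⁻¹) = p := by
    rw [← os]
    exact orderOf_injective (MulAut.conj g).toMonoidHom (MulAut.conj g).injective s
  have h : Two p G s (g * s * g⁻¹) :=
    ⟨hA, small, sG, G.mul_mem (G.mul_mem gG sG) (G.inv_mem gG), os, hos', hcom,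
      by rw [card_com_conj, hcom], fun e => hg (by rw [e]; exact Subgroup.mem_zpowers _)⟩
  set s' := g * s * g⁻¹ with hs'
  refine ⟨com s ⊔ com s', fix s ⊓ fix s', com s, com s', ?_⟩
  exact
    { cardD := h.cs
      cardD' := h.cs'
      cardV := h.card_V
      D_le := le_sup_left
      D'_le := le_sup_right
      V_le := le_rfl
      D_inf := fun x hx hx' => h.com_inf_fix hx (h.symm.com_le_fix_self hx')
      V_inf := fun x hx hx' => h.eq_one_of_mem hx hx'.1 hx'.2
      exists_mul := fun x => by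
        obtain ⟨v, hv, hx⟩ := h.mem_sup_all x
        exact ⟨v⁻¹, Subgroup.inv_mem _ hv, x * v, hx, by rw [mul_comm x v, inv_mul_cancel_left]⟩
      fix_le := fun x hx => by
        obtain ⟨d, hd, hx⟩ := h.fix_le (mem_fix.2 hx)
        exact ⟨d⁻¹, Subgroup.inv_mem _ hd, x * d, hx, by rw [mul_comm x d, inv_mul_cancel_left]⟩
      expV := fun x hx => h.pow_eq_one_of_mem_V hx
      moveD := fun x => del_mem_com s x
      fixD := fun x hx => mem_fix.1 (h.com_le_fix_self hx)
      onto := fun x hx => by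
        have hnt : Nontrivial (com s') := by
          rw [← Finite.one_lt_card_iff_nontrivial, h.cs']
          exact hp.out.one_lt
        obtain ⟨⟨d, hd⟩, hd1⟩ := exists_ne (1 : com s')
        have hd2 : del s d ≠ 1 := fun e => hd1 (Subtype.ext (h.symm.com_inf_fix hd e))
        obtain ⟨n, hn⟩ := exists_zpow_eq h.cs (del_mem_com s d) hd2 hx
        refine ⟨d ^ n, Subgroup.zpow_mem _ hd n, ?_⟩
        have h1 : del s (d ^ n) = x := by rw [map_zpow, hn]
        exact h1
      fixC := fun x hx => mem_fix.1 hx.1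
      V_inv := fun a ha x hx => h.V_inv ha hx
      C_inv := fun a ha x hx => h.C_inv ha hx
      torus := fun l l' hl => h.torus hl
      frattini := fun a ha => h.frattini ha }

end Cfsg.Agent.H785
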