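import Mathlib
import Cfsg.Agent.H336.SpSix.Def

/-!
# Elementary abelian subgroups of order 64 with symplectic normaliser and long involutions (helper785)

* `Lg j J` : `j` is the only involution of `J`, `J` is normalised by `C(j)`, and the facts on `J ≅ SL₂(q)`, `q` odd, which are
  needed;
* `false_of_lg` : if the index of `C(j)` is odd, there are no `th`, `O`, `K0` with `Sit th O K0`.
-/

set_option autoImplicit false
set_option linter.unusedSectionVars false

namespace Cfsg.Agent.H785.SpLong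

open Subgroup Cfsg.Agent.H336.SpSix
open scoped Pointwise

/-- normalizers grow in `p`-groups -/
theorem exists_norm {G : Type*} [Group G] [Finite G] {p : ℕ} [Fact p.Prime] {T S : Subgroup G} (hS : IsPGroup p S)
    (h : T < S) : ∃ g ∈ S, g ∉ T ∧ ∀ t ∈ T, g * t * g⁻¹ ∈ T := by
  have hnil : Group.IsNilpotent S := hS.isNilpotent
  have hlt : T.subgroupOf S < ⊤ := by
    rw [lt_top_iff_ne_top]
    intro h1
    rw [Subgroup.subgroupOf_eq_top] at h1
    exact (lt_iff_le_not_ge.1 h).2 h1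
  obtain ⟨g, hg, hgT⟩ := SetLike.exists_of_lt
    (Group.normalizerCondition_of_isNilpotent (G := S) (T.subgroupOf S) hlt)
  refine ⟨g, g.2, fun h => hgT (mem_subgroupOf.2 h), fun t ht => ?_⟩
  have := (mem_normalizer_iff.1 hg ⟨t, h.le ht⟩).1 ht
  exact this

/-- elements of `H N`, `H` normalising `N` -/
theorem mem_sup_nrm {G : Type*} [Group G] {H N : Subgroup G} (hn : H ≤ normalizer (N : Set G)) {x : G}
    (hx : x ∈ H ⊔ N) : ∃ a ∈ H, ∃ b ∈ N, x = a * b := by
  have hc : ∀ a ∈ H, ∀ b ∈ N, a * b * a⁻¹ ∈ N := fun a ha b hb => (mem_normalizer_iff.1 (hn ha) b).1 hb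
  let S : Subgroup G :=
    { carrier := {x | ∃ a ∈ H, ∃ b ∈ N, x = a * b}
      one_mem' := ⟨1, one_mem _, 1, one_mem _, by simp⟩
      mul_mem' := by
        rintro _ _ ⟨a, ha, b, hb, rfl⟩ ⟨a', ha', b', hb', rfl⟩
        refine ⟨a * a', mul_mem ha ha', a'⁻¹ * b * a' * b', mul_mem ?_ hb', by group⟩
        have := hc a'⁻¹ (inv_mem ha') b hb
        rwa [inv_inv] at this
      inv_mem' := by
        rintro _ ⟨a, ha, b, hb, rfl⟩
        exact ⟨a⁻¹, inv_mem ha, a * b⁻¹ * a⁻¹, hc a ha _ (inv_mem hb), by group⟩ }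
  have h1 : H ⊔ N ≤ S := sup_le (fun a ha => ⟨a, ha, 1, one_mem _, by simp⟩) (fun b hb => ⟨1, one_mem _, b, hb, by simp⟩)
  exact h1 hx

/-- `j` is a long involution: the facts needed -/
structure Lg {K : Type*} [Group K] (j : K) (J : Subgroup K) : Prop where
  ne : j ≠ 1
  sq : j * j = 1
  mem : j ∈ J
  cent : ∀ x ∈ J, x * j = j * x
  nrm : ∀ g : K, g * j = j * g → ∀ x ∈ J, g * x * g⁻¹ ∈ J
  inv : ∀ x ∈ J, x * x = 1 → x = 1 ∨ x = j
  core : ∀ D : Subgroup K, D ≤ J → (∀ g ∈ J, ∀ x ∈ D, g * x * g⁻¹ ∈ D) → Odd (Nat.card D) → D = ⊥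
  four : 4 ∣ Nat.card J
  ctr : ∀ x ∈ J, (∀ y ∈ J, x * y = y * x) → x * x = 1
  bound : ∀ f : V → K, (∀ u v, f (u + v) = f u * f v) → (∀ u, f u * j = j * f u) → Function.Injective f →
    ∃ c, c ≠ 0 ∧ f c ≠ j ∧ ∀ x ∈ J, f c * x = x * f c

theorem Lg.map {K K' : Type*} [Group K] [Group K'] {j : K} {J : Subgroup K} (L : Lg j J) (e : K ≃* K') :
    Lg (e j) (J.map e.toMonoidHom) := by
  have hm : ∀ y : K', y ∈ J.map e.toMonoidHom ↔ e.symm y ∈ J := fun y => mem_map_equiv
  have hj : e.symm (e j) = j := e.symm_apply_apply j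
  have back : ∀ x y : K', e.symm x = e.symm y → x = y := fun x y h => e.symm.injective h
  refine ⟨?_, ?_, ?_, ?_, ?_, ?_, ?_, ?_, ?_, ?_⟩
  · intro h1
    exact L.ne (e.injective (by rw [h1, map_one]))
  · rw [← map_mul, L.sq, map_one]
  · rw [hm, hj]; exact L.mem
  · intro x hx
    apply back
    rw [map_mul, map_mul, hj]
    exact L.cent _ ((hm x).1 hx)
  · intro g hg x hx
    rw [hm, map_mul, map_mul, map_inv]
    refine L.nrm _ ?_ _ ((hm x).1 hx)
    have := congrArg e.symm hg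
    rwa [map_mul, map_mul, hj] at this
  · intro x hx h1
    have h2 := congrArg e.symm h1
    rw [map_mul, map_one] at h2
    rcases L.inv _ ((hm x).1 hx) h2 with h3 | h3
    · left
      apply back
      rw [h3, map_one]
    · right
      apply back
      rw [h3, hj]
  · intro D hD hn hodd
    have h1 : D.map e.symm.toMonoidHom = ⊥ := by
      refine L.core _ ?_ ?_ ?_
      · rintro _ ⟨x, hx, rfl⟩
        exact (hm x).1 (hD hx)
      · rintro g hg _ ⟨x, hx, rfl⟩
        refine ⟨e g * x * (e g)⁻¹, hn _ (by rw [hm, e.symm_apply_apply]; exact hg) x hx, ?_⟩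
        show e.symm (e g * x * (e g)⁻¹) = g * e.symm x * g⁻¹
        rw [map_mul, map_mul, map_inv, e.symm_apply_apply]
      · rwa [Nat.card_congr (D.equivMapOfInjective e.symm.toMonoidHom e.symm.injective).toEquiv.symm]
    exact (Subgroup.map_eq_bot_iff_of_injective _ e.symm.injective).1 h1
  · rw [Nat.card_congr (J.equivMapOfInjective e.toMonoidHom e.injective).toEquiv.symm]
    exact L.four
  · intro x hx h1
    apply back
    rw [map_mul, map_one]
    refine L.ctr _ ((hm x).1 hx) fun y hy => ?_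
    have h2 := congrArg e.symm (h1 (e y) (by rw [hm, e.symm_apply_apply]; exact hy))
    rwa [map_mul, map_mul, e.symm_apply_apply] at h2
  · intro f hf hfj hfi
    obtain ⟨c, hc, hcj, hcJ⟩ := L.bound (fun v => e.symm (f v)) (fun u v => by rw [hf, map_mul]) (fun u => by
      have := congrArg e.symm (hfj u)
      rwa [map_mul, map_mul, hj] at this) (e.symm.injective.comp hfi)
    refine ⟨c, hc, ?_, fun x hx => ?_⟩
    · intro h1
      apply hcj
      show e.symm (f c) = j
      rw [h1, hj]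
    · apply back
      rw [map_mul, map_mul]
      exact hcJ _ ((hm x).1 hx)

theorem Lg.conj {K : Type*} [Group K] {j : K} {J : Subgroup K} (L : Lg j J) (g : K) :
    ∃ J' : Subgroup K, Lg (g * j * g⁻¹) J' := ⟨_, L.map (MulAut.conj g)⟩

section

variable {K : Type*} [Group K] [Finite K] {th : V → K} {O K0 : Subgroup K} (h : Sit th O K0)

include h

theorem isPGroup_A : IsPGroup 2 h.A := by
  rintro ⟨_, v, rfl⟩
  exact ⟨1, Subtype.ext (by
    show th v ^ 2 ^ 1 = 1
    rw [pow_one, pow_two, h.sq])⟩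

/-- an isometry moving every vector by `0` or `a` -/
theorem isom_cases {a : V} (ha : a ≠ 0) {g : V ≃+ V} (hg : Isom g) (h1 : ∀ v, g v = v ∨ g v = v + a) :
    (∀ v, g v = v) ∨ ∀ v, g v = tv a v := by
  by_cases hid : ∀ v, g v = v
  · exact Or.inl hid
  right
  push Not at hid
  obtain ⟨v0, hv0⟩ := hid
  have h2 := (h1 v0).resolve_left hv0
  have hfix : ∀ w, g w = w → om a w = 0 := by
    intro w hw
    have h3 := hg v0 w
    rw [h2, hw, om_add_left] at h3
    exact add_eq_left.1 h3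
  have hmov : ∀ w, g w = w + a → om a w = om v0 a := by
    intro w hw
    have h3 := hg v0 w
    rw [h2, hw, om_add_left, om_add_right, om_add_right, om_self, add_zero, add_assoc] at h3
    have h4 := add_eq_left.1 h3
    rcases z2 (om a w) with h5 | h5 <;> rcases z2 (om v0 a) with h6 | h6 <;> rw [h5, h6] at h4 ⊢
    · exact absurd h4 (by decide)
    · exact absurd h4 (by decide)
  have h01 : om v0 a = 1 := by
    rcases z2 (om v0 a) with h3 | h3
    · exfalso
      obtain ⟨u, hu⟩ := exists_om ha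
      rcases h1 u with h4 | h4
      · rw [hfix u h4] at hu; exact absurd hu (by decide)
      · rw [hmov u h4, h3] at hu; exact absurd hu (by decide)
    · exact h3
  intro w
  rcases h1 w with h4 | h4
  · rw [h4, tv_of_zero (hfix w h4)]
  · rw [h4, tv_of_one (by rw [hmov w h4, h01])]

/-- **Step 1.** The element `n_a`. -/
theorem step1 {a : V} (ha : a ≠ 0) {J : Subgroup K} (L : Lg (th a) J) :
    ∃ n ∈ J, n * n = th a ∧ ∀ v, n * th v * n⁻¹ = th (tv a v) := by
  have : Fact (Nat.Prime 2) := ⟨Nat.prime_two⟩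
  have hA2 := isPGroup_A h
  have hAJ : h.A ≤ normalizer (J : Set K) := by
    have h0 : ∀ v, ∀ x ∈ J, th v * x * (th v)⁻¹ ∈ J := fun v x hx => L.nrm _ (h.comm v a) x hx
    rintro _ ⟨v, rfl⟩
    rw [mem_normalizer_iff]
    refine fun x => ⟨h0 v x, fun hx => ?_⟩
    have h1 := h0 v _ hx
    have h2 : th v * (th v * x * (th v)⁻¹) * (th v)⁻¹ = (th v * th v) * x * ((th v)⁻¹ * (th v)⁻¹) := by group
    rwa [h2, h.sq, h.inv, h.sq, one_mul, mul_one] at h1
  -- the invariant Sylow 2-subgroup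
  set φ : ↥h.A →* MulAut ↥J := J.normalizerMonoidHom.comp (Subgroup.inclusion hAJ) with hφ
  have hR : IsPGroup 2 φ.range := hA2.of_surjective φ.rangeRestrict φ.rangeRestrict_surjective
  obtain ⟨X, hX⟩ := hR.nonempty_fixed_point_of_prime_not_dvd_card (Sylow 2 ↥J) (by
    have h1 := card_sylow_modEq_one 2 ↥J
    intro h2
    have h3 := (Nat.modEq_zero_iff_dvd.2 h2).symm.trans h1
    exact absurd h3 (by decide))
  set Q : Subgroup K := (X : Subgroup ↥J).map J.subtype with hQ
  have hQ2 : IsPGroup 2 Q := X.isPGroup'.map _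
  have hQJ : Q ≤ J := Subgroup.map_subtype_le _
  have hQcard : 4 ∣ Nat.card Q := by
    have h2 : Nat.card Q = Nat.card X := Subgroup.card_map_of_injective J.subtype_injective
    rw [h2]
    exact X.pow_dvd_card_of_pow_dvd_card (n := 2) (by norm_num; exact L.four)
  have hAQ0 : ∀ v, ∀ x ∈ Q, th v * x * (th v)⁻¹ ∈ Q := by
    rintro v _ ⟨x, hx, rfl⟩
    have h1 : (⟨φ ⟨th v, h.th_mem v⟩, ⟨th v, h.th_mem v⟩, rfl⟩ : φ.range) • X = X := hX _
    have h2 : (φ ⟨th v, h.th_mem v⟩) • (X : Subgroup ↥J) = (X : Subgroup ↥J) := congrArg Sylow.toSubgroup h1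
    have h3 : φ ⟨th v, h.th_mem v⟩ x ∈ (X : Subgroup ↥J) := by
      rw [← h2]
      exact Subgroup.smul_mem_pointwise_smul x _ _ hx
    exact ⟨_, h3, rfl⟩
  have hAQ : h.A ≤ normalizer (Q : Set K) := by
    rintro _ ⟨v, rfl⟩
    rw [mem_normalizer_iff]
    refine fun x => ⟨hAQ0 v x, fun hx => ?_⟩
    have h1 := hAQ0 v _ hx
    have h2 : th v * (th v * x * (th v)⁻¹) * (th v)⁻¹ = (th v * th v) * x * ((th v)⁻¹ * (th v)⁻¹) := by group
    rwa [h2, h.sq, h.inv, h.sq, one_mul, mul_one] at h1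
  have hsqA : ∀ x ∈ h.A, x * x = 1 := by
    rintro _ ⟨v, rfl⟩
    exact h.sq v
  have hlt : h.A < h.A ⊔ Q := by
    refine lt_of_le_of_ne le_sup_left fun h1 => ?_
    have h2 : Q ≤ h.A := by rw [h1]; exact le_sup_right
    have h3 : (Q : Set K) ⊆ ({1, th a} : Set K) := by
      intro x hx
      rcases L.inv x (hQJ hx) (hsqA x (h2 hx)) with h4 | h4
      · exact Or.inl h4
      · exact Or.inr h4
    have h4 := Set.ncard_le_ncard h3 (Set.toFinite _)
    have h5 : Nat.card Q ≤ 2 := by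
      rw [← SetLike.coe_sort_coe, Nat.card_coe_set_eq]
      exact h4.trans ((Set.ncard_insert_le _ _).trans (by rw [Set.ncard_singleton]))
    have h6 := Nat.le_of_dvd Nat.card_pos hQcard
    omega
  obtain ⟨g, hg, hgA, hgn⟩ := exists_norm (hA2.to_sup_of_normal_right' hQ2 hAQ) hlt
  obtain ⟨b, hb, x, hx, rfl⟩ := mem_sup_nrm hAQ hg
  have hxA : x ∉ h.A := fun hx' => hgA (mul_mem hb hx')
  have hxn : ∀ t ∈ h.A, x * t * x⁻¹ ∈ h.A := by
    intro t ht
    have h1 := mul_mem (mul_mem (inv_mem hb) (hgn t ht)) hb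
    have h2 : b⁻¹ * (b * x * t * (b * x)⁻¹) * b = x * t * x⁻¹ := by group
    rwa [h2] at h1
  have hxnorm : x ∈ normalizer (h.A : Set K) := by
    rw [h.mem_normalizer]
    intro v
    obtain ⟨u, hu⟩ := hxn _ (h.th_mem v)
    exact ⟨u, hu.symm⟩
  obtain ⟨γ, hγ, hγx⟩ := h.exists_isom_of_mem hxnorm
  have hmove : ∀ v, γ v = v ∨ γ v = v + a := by
    intro v
    have h1 : x * th v * x⁻¹ * (th v)⁻¹ ∈ h.A := mul_mem (hxn _ (h.th_mem v)) (inv_mem (h.th_mem v))
    have h2 : x * th v * x⁻¹ * (th v)⁻¹ ∈ Q := by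
      have h3 := mul_mem hx (hAQ0 v _ (inv_mem hx))
      have h4 : x * (th v * x⁻¹ * (th v)⁻¹) = x * th v * x⁻¹ * (th v)⁻¹ := by group
      rwa [h4] at h3
    rcases L.inv _ (hQJ h2) (hsqA _ h1) with h3 | h3
    · left
      apply h.inj
      rw [← hγx]
      exact mul_inv_eq_one.1 h3
    · right
      apply h.inj
      rw [← hγx, h.add, mul_inv_eq_iff_eq_mul.1 h3, h.comm]
  obtain ⟨k, hk⟩ := hQ2 ⟨x, hx⟩
  have hk' : x ^ 2 ^ k = 1 := congrArg Subtype.val hk
  rcases isom_cases h ha hγ hmove with h1 | h1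
  · exfalso
    refine hxA (h.mem_of_sq (n := k) (fun v => ?_) hk')
    have h2 := hγx v
    rw [h1 v] at h2
    exact mul_inv_eq_iff_eq_mul.1 h2
  have hact : ∀ v, x * th v * x⁻¹ = th (tv a v) := fun v => by rw [hγx, h1]
  refine ⟨x, hQJ hx, ?_, hact⟩
  have h2 : x * x ∈ h.A := by
    refine h.mem_of_sq (n := k) (fun v => ?_) ?_
    · have h3 : x * x * th v * (x * x)⁻¹ = th v := by
        have h4 : x * x * th v * (x * x)⁻¹ = x * (x * th v * x⁻¹) * x⁻¹ := by group
        rw [h4, hact, hact]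
        congr 1
        exact (tv a).left_inv v
      exact mul_inv_eq_iff_eq_mul.1 h3
    · rw [← pow_two, ← pow_mul, mul_comm, pow_mul, hk', one_pow]
  rcases L.inv _ (mul_mem (hQJ hx) (hQJ hx)) (hsqA _ h2) with h3 | h3
  · exfalso
    rcases L.inv x (hQJ hx) h3 with h4 | h4
    · rw [h4] at hxA; exact hxA (one_mem _)
    · rw [h4] at hxA; exact hxA (h.th_mem a)
  · exact h3

/-- **Step 2.** `th u` centralises `J` if `om a u = 0`. -/
theorem step2 {a : V} (ha : a ≠ 0) {J : Subgroup K} (L : Lg (th a) J) {u : V} (hu : om a u = 0) :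
    ∀ x ∈ J, th u * x = x * th u := by
  obtain ⟨n, hn, -, hna⟩ := step1 h ha L
  obtain ⟨c, hc0, hca, hc⟩ := L.bound th h.add (fun v => h.comm v a) h.inj
  have hca' : a ≠ c := fun h1 => hca (by rw [h1])
  have hadd : ∀ u v, (∀ x ∈ J, th u * x = x * th u) → (∀ x ∈ J, th v * x = x * th v) →
      ∀ x ∈ J, th (u + v) * x = x * th (u + v) := by
    intro u v h1 h2 x hx
    rw [h.add, mul_assoc, h2 x hx, ← mul_assoc, h1 x hx, mul_assoc]
  have hac : om a c = 0 := by
    rcases z2 (om a c) with h1 | h1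
    · exact h1
    · exfalso
      have h2 := hna c
      rw [← hc n hn, mul_inv_cancel_right, tv_of_one h1] at h2
      have h3 := h.inj h2
      exact ha (left_eq_add.1 h3)
  have key : ∀ w, om a w = 0 → om w c = 1 → ∀ x ∈ J, th w * x = x * th w := by
    intro w h1 h2
    obtain ⟨k, -, hk⟩ := h.exists_tv w
    have h3 : k * th a = th a * k := by
      have h4 := hk a
      rw [tv_of_zero (by rw [om_comm]; exact h1)] at h4
      exact mul_inv_eq_iff_eq_mul.1 h4
    have h3' : k⁻¹ * th a = th a * k⁻¹ := by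
      rw [inv_mul_eq_iff_eq_mul, ← mul_assoc, h3, mul_inv_cancel_right]
    have h4 : ∀ x ∈ J, th (c + w) * x = x * th (c + w) := by
      intro x hx
      have h5 := hk c
      rw [tv_of_one h2] at h5
      rw [← h5]
      have h6 := hc _ (L.nrm _ h3' x hx)
      rw [inv_inv] at h6
      calc k * th c * k⁻¹ * x = k * (th c * (k⁻¹ * x * k)) * k⁻¹ := by group
        _ = k * (k⁻¹ * x * k * th c) * k⁻¹ := by rw [h6]
        _ = x * (k * th c * k⁻¹) := by group
    have h5 := hadd c (c + w) hc h4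
    rwa [self_add_add] at h5
  rcases z2 (om u c) with h1 | h1
  · obtain ⟨w, hw1, hw2⟩ := exists_om_pair ha hc0 hca' 0 1
    have h2 := key w hw1 (by rw [om_comm]; exact hw2)
    have h3 := key (u + w) (by rw [om_add_right, hu, hw1, add_zero]) (by rw [om_add_left, h1, om_comm w, hw2, zero_add])
    have h4 := hadd (u + w) w h3 h2
    rwa [add_add_self] at h4
  · exact key u hu h1

/-- **Step 3.** `J_a` and `J_b` commute if `om a b = 0`. -/
theorem step3 {a b : V} (ha : a ≠ 0) (hb : b ≠ 0) (hab : a ≠ b) (h0 : om a b = 0) {Ja Jb : Subgroup K}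
    (La : Lg (th a) Ja) (Lb : Lg (th b) Jb) : ∀ x ∈ Ja, ∀ y ∈ Jb, x * y = y * x := by
  have hA : ∀ x ∈ Ja, x * th b = th b * x := fun x hx => (step2 h ha La h0 x hx).symm
  have hB : ∀ y ∈ Jb, y * th a = th a * y := fun y hy => (step2 h hb Lb (by rw [om_comm]; exact h0) y hy).symm
  have hD : Ja ⊓ Jb = ⊥ := by
    refine La.core _ inf_le_left (fun g hg x hx => mem_inf.2 ⟨Ja.mul_mem (Ja.mul_mem hg hx.1) (Ja.inv_mem hg), Lb.nrm g (hA g hg) x hx.2⟩) ?_
    rw [← Nat.not_even_iff_odd, even_iff_two_dvd]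
    intro h1
    have : Fact (Nat.Prime 2) := ⟨Nat.prime_two⟩
    obtain ⟨⟨x, hx⟩, hx2⟩ := exists_prime_orderOf_dvd_card' (G := ↥(Ja ⊓ Jb)) 2 h1
    have h2 : x * x = 1 := by
      have := pow_orderOf_eq_one (⟨x, hx⟩ : ↥(Ja ⊓ Jb))
      rw [hx2, pow_two] at this
      exact congrArg Subtype.val this
    have h3 : x ≠ 1 := by
      rintro rfl
      have h4 : (⟨1, hx⟩ : ↥(Ja ⊓ Jb)) = 1 := rfl
      rw [h4, orderOf_one] at hx2
      exact absurd hx2 (by decide)
    have h4 := (La.inv x hx.1 h2).resolve_left h3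
    have h5 := (Lb.inv x hx.2 h2).resolve_left h3
    exact hab (h.inj (h4.symm.trans h5))
  intro x hx y hy
  have h1 : x * y * x⁻¹ * y⁻¹ ∈ Ja ⊓ Jb := by
    constructor
    · have h2 := Ja.mul_mem hx (La.nrm y (hB y hy) _ (Ja.inv_mem hx))
      have h3 : x * (y * x⁻¹ * y⁻¹) = x * y * x⁻¹ * y⁻¹ := by group
      rwa [h3] at h2
    · exact Jb.mul_mem (Lb.nrm x (hA x hx) y hy) (Jb.inv_mem hy)
  rw [hD, mem_bot] at h1
  rw [mul_inv_eq_one, mul_inv_eq_iff_eq_mul] at h1
  exact h1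

end

/-- the first vector -/
def e1 : V := Pi.single (Sum.inl 0) 1

/-- the other nonzero vectors of a maximal totally isotropic subspace -/
def es : List V :=
  [Pi.single (Sum.inl 1) 1, Pi.single (Sum.inl 2) 1, Pi.single (Sum.inl 0) 1 + Pi.single (Sum.inl 1) 1,
   Pi.single (Sum.inl 0) 1 + Pi.single (Sum.inl 2) 1, Pi.single (Sum.inl 1) 1 + Pi.single (Sum.inl 2) 1,
   Pi.single (Sum.inl 0) 1 + Pi.single (Sum.inl 1) 1 + Pi.single (Sum.inl 2) 1]

theorem es_pair : (e1 :: es).Pairwise fun a b => a ≠ b ∧ om a b = 0 := by decide +kernel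

theorem es_ne : ∀ a ∈ e1 :: es, a ≠ 0 := by decide +kernel

theorem es_sum : (e1 :: es).sum = 0 := by decide +kernel

theorem es_tv : ∀ v : V, (e1 :: es).foldr (fun a v => v + om a v • a) v = v := by decide +kernel

section

variable {K : Type*} [Group K] [Finite K] {th : V → K} {O K0 : Subgroup K} (h : Sit th O K0)

include h

theorem conj_prod {n : V → K} {l : List V} (hn : ∀ a ∈ l, ∀ v, n a * th v * (n a)⁻¹ = th (tv a v)) (v : V) :
    (l.map n).prod * th v * ((l.map n).prod)⁻¹ = th (l.foldr (fun a v => v + om a v • a) v) := by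
  induction l with
  | nil => simp
  | cons a l ih =>
    rw [List.map_cons, List.prod_cons, List.foldr_cons]
    have h1 := ih fun b hb => hn b (List.mem_cons_of_mem _ hb)
    have h2 : n a * (l.map n).prod * th v * (n a * (l.map n).prod)⁻¹ =
        n a * ((l.map n).prod * th v * ((l.map n).prod)⁻¹) * (n a)⁻¹ := by group
    rw [h2, h1, hn a List.mem_cons_self]
    rfl

theorem sq_prod {n : V → K} {l : List V} (hn : ∀ a ∈ l, n a * n a = th a)
    (hc : l.Pairwise fun a b => n a * n b = n b * n a) :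
    (l.map n).prod * (l.map n).prod = th l.sum := by
  induction l with
  | nil => simp [h.zero]
  | cons a l ih =>
    rw [List.pairwise_cons] at hc
    rw [List.map_cons, List.prod_cons, List.sum_cons, h.add, ← hn a List.mem_cons_self,
      ← ih (fun b hb => hn b (List.mem_cons_of_mem _ hb)) hc.2]
    have h1 : Commute (n a) (l.map n).prod := by
      refine Commute.list_prod_right _ _ fun x hx => ?_
      obtain ⟨b, hb, rfl⟩ := List.mem_map.1 hx
      exact hc.1 b hb
    have h2 : n a * (l.map n).prod = (l.map n).prod * n a := h1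
    calc n a * (l.map n).prod * (n a * (l.map n).prod) = n a * ((l.map n).prod * n a) * (l.map n).prod := by group
      _ = n a * n a * ((l.map n).prod * (l.map n).prod) := by rw [← h2]; group

/-- an involution whose centraliser has odd index is conjugate to an element of `A` -/
theorem exists_conj_th {j : K} (hj : j ≠ 1) (hj2 : j * j = 1)
    (hodd : ¬ 2 ∣ (centralizer ({j} : Set K)).index) : ∃ (g : K) (u : V), u ≠ 0 ∧ g * j * g⁻¹ = th u := by
  have : Fact (Nat.Prime 2) := ⟨Nat.prime_two⟩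
  obtain ⟨x, hx⟩ := (isPGroup_A h).nonempty_fixed_point_of_prime_not_dvd_card (K ⧸ centralizer ({j} : Set K))
    (by rwa [Subgroup.index_eq_card] at hodd)
  obtain ⟨g, rfl⟩ := QuotientGroup.mk_surjective x
  have h1 : ∀ v, g⁻¹ * th v * g ∈ centralizer ({j} : Set K) := by
    intro v
    have h2 : (⟨th v, h.th_mem v⟩ : ↥h.A) • (g : K ⧸ centralizer ({j} : Set K)) = g := hx _
    have h3 : ((th v * g : K) : K ⧸ centralizer ({j} : Set K)) = g := h2
    have h4 := QuotientGroup.eq.1 h3.symm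
    rwa [← mul_assoc] at h4
  have h2 : ∀ v, g * j * g⁻¹ * th v = th v * (g * j * g⁻¹) := by
    intro v
    have h3 := mem_centralizer_singleton_iff.1 (h1 v)
    calc g * j * g⁻¹ * th v = g * (j * (g⁻¹ * th v * g)) * g⁻¹ := by group
      _ = g * (g⁻¹ * th v * g * j) * g⁻¹ := by rw [h3]
      _ = th v * (g * j * g⁻¹) := by group
  have h3 : g * j * g⁻¹ * (g * j * g⁻¹) = 1 := by
    have : g * j * g⁻¹ * (g * j * g⁻¹) = g * (j * j) * g⁻¹ := by group
    rw [this, hj2, mul_one, mul_inv_cancel]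
  obtain ⟨u, hu⟩ := h.mem_of_mul_self h2 h3
  refine ⟨g, u, ?_, hu.symm⟩
  rintro rfl
  rw [h.zero] at hu
  apply hj
  rw [← conj_eq_one_iff (a := g)]
  exact hu.symm

/-- **There are no such subgroups.** -/
theorem false_of_lg {j : K} {J : Subgroup K} (L : Lg j J) (hodd : ¬ 2 ∣ (centralizer ({j} : Set K)).index) : False := by
  obtain ⟨g, u0, hu0, hg⟩ := exists_conj_th h L.ne L.sq hodd
  have hL : ∀ v : V, ∃ Jv : Subgroup K, v ≠ 0 → Lg (th v) Jv := by
    intro v
    by_cases hv : v = 0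
    · exact ⟨⊥, fun h1 => absurd hv h1⟩
    obtain ⟨k, -, hk⟩ := h.exists_conj hu0 hv
    obtain ⟨J', hJ'⟩ := L.conj g
    rw [hg] at hJ'
    obtain ⟨J'', hJ''⟩ := hJ'.conj k
    rw [hk] at hJ''
    exact ⟨J'', fun _ => hJ''⟩
  choose Jf hJf using hL
  have hn0 : ∀ v : V, ∃ n : K, v ≠ 0 → n ∈ Jf v ∧ n * n = th v ∧ ∀ w, n * th w * n⁻¹ = th (tv v w) := by
    intro v
    by_cases hv : v = 0
    · exact ⟨1, fun h1 => absurd hv h1⟩
    obtain ⟨n, h1, h2, h3⟩ := step1 h hv (hJf v hv)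
    exact ⟨n, fun _ => ⟨h1, h2, h3⟩⟩
  choose n hn using hn0
  have hcomm : ∀ a ∈ e1 :: es, ∀ b ∈ e1 :: es, a ≠ b → om a b = 0 → ∀ x ∈ Jf a, ∀ y ∈ Jf b, x * y = y * x :=
    fun a ha b hb hab h0 => step3 h (es_ne a ha) (es_ne b hb) hab h0 (hJf a (es_ne a ha)) (hJf b (es_ne b hb))
  have he1 : e1 ∈ e1 :: es := List.mem_cons_self
  have hpw := es_pair
  have hpn : (e1 :: es).Pairwise fun a b => n a * n b = n b * n a := by
    refine List.Pairwise.imp_of_mem (fun {a b} ha hb hab => ?_) hpw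
    exact hcomm a ha b hb hab.1 hab.2 _ (hn a (es_ne a ha)).1 _ (hn b (es_ne b hb)).1
  set w : K := ((e1 :: es).map n).prod with hw
  have hw1 : ∀ v, w * th v = th v * w := by
    intro v
    have h1 := conj_prod h (n := n) (l := e1 :: es) (fun a ha => (hn a (es_ne a ha)).2.2) v
    rw [es_tv] at h1
    exact mul_inv_eq_iff_eq_mul.1 h1
  have hw2 : w * w = 1 := by
    have h1 := sq_prod h (n := n) (l := e1 :: es) (fun a ha => (hn a (es_ne a ha)).2.1) hpn
    rw [es_sum, h.zero] at h1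
    exact h1
  obtain ⟨u, hu⟩ := h.mem_of_mul_self hw1 hw2
  -- `w = n e1 * P`
  rw [List.pairwise_cons] at hpw
  have hP : ∀ x ∈ Jf e1, Commute x (es.map n).prod := by
    intro x hx
    refine Commute.list_prod_right _ _ fun y hy => ?_
    obtain ⟨b, hb, rfl⟩ := List.mem_map.1 hy
    have hb' : b ∈ e1 :: es := List.mem_cons_of_mem _ hb
    exact hcomm e1 he1 b hb' (hpw.1 b hb).1 (hpw.1 b hb).2 x hx _ (hn b (es_ne b hb')).1
  have hw3 : w = n e1 * (es.map n).prod := by rw [hw, List.map_cons, List.prod_cons]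
  obtain ⟨hm1, hm2, hm3⟩ := hn e1 (es_ne e1 he1)
  -- `w` commutes with `n e1`
  have hw4 : w * n e1 = n e1 * w := by
    rw [hw3, mul_assoc, ← (hP _ hm1).eq]
  have hu1 : om e1 u = 0 := by
    rcases z2 (om e1 u) with h1 | h1
    · exact h1
    · exfalso
      have h2 := hm3 u
      rw [tv_of_one h1, hu, ← hw4, mul_inv_cancel_right, ← hu] at h2
      have h3 := h.inj h2
      exact es_ne e1 he1 (left_eq_add.1 h3)
  have h5 := step2 h (es_ne e1 he1) (hJf e1 (es_ne e1 he1)) hu1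
  have h6 : n e1 * n e1 = 1 := by
    refine (hJf e1 (es_ne e1 he1)).ctr _ hm1 fun y hy => ?_
    have h7 := h5 y hy
    rw [hu, hw3, mul_assoc, ← (hP y hy).eq, ← mul_assoc, ← mul_assoc] at h7
    exact mul_right_cancel h7
  rw [hm2] at h6
  exact es_ne e1 he1 ((h.eq_one_iff e1).1 h6)

end

end Cfsg.Agent.H785.SpLong
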