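import Mathlib
import Cfsg.Agent.H785.SpLong
import Cfsg.Agent.Cit.QModSL
import Cfsg.Agent.TypeLFive.LThreeSLTwo
import Cfsg.Agent.LieRecognition.FieldSemilinear

/-!
# Long involutions: the facts on `SL₂(q)` (helper785)

* `exists_ker` : an action of the symplectic space `V` of order 64 on `SL₂(q)`, `q` odd, has a kernel of order greater than 2;
* `lg_of_sl` : `Lg j J` for `J ≅ SL₂(q)` normalised by `C(j)`, `j ∈ J`.
-/

set_option autoImplicit false
set_option linter.unusedSectionVars false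

namespace Cfsg.Agent.H785.SpSL

open Subgroup Cfsg.Agent.H336.SpSix Cfsg.Agent.H785.SpLong
open Cfsg.Agent.Cit.QModSL Cfsg.Agent.Classification.QDW.TypeHom

local notation "SL2" => Matrix.SpecialLinearGroup (Fin 2)

variable {F : Type*} [Field F] [Fintype F]

theorem sl_center (hF : Odd (Fintype.card F)) {s : SL2 F} (h : ∀ x, s * x = x * s) : s = 1 ∨ s = -1 := by
  have h1 : s ∈ center (SL2 F) := by
    rw [Subgroup.mem_center_iff]
    exact fun x => (h x).symm
  rw [TwoFusion.QuatCoverSL.center_eq_zpowers hF] at h1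
  obtain ⟨i, hi⟩ := h1
  have hi' : (-1 : SL2 F) ^ i = s := hi
  rcases Int.even_or_odd i with h4 | h4
  · left; rw [← hi', Even.neg_one_zpow h4]
  · right; rw [← hi', Odd.neg_one_zpow h4]

theorem sl_sq (hF : Odd (Fintype.card F)) {s : SL2 F} (h : s * s = 1) : s = 1 ∨ s = -1 := by
  by_cases h1 : s = 1
  · exact Or.inl h1
  · exact Or.inr (TwoFusion.QuatCoverSL.eq_neg_one_of_orderOf_two hF s (orderOf_eq_prime (by rw [pow_two, h]) h1))

/-- `Aut(F)` has at most one involution. -/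
theorem ring_unique {σ τ : F ≃+* F} (hσ : σ * σ = 1) (hτ : τ * τ = 1) (hσ1 : σ ≠ 1) (hτ1 : τ ≠ 1) : σ = τ := by
  classical
  have : IsCyclic (F ≃+* F) := Cfsg.Agent.LieRecognition.FieldSemilinear.isCyclic_ringAut F
  have : Finite (F ≃+* F) := DFunLike.finite _
  let _ := Fintype.ofFinite (F ≃+* F)
  by_contra hne
  have h1 := IsCyclic.card_pow_eq_one_le (α := F ≃+* F) (n := 2) (by norm_num)
  have h3 : ({1, σ, τ} : Finset (F ≃+* F)) ⊆ Finset.univ.filter (fun a => a ^ 2 = 1) := by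
    intro x hx
    simp only [Finset.mem_insert, Finset.mem_singleton] at hx
    rw [Finset.mem_filter]
    refine ⟨Finset.mem_univ _, ?_⟩
    rcases hx with rfl | rfl | rfl
    · exact one_pow _
    · rw [sq, hσ]
    · rw [sq, hτ]
  have h4 := Finset.card_le_card h3
  have h5 : ({1, σ, τ} : Finset (F ≃+* F)).card = 3 := by
    rw [Finset.card_insert_of_notMem, Finset.card_insert_of_notMem, Finset.card_singleton]
    · rw [Finset.mem_singleton]; exact hne
    · simp only [Finset.mem_insert, Finset.mem_singleton, not_or]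
      exact ⟨hσ1.symm, hτ1.symm⟩
  omega

/-- a multiple of a vector -/
def bm (b : Bool) (v : V) : V := if b then v else 0

/-- two inner automorphisms: the commuting case -/
theorem conj_cases (hF : Odd (Fintype.card F)) {s t : SL2 F} (hs : s * s = -1) (ht : t * t = -1 ∨ t = 1 ∨ t = -1)
    (hst : s * t = t * s) : (∀ x, t * x * t⁻¹ = x) ∨ ∀ x, t * x * t⁻¹ = s * x * s⁻¹ := by
  have hneg : ∀ x : SL2 F, -1 * x = x * -1 := fun x => by rw [neg_one_mul, mul_neg_one]
  rcases ht with ht | rfl | rfl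
  · right
    have h1 : (s * t) * (s * t) = 1 := by
      calc (s * t) * (s * t) = s * (t * s) * t := by group
        _ = s * (s * t) * t := by rw [hst]
        _ = (s * s) * (t * t) := by group
        _ = 1 := by rw [hs, ht]; simp
    have h2 : s⁻¹ = -s := by
      rw [inv_eq_iff_mul_eq_one, mul_neg, hs]; simp
    rcases sl_sq hF h1 with h3 | h3
    · have h4 : t = -s := by rw [← h2]; exact eq_inv_of_mul_eq_one_right h3
      intro x
      rw [h4]
      have h5 : (-s)⁻¹ = -s⁻¹ := by rw [inv_eq_iff_mul_eq_one]; simp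
      rw [h5]; simp
    · have h4 : t = s := by
        have h5 : s * t = s * s := by rw [h3, hs]
        exact mul_left_cancel h5
      intro x
      rw [h4]
  · left; intro x; simp
  · left
    intro x
    rw [hneg, mul_inv_cancel_right]

theorem exists_ker (hF : Odd (Fintype.card F)) (Φ : V → MulAut (SL2 F)) (hΦ : ∀ u v, Φ (u + v) = Φ u * Φ v) (a : V) :
    ∃ c, c ≠ 0 ∧ c ≠ a ∧ Φ c = 1 := by
  classical
  have h0 : Φ 0 = 1 := by
    have := hΦ 0 0
    rw [add_zero] at this
    exact left_eq_mul.mp this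
  have hsq : ∀ u, Φ u * Φ u = 1 := fun u => by rw [← hΦ, v_add_self, h0]
  -- the field type
  obtain ⟨t, ht⟩ : ∃ t : V, ∀ v, ∃ b : Bool, typ (Φ (v + bm b t)) = 1 := by
    by_cases h1 : ∀ v, typ (Φ v) = 1
    · exact ⟨0, fun v => ⟨false, by rw [bm, if_neg (by simp), add_zero]; exact h1 v⟩⟩
    push Not at h1
    obtain ⟨t, ht⟩ := h1
    refine ⟨t, fun v => ?_⟩
    by_cases h2 : typ (Φ v) = 1
    · exact ⟨false, by rw [bm, if_neg (by simp), add_zero]; exact h2⟩
    · refine ⟨true, ?_⟩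
      have hs : ∀ u, typ (Φ u) * typ (Φ u) = 1 := fun u => by rw [← map_mul, hsq, map_one]
      rw [bm, if_pos rfl, hΦ, map_mul, ring_unique (hs v) (hs t) h2 ht, hs]
  -- the outer diagonal automorphisms
  obtain ⟨o, ho⟩ : ∃ o : V, ∀ v, typ (Φ v) = 1 → ∃ b : Bool, Inn (Φ (v + bm b o)) := by
    by_cases h1 : ∀ v, typ (Φ v) = 1 → Inn (Φ v)
    · exact ⟨0, fun v hv => ⟨false, by rw [bm, if_neg (by simp), add_zero]; exact h1 v hv⟩⟩
    push Not at h1
    obtain ⟨o, ho1, ho2⟩ := h1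
    refine ⟨o, fun v hv => ?_⟩
    by_cases h2 : Inn (Φ v)
    · exact ⟨false, by rw [bm, if_neg (by simp), add_zero]; exact h2⟩
    · exact ⟨true, by rw [bm, if_pos rfl, hΦ]; exact inner_mul hF hv ho1 h2 ho2⟩
  -- the inner automorphisms
  have hin : ∀ v, Inn (Φ v) → ∃ s : SL2 F, (∀ x, Φ v x = s * x * s⁻¹) ∧ (s * s = -1 ∨ s = 1 ∨ s = -1) := by
    rintro v ⟨s, hs⟩
    refine ⟨s, hs, ?_⟩
    have h1 : ∀ x, s * s * x = x * (s * s) := by
      intro x
      have h2 : (Φ v * Φ v) x = x := by rw [hsq]; rfl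
      rw [MulAut.mul_apply, hs, hs] at h2
      have h3 : s * (s * x * s⁻¹) * s⁻¹ = s * s * x * (s * s)⁻¹ := by group
      rw [h3] at h2
      exact mul_inv_eq_iff_eq_mul.1 h2
    rcases sl_center hF h1 with h2 | h2
    · exact Or.inr (sl_sq hF h2)
    · exact Or.inl h2
  have hcs : ∀ v, Inn (Φ v) → Φ v ≠ 1 → ∃ s : SL2 F, (∀ x, Φ v x = s * x * s⁻¹) ∧ s * s = -1 := by
    intro v hv h1
    obtain ⟨s, hs, h2⟩ := hin v hv
    refine ⟨s, hs, h2.resolve_right ?_⟩
    rintro (rfl | rfl)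
    · exact h1 (MulEquiv.ext fun x => by rw [hs]; simp)
    · exact h1 (MulEquiv.ext fun x => by
        rw [hs]
        rw [neg_one_mul, neg_mul]
        show -(x * (-1)⁻¹) = x
        rw [show ((-1 : SL2 F))⁻¹ = -1 by rw [inv_eq_iff_mul_eq_one]; simp]
        simp)
  obtain ⟨x, y, hxy⟩ : ∃ x y : V, ∀ v, Inn (Φ v) → ∃ b c : Bool, Φ (v + bm b x + bm c y) = 1 := by
    by_cases h1 : ∀ v, Inn (Φ v) → Φ v = 1
    · exact ⟨0, 0, fun v hv => ⟨false, false, by simp only [bm, if_neg Bool.false_ne_true, add_zero]; exact h1 v hv⟩⟩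
    push Not at h1
    obtain ⟨x, hx1, hx2⟩ := h1
    obtain ⟨s, hs, hs2⟩ := hcs x hx1 hx2
    -- the commuting case
    have key : ∀ v, (∃ t : SL2 F, (∀ z, Φ v z = t * z * t⁻¹) ∧ (t * t = -1 ∨ t = 1 ∨ t = -1) ∧ s * t = t * s) →
        ∃ b : Bool, Φ (v + bm b x) = 1 := by
      rintro v ⟨t, ht1, ht2, ht3⟩
      rcases conj_cases hF hs2 ht2 ht3 with h2 | h2
      · refine ⟨false, ?_⟩
        rw [bm, if_neg (by simp), add_zero]
        exact MulEquiv.ext fun z => by rw [ht1, h2]; rfl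
      · refine ⟨true, ?_⟩
        rw [bm, if_pos rfl, hΦ]
        have h3 : Φ v = Φ x := MulEquiv.ext fun z => by rw [ht1, h2, hs]
        rw [h3, hsq]
    by_cases h2 : ∀ v, Inn (Φ v) → ∀ t : SL2 F, (∀ z, Φ v z = t * z * t⁻¹) → s * t = t * s
    · refine ⟨x, 0, fun v hv => ?_⟩
      obtain ⟨t, ht1, ht2⟩ := hin v hv
      obtain ⟨b, hb⟩ := key v ⟨t, ht1, ht2, h2 v hv t ht1⟩
      exact ⟨b, false, by rw [bm, bm, if_neg (by simp : ¬ (false = true)), add_zero]; exact hb⟩
    push Not at h2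
    obtain ⟨y, hy, u, hu, hsu⟩ := h2
    -- anticommuting elements
    have hanti : ∀ v (t : SL2 F), (∀ z, Φ v z = t * z * t⁻¹) → s * t = t * s ∨ s * t = -1 * (t * s) := by
      intro v t ht
      have h3 : ∀ z, (t⁻¹ * s⁻¹ * t * s) * z = z * (t⁻¹ * s⁻¹ * t * s) := by
        intro z
        have h4 : (Φ v * Φ x) z = (Φ x * Φ v) z := by rw [← hΦ, ← hΦ, add_comm]
        rw [MulAut.mul_apply, MulAut.mul_apply, hs, hs, ht, ht] at h4
        have h5 : (t⁻¹ * s⁻¹ * t * s) * z * (t⁻¹ * s⁻¹ * t * s)⁻¹ =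
            t⁻¹ * s⁻¹ * (t * (s * z * s⁻¹) * t⁻¹) * s * t := by group
        rw [h4] at h5
        have h6 : t⁻¹ * s⁻¹ * (s * (t * z * t⁻¹) * s⁻¹) * s * t = z := by group
        rw [h6] at h5
        exact mul_inv_eq_iff_eq_mul.1 h5
      have h7 : t * s = s * t * (t⁻¹ * s⁻¹ * t * s) := by group
      rcases sl_center hF h3 with h4 | h4
      · left
        rw [h4, mul_one] at h7
        exact h7.symm
      · right
        rw [h4] at h7
        rw [h7]; simp
    have hsu' := (hanti y u hu).resolve_left hsu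
    refine ⟨x, y, fun v hv => ?_⟩
    obtain ⟨t, ht1, ht2⟩ := hin v hv
    rcases hanti v t ht1 with h3 | h3
    · obtain ⟨b, hb⟩ := key v ⟨t, ht1, ht2, h3⟩
      exact ⟨b, false, by rw [bm, bm, if_neg (by simp : ¬ (false = true)), add_zero]; exact hb⟩
    · have h4 : ∀ z, Φ (v + y) z = (t * u) * z * (t * u)⁻¹ := by
        intro z
        rw [hΦ, MulAut.mul_apply, ht1, hu]; group
      have h5 : Inn (Φ (v + y)) := ⟨t * u, h4⟩
      have h6 : s * (t * u) = (t * u) * s := by
        calc s * (t * u) = (s * t) * u := by group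
          _ = -1 * (t * s) * u := by rw [h3]
          _ = -1 * t * (s * u) := by group
          _ = -1 * t * (-1 * (u * s)) := by rw [hsu']
          _ = (t * u) * s := by simp [mul_assoc]
      obtain ⟨t', ht1', ht2'⟩ := hin _ h5
      -- `t' = ± t u`
      have h7 : (t * u) * (t * u) = -1 ∨ t * u = 1 ∨ t * u = -1 := by
        have h8 : ∀ z, (t * u) * (t * u) * z = z * ((t * u) * (t * u)) := by
          intro z
          have h9 : (Φ (v + y) * Φ (v + y)) z = z := by rw [hsq]; rfl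
          rw [MulAut.mul_apply, h4, h4] at h9
          have h10 : (t * u) * ((t * u) * z * (t * u)⁻¹) * (t * u)⁻¹ = (t * u) * (t * u) * z * ((t * u) * (t * u))⁻¹ := by
            group
          rw [h10] at h9
          exact mul_inv_eq_iff_eq_mul.1 h9
        rcases sl_center hF h8 with h9 | h9
        · exact Or.inr (sl_sq hF h9)
        · exact Or.inl h9
      obtain ⟨b, hb⟩ := key (v + y) ⟨t * u, h4, h7, h6⟩
      refine ⟨b, true, ?_⟩
      have h8 : v + bm b x + bm true y = v + y + bm b x := by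
        rw [bm, bm, if_pos rfl]; abel
      rw [h8]
      exact hb
  -- the code
  have hcode : ∀ v, ∃ c : Bool × Bool × Bool × Bool, Φ (v + (bm c.1 t + bm c.2.1 o + bm c.2.2.1 x + bm c.2.2.2 y)) = 1 := by
    intro v
    obtain ⟨b1, h1⟩ := ht v
    obtain ⟨b2, h2⟩ := ho _ h1
    obtain ⟨b3, b4, h3⟩ := hxy _ h2
    refine ⟨(b1, b2, b3, b4), ?_⟩
    rw [← h3]
    congr 1
    simp only
    abel
  choose code hc using hcode
  obtain ⟨k, -, hk⟩ := Finset.exists_lt_card_fiber_of_mul_lt_card_of_maps_to (s := (Finset.univ : Finset V))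
    (t := (Finset.univ : Finset (Bool × Bool × Bool × Bool))) (f := code) (n := 3) (fun _ _ => Finset.mem_univ _)
    (by rw [Finset.card_univ, Finset.card_univ]; simp [V])
  obtain ⟨v0, hv0⟩ : (Finset.univ.filter fun v => code v = k).Nonempty := Finset.card_pos.1 (by omega)
  obtain ⟨v1, hv1, hv1'⟩ := Finset.exists_mem_notMem_of_card_lt_card
    (s := ({v0, v0 + a} : Finset V)) (t := Finset.univ.filter fun v => code v = k)
    (lt_of_le_of_lt (Finset.card_le_two) (by omega))
  rw [Finset.mem_filter] at hv0 hv1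
  rw [Finset.mem_insert, Finset.mem_singleton, not_or] at hv1'
  refine ⟨v0 + v1, ?_, ?_, ?_⟩
  · intro h1
    exact hv1'.1 ((add_eq_zero_iff _ _).1 h1).symm
  · intro h1
    apply hv1'.2
    rw [← h1, self_add_add]
  · have h1 := hc v0
    have h2 := hc v1
    rw [hv0.2] at h1
    rw [hv1.2] at h2
    set L := bm k.1 t + bm k.2.1 o + bm k.2.2.1 x + bm k.2.2.2 y
    have h3 : v0 + v1 = (v0 + L) + (v1 + L) := by
      have h4 : (v0 + L) + (v1 + L) = v0 + v1 + (L + L) := by abel
      rw [h4, v_add_self, add_zero]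
    rw [h3, hΦ, h1, h2, one_mul]

end Cfsg.Agent.H785.SpSL
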