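import Cfsg.Agent.H785.FusTools

/-!
# Saturated fusion systems over `S` with `|S : Z(S)| = p²`: local analysis (helper785)
-/

set_option autoImplicit false
set_option linter.unusedSectionVars false
set_option linter.unusedVariables false
set_option linter.style.haveILetI false

namespace Cfsg.Agent.H785

open Cfsg Cfsg.FusionSystem Cfsg.Agent.H802
open scoped commutatorElement

variable {Ω : Type*} [Group Ω] {S : Subgroup Ω}

/-- The centre of `S`, as a subgroup of the ambient group. -/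
def ZS (S : Subgroup Ω) : Subgroup Ω := centralizerIn S S

theorem mem_ZS {z : Ω} : z ∈ ZS S ↔ z ∈ S ∧ ∀ x ∈ S, x * z = z * x := by
  unfold ZS FusionSystem.centralizerIn
  rw [Subgroup.mem_inf, Subgroup.mem_centralizer_iff]
  rfl

theorem ZS_le : ZS S ≤ S := fun _ h => (mem_ZS.1 h).1

theorem map_center (S : Subgroup Ω) : (Subgroup.center S).map S.subtype = ZS S := by
  ext z
  rw [mem_ZS]
  constructor
  · rintro ⟨y, hy, rfl⟩
    refine ⟨y.2, fun x hx => ?_⟩
    exact congrArg Subtype.val (Subgroup.mem_center_iff.1 hy ⟨x, hx⟩)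
  · rintro ⟨hz, h⟩
    refine ⟨⟨z, hz⟩, Subgroup.mem_center_iff.2 fun x => Subtype.ext (h x x.2), rfl⟩

theorem card_ZS (S : Subgroup Ω) : Nat.card (ZS S) = Nat.card (Subgroup.center S) := by
  rw [← map_center]
  exact Nat.card_congr ((Subgroup.center S).equivMapOfInjective _ S.subtype_injective).symm.toEquiv

theorem card_eq_index_mul (S : Subgroup Ω) :
    Nat.card S = (Subgroup.center S).index * Nat.card (ZS S) := by
  rw [card_ZS, mul_comm]
  exact (Subgroup.card_mul_index _).symm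

/-- Between `Z` and `Q` with `|Q| = p |Z|` there is nothing. -/
theorem eq_of_between {p : ℕ} [hp : Fact p.Prime] {Z K Q : Subgroup Ω} [Finite Q] (h1 : Z ≤ K)
    (h2 : K ≤ Q) (hc : Nat.card Q = p * Nat.card Z) (hne : K ≠ Z) : K = Q := by
  have hfK : Finite K := finite_of_le h2
  have hfZ : Finite Z := finite_of_le h1
  obtain ⟨a, ha⟩ := Subgroup.card_dvd_of_le h1
  obtain ⟨b, hb⟩ := Subgroup.card_dvd_of_le h2
  have hZ : 0 < Nat.card Z := Nat.card_pos
  have hab : a * b = p := by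
    have : Nat.card Z * (a * b) = Nat.card Z * p := by
      rw [← mul_assoc, ← ha, ← hb, hc, mul_comm]
    exact Nat.eq_of_mul_eq_mul_left hZ this
  rcases (Nat.dvd_prime hp.out).1 (Dvd.intro b hab) with h | h
  · exfalso
    apply hne
    rw [h, mul_one] at ha
    exact (Subgroup.eq_of_le_of_card_ge h1 ha.le).symm
  · rw [h] at ha
    refine Subgroup.eq_of_le_of_card_ge h2 ?_
    rw [ha, hc, mul_comm]

/-- The local data at an essential subgroup, when `|S : Z(S)| = p²`. -/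
structure Loc (p : ℕ) (F : FusionSystem S) (Q : Subgroup Ω) (g : Ω) (s : MulAut Q)
    (V C D D' : Subgroup Q) : Prop where
  QS : Q ≤ S
  ne : Q ≠ S
  ZQ : ZS S ≤ Q
  cardQ : Nat.card Q = p * Nat.card (ZS S)
  comm : ∀ x y : Q, x * y = y * x
  norm : normalizerIn S Q = S
  rcp : F.IsReceptive Q
  gS : g ∈ S
  gQ : g ∉ Q
  hs : ∀ x : Q, ((s x : Q) : Ω) = g * x * g⁻¹
  aut : autInducedBy S Q = Subgroup.zpowers s
  mem_Z : ∀ x : Q, s x = x ↔ (x : Ω) ∈ ZS S
  dec : Decomp p (F.autGroup Q) s V C D D'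

variable {p : ℕ} [hp : Fact p.Prime] [Finite S] {F : FusionSystem S}

theorem exists_loc (hS : IsPGroup p S) (hF : F.IsSaturated p)
    (hcard : Nat.card S = p ^ 2 * Nat.card (ZS S)) {Q : Subgroup Ω} (hQ : F.IsEssential p Q) :
    ∃ (g : Ω) (s : MulAut Q) (V C D D' : Subgroup Q), Loc p F Q g s V C D D' := by
  have hQS := hQ.1.1
  have hfin : Finite Q := finite_of_le hQS
  have hne := ne_of_isEssential hS hF hQ
  have hC : centralizerIn S Q ≤ Q := hQ.1.2 Q (isConj_refl F hQS)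
  have hrcp := isReceptive_of_isFullyNormalized hS hF hQ.2.1
  have hfa := isFullyAutomized_of_isFullyNormalized hS hF hQ.2.1
  have hZc : ZS S ≤ centralizerIn S Q := by
    intro z hz
    rw [mem_ZS] at hz
    exact ⟨hz.1, Subgroup.mem_centralizer_iff.2 fun x hx => hz.2 x (hQS hx)⟩
  have hZQ : ZS S ≤ Q := hZc.trans hC
  have hfinZ : Finite (ZS S) := finite_of_le hZQ
  have hZ0 : 0 < Nat.card (ZS S) := Nat.card_pos
  have hQZ : Q ≠ ZS S := by
    intro h
    apply hne
    refine le_antisymm hQS (fun x hx => hC ⟨hx, Subgroup.mem_centralizer_iff.2 fun z hz => ?_⟩)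
    have hz' : z ∈ ZS S := by rw [← h]; exact hz
    exact ((mem_ZS.1 hz').2 x hx).symm
  have hcardQ : Nat.card Q = p * Nat.card (ZS S) := by
    obtain ⟨a, ha⟩ := Subgroup.card_dvd_of_le hZQ
    obtain ⟨b, hb⟩ := Subgroup.card_dvd_of_le hQS
    have hab : a * b = p ^ 2 := by
      have : Nat.card (ZS S) * (a * b) = Nat.card (ZS S) * p ^ 2 := by
        rw [← mul_assoc, ← ha, ← hb, hcard, mul_comm]
      exact Nat.eq_of_mul_eq_mul_left hZ0 this
    obtain ⟨i, hi, hai⟩ := (Nat.dvd_prime_pow hp.out).1 (Dvd.intro b hab)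
    have hi0 : i ≠ 0 := by
      rintro rfl
      rw [pow_zero] at hai
      rw [hai, mul_one] at ha
      exact hQZ (Subgroup.eq_of_le_of_card_ge hZQ ha.le).symm
    have hi2 : i ≠ 2 := by
      rintro rfl
      apply hne
      refine Subgroup.eq_of_le_of_card_ge hQS ?_
      rw [ha, hai, hcard, mul_comm]
    have hi1 : i = 1 := by omega
    rw [ha, hai, hi1, pow_one, mul_comm]
  have hcardS : Nat.card S = p * Nat.card Q := by rw [hcard, hcardQ]; ring
  have hcomm : ∀ x y : Q, x * y = y * x := by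
    rintro ⟨x, hx⟩ ⟨y, hy⟩
    apply Subtype.ext
    show x * y = y * x
    by_cases hxZ : x ∈ ZS S
    · exact ((mem_ZS.1 hxZ).2 y (hQS hy)).symm
    · have h1 : Q ⊓ Subgroup.centralizer {x} = Q := by
        refine eq_of_between (p := p) (Z := ZS S) ?_ inf_le_left hcardQ ?_
        · intro z hz
          refine ⟨hZQ hz, Subgroup.mem_centralizer_iff.2 fun w hw => ?_⟩
          rw [Set.mem_singleton_iff.1 hw]
          exact (mem_ZS.1 hz).2 x (hQS hx)
        · intro h
          apply hxZ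
          rw [← h]
          refine ⟨hx, Subgroup.mem_centralizer_iff.2 fun w hw => ?_⟩
          rw [Set.mem_singleton_iff.1 hw]
      have h2 : y ∈ Q ⊓ Subgroup.centralizer {x} := by rw [h1]; exact hy
      exact Subgroup.mem_centralizer_iff.1 h2.2 x rfl
  have hnorm : normalizerIn S Q = S := by
    refine eq_of_between (p := p) (Z := Q) (le_normalizerIn hQS) inf_le_left hcardS ?_
    intro h
    have := card_lt_card_normalizerIn hS hQS hne
    rw [h] at this
    exact lt_irrefl _ this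
  have hCQ : centralizerIn S Q = Q := by
    refine le_antisymm hC fun x hx => ⟨hQS hx, Subgroup.mem_centralizer_iff.2 fun y hy => ?_⟩
    exact congrArg Subtype.val (hcomm ⟨y, hy⟩ ⟨x, hx⟩)
  have hcardA : Nat.card (autInducedBy S Q) = p := by
    have h1 := card_autInducedBy_mul S Q
    rw [hCQ, hnorm, hcardS] at h1
    exact Nat.eq_of_mul_eq_mul_right Nat.card_pos h1
  obtain ⟨g, hgS, hgQ⟩ := SetLike.exists_of_lt (lt_of_le_of_ne hQS hne)
  have hgN : g ∈ Subgroup.normalizer (Q : Set Ω) := by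
    have : g ∈ normalizerIn S Q := by rw [hnorm]; exact hgS
    exact this.2
  obtain ⟨s, hs⟩ := exists_conjAut hgN
  have hsA : s ∈ autInducedBy S Q := conj_mem_autInducedBy hgS hs
  have hs1 : s ≠ 1 := by
    rintro rfl
    apply hgQ
    apply hC
    refine ⟨hgS, Subgroup.mem_centralizer_iff.2 fun x hx => ?_⟩
    have h1 : x = g * x * g⁻¹ := hs ⟨x, hx⟩
    calc x * g = (g * x * g⁻¹) * g := by rw [← h1]
      _ = g * x := by group
  have haut : autInducedBy S Q = Subgroup.zpowers s := by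
    have hle : Subgroup.zpowers s ≤ autInducedBy S Q := Subgroup.zpowers_le.2 hsA
    refine (Subgroup.eq_of_le_of_card_ge hle ?_).symm
    have h1 : Nat.card (Subgroup.zpowers s) ∣ p := by
      rw [← hcardA]
      exact Subgroup.card_dvd_of_le hle
    rcases (Nat.dvd_prime hp.out).1 h1 with h2 | h2
    · exfalso
      rw [Nat.card_zpowers] at h2
      exact hs1 (orderOf_eq_one_iff.1 h2)
    · rw [h2, hcardA]
  have hso : orderOf s = p := by rw [← Nat.card_zpowers, ← haut, hcardA]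
  have hmemZ : ∀ x : Q, s x = x ↔ (x : Ω) ∈ ZS S := by
    intro x
    constructor
    · intro h
      have h1 : S ⊓ Subgroup.centralizer {(x : Ω)} = S := by
        refine eq_of_between (p := p) (Z := Q) ?_ inf_le_left hcardS ?_
        · intro y hy
          refine ⟨hQS hy, Subgroup.mem_centralizer_iff.2 fun w hw => ?_⟩
          rw [Set.mem_singleton_iff.1 hw]
          exact congrArg Subtype.val (hcomm x ⟨y, hy⟩)
        · intro h2
          apply hgQ
          rw [← h2]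
          refine ⟨hgS, Subgroup.mem_centralizer_iff.2 fun w hw => ?_⟩
          rw [Set.mem_singleton_iff.1 hw]
          have h3 := hs x
          rw [h] at h3
          calc (x : Ω) * g = (g * x * g⁻¹) * g := by rw [← h3]
            _ = g * x := by group
      rw [mem_ZS]
      refine ⟨hQS x.2, fun y hy => ?_⟩
      have h2 : y ∈ S ⊓ Subgroup.centralizer {(x : Ω)} := by rw [h1]; exact hy
      exact (Subgroup.mem_centralizer_iff.1 h2.2 x rfl).symm
    · intro h
      apply Subtype.ext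
      rw [hs, (mem_ZS.1 h).2 g hgS, mul_inv_cancel_right]
  -- a second Sylow subgroup
  obtain ⟨α, hα, δ, hδ, hαδ⟩ := exists_not_normalize hS hF hQ
  have hα' : α * s * α⁻¹ ∉ Subgroup.zpowers s := by
    intro h
    apply hαδ
    rw [haut] at hδ ⊢
    obtain ⟨n, rfl⟩ := Subgroup.mem_zpowers_iff.1 hδ
    have e : α * s ^ n * α⁻¹ = (α * s * α⁻¹) ^ n := (conj_zpow).symm
    rw [e]
    exact Subgroup.zpow_mem _ h n
  have hsmall : ∀ B : Subgroup (MulAut Q), B ≤ F.autGroup Q → IsPGroup p B → Nat.card B ≤ p := by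
    intro B hB hBp
    have := card_le_of_pgroup hS hfa (n := 1) (by rw [hcardA, pow_one]) B hB hBp
    rwa [pow_one] at this
  have hQp : IsPGroup p Q := hS.to_le hQS
  obtain ⟨V, C, D, D', hdec⟩ := exists_decomp (p := p) hcomm hQp hsmall
    (autInducedBy_le_autGroup F hQS hsA) hso ((ZS S).subgroupOf Q)
    (fun x => by rw [Subgroup.mem_subgroupOf, hmemZ])
    (by rw [hcardQ, Nat.card_congr (Subgroup.subgroupOfEquivOfLe hZQ).toEquiv]) hα hα'
  exact ⟨g, s, V, C, D, D',
    ⟨hQS, hne, hZQ, hcardQ, hcomm, hnorm, hrcp, hgS, hgQ, hs, haut, hmemZ, hdec⟩⟩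

namespace Loc

variable {Q : Subgroup Ω} {g : Ω} {s : MulAut Q} {V C D D' : Subgroup Q}

theorem D_central (h : Loc p F Q g s V C D D') {d : Q} (hd : d ∈ D) : (d : Ω) ∈ ZS S :=
  (h.mem_Z d).1 (h.dec.fixD d hd)

theorem C_central (h : Loc p F Q g s V C D D') {d : Q} (hd : d ∈ C) : (d : Ω) ∈ ZS S :=
  (h.mem_Z d).1 (h.dec.fixC d hd)

theorem closure_eq (h : Loc p F Q g s V C D D') (hcardS : Nat.card S = p ^ 2 * Nat.card (ZS S)) :
    Subgroup.closure ((Q : Set Ω) ∪ {g}) = S := by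
  have hcardS' : Nat.card S = p * Nat.card Q := by rw [hcardS, h.cardQ]; ring
  refine eq_of_between (p := p) (Z := Q) ?_ ?_ hcardS' ?_
  · exact fun x hx => Subgroup.subset_closure (Or.inl hx)
  · rw [Subgroup.closure_le]
    rintro x (hx | hx)
    · exact h.QS hx
    · rw [Set.mem_singleton_iff.1 hx]
      exact h.gS
  · intro h1
    apply h.gQ
    rw [← h1]
    exact Subgroup.subset_closure (Or.inr rfl)

theorem comm_mem (h : Loc p F Q g s V C D D') (hcardS : Nat.card S = p ^ 2 * Nat.card (ZS S))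
    {x y : Ω} (hx : x ∈ S) (hy : y ∈ S) : x * y * x⁻¹ * y⁻¹ ∈ D.map Q.subtype := by
  refine comm_mem_of_closure (A := (Q : Set Ω) ∪ {g}) (D := D.map Q.subtype) ?_ ?_ x
    (by rw [h.closure_eq hcardS]; exact hx) y (by rw [h.closure_eq hcardS]; exact hy)
  · rintro _ ⟨d, hd, rfl⟩ a ha
    refine (mem_ZS.1 (h.D_central hd)).2 a ?_
    rcases ha with ha | ha
    · exact h.QS ha
    · rw [Set.mem_singleton_iff.1 ha]
      exact h.gS
  · have key : ∀ a ∈ Q, g * a * g⁻¹ * a⁻¹ ∈ D.map Q.subtype := by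
      intro a ha
      refine ⟨(⟨a, ha⟩ : Q)⁻¹ * s ⟨a, ha⟩, h.dec.moveD _, ?_⟩
      rw [h.comm]
      show ((s ⟨a, ha⟩ : Q) : Ω) * a⁻¹ = _
      rw [h.hs]
    rintro a (ha | ha) b (hb | hb)
    · have h1 : a * b = b * a := congrArg Subtype.val (h.comm ⟨a, ha⟩ ⟨b, hb⟩)
      rw [h1]
      have e : b * a * a⁻¹ * b⁻¹ = 1 := by group
      rw [e]
      exact Subgroup.one_mem _
    · rw [Set.mem_singleton_iff.1 hb]
      have := Subgroup.inv_mem _ (key a ha)
      have e : (g * a * g⁻¹ * a⁻¹)⁻¹ = a * g * a⁻¹ * g⁻¹ := by group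
      rwa [e] at this
    · rw [Set.mem_singleton_iff.1 ha]
      exact key b hb
    · rw [Set.mem_singleton_iff.1 ha, Set.mem_singleton_iff.1 hb]
      have e : g * g * g⁻¹ * g⁻¹ = 1 := by group
      rw [e]
      exact Subgroup.one_mem _

/-- `[S,S] = [Q,g]`. -/
theorem map_D (h : Loc p F Q g s V C D D') (hcardS : Nat.card S = p ^ 2 * Nat.card (ZS S)) :
    D.map Q.subtype = ⁅S, S⁆ := by
  refine le_antisymm ?_ (Subgroup.commutator_le.2 fun x hx y hy => h.comm_mem hcardS hx hy)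
  rintro _ ⟨d, hd, rfl⟩
  obtain ⟨y, -, rfl⟩ := h.dec.onto d hd
  have e : Q.subtype (y⁻¹ * s y) = ⁅(y : Ω)⁻¹, g⁆ := by
    show (y : Ω)⁻¹ * ((s y : Q) : Ω) = _
    rw [h.hs, commutatorElement_def]
    group
  rw [e]
  exact Subgroup.commutator_mem_commutator (S.inv_mem (h.QS y.2)) h.gS

/-- Elements of `Aut_F(Q)` normalizing `⟨s⟩` extend to `S`. -/
theorem extend (h : Loc p F Q g s V C D D') {γ : MulAut Q} (hγ : γ ∈ F.autGroup Q)
    (hn : γ * s * γ⁻¹ ∈ Subgroup.zpowers s) : ∃ α ∈ F.autGroup S, ∀ (x : Q) (hx : (x : Ω) ∈ S),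
      ((α ⟨x, hx⟩ : S) : Ω) = (γ x : Q) := by
  obtain ⟨α, hα, hαe⟩ := exists_aut_top h.rcp h.norm hγ (by
    rw [h.aut]
    intro δ hδ
    obtain ⟨n, rfl⟩ := Subgroup.mem_zpowers_iff.1 hδ
    rw [← conj_zpow]
    exact Subgroup.zpow_mem _ hn n)
  exact ⟨α, hα, fun x hx => hαe x x.2 hx⟩

/-- The central involution (inversion on `V`). -/
theorem exists_inv (h : Loc p F Q g s V C D D') :
    ∃ τ ∈ F.autGroup S, (∀ (x : Q) (hx : (x : Ω) ∈ S), x ∈ V → ((τ ⟨x, hx⟩ : S) : Ω) = (x : Ω)⁻¹) ∧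
      (∀ (x : Q) (hx : (x : Ω) ∈ S), x ∈ C → ((τ ⟨x, hx⟩ : S) : Ω) = x) := by
  obtain ⟨t, htG, ht1, ht2, htC, hts⟩ := h.dec.torus (-1) (-1) (by simp)
  have hn : t * s * t⁻¹ ∈ Subgroup.zpowers s := by
    rw [hts]
    exact Subgroup.zpow_mem_zpowers s _
  obtain ⟨τ, hτ, hτe⟩ := h.extend htG hn
  have hV : ∀ x ∈ V, t x = x⁻¹ := by
    let K : Subgroup Q :=
      { carrier := {x | t x = x⁻¹}
        one_mem' := by simp
        mul_mem' := fun {x y} hx hy => by
          show t (x * y) = (x * y)⁻¹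
          rw [map_mul, show t x = x⁻¹ from hx, show t y = y⁻¹ from hy, mul_inv_rev, h.comm]
        inv_mem' := fun {x} hx => by
          show t x⁻¹ = x⁻¹⁻¹
          rw [map_inv, show t x = x⁻¹ from hx] }
    have h1 : D ⊔ D' ≤ K := sup_le (fun x hx => by
      show t x = x⁻¹
      rw [ht1 x hx, zpow_neg_one]) (fun x hx => by
      show t x = x⁻¹
      rw [ht2 x hx, zpow_neg_one])
    exact fun x hx => h1 (h.dec.V_le hx)
  refine ⟨τ, hτ, fun x hx hxV => ?_, fun x hx hxC => ?_⟩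
  · rw [hτe, hV x hxV]
    rfl
  · rw [hτe, htC x hxC]

/-- Frattini argument. -/
theorem exists_frattini (h : Loc p F Q g s V C D D') {α : MulAut Q} (hα : α ∈ F.autGroup Q) :
    ∃ β ∈ F.autGroup S, ∀ (x : Q) (hx : (x : Ω) ∈ S),
      ((β ⟨x, hx⟩ : S) : Ω)⁻¹ * (α x : Q) ∈ V.map Q.subtype ∧
      (x ∈ C → ((α x : Q) : Ω) = (β ⟨x, hx⟩ : S)) := by
  obtain ⟨k, hkG, hkV, hkC, hk⟩ := h.dec.frattini α hα
  obtain ⟨β, hβ, hβe⟩ := h.extend (mul_mem hkG hα) hk
  refine ⟨β, hβ, fun x hx => ⟨?_, fun hxC => ?_⟩⟩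
  · rw [hβe]
    refine ⟨((k * α) x)⁻¹ * α x, ?_, rfl⟩
    have h1 : k⁻¹ ∈ moveIn V := Subgroup.inv_mem _ hkV
    have h2 := h1 ((k * α) x)
    have h3 : k⁻¹ ((k * α) x) = α x := by rw [MulAut.mul_apply, MulAut.inv_apply_self]
    rwa [h3] at h2
  · rw [hβe, MulAut.mul_apply, hkC _ (h.dec.C_inv α hα x hxC)]

end Loc

end Cfsg.Agent.H785
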