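import Cfsg.Agent.H785.CenterIdx
import Cfsg.Agent.Transfer.CentralComm

/-!
# Saturated fusion systems over `S` with `|S : Z(S)| = p²`, `p` odd (helper785)
-/

set_option autoImplicit false
set_option linter.unusedSectionVars false
set_option linter.unusedVariables false
set_option linter.style.haveILetI false

namespace Cfsg.Agent.H785

open Cfsg Cfsg.FusionSystem Cfsg.Agent.H802
open scoped commutatorElement

variable {Ω : Type*} [Group Ω] {S : Subgroup Ω}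

/-- `τ` inverts `[S,S]` and acts trivially on `Z(S)` modulo `[S,S]`. -/
structure InvOn (τ : MulAut S) : Prop where
  inv : ∀ x : S, (x : Ω) ∈ ⁅S, S⁆ → τ x = x⁻¹
  triv : ∀ x : S, (x : Ω) ∈ ZS S → ((x⁻¹ * τ x : S) : Ω) ∈ ⁅S, S⁆

/-- Automorphisms of `S` preserve `[S,S]`. -/
theorem apply_mem_commutator (α : MulAut S) {x : S} (hx : (x : Ω) ∈ ⁅S, S⁆) :
    ((α x : S) : Ω) ∈ ⁅S, S⁆ := by
  have h1 : (commutator S).map S.subtype = ⁅S, S⁆ := by
    rw [commutator_def, Subgroup.map_commutator, ← MonoidHom.range_eq_map, Subgroup.range_subtype]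
  rw [← h1] at hx ⊢
  obtain ⟨y, hy, hyx⟩ := hx
  have hyx' : y = x := Subtype.ext hyx
  subst hyx'
  refine ⟨α y, ?_, rfl⟩
  have h2 : (commutator S).comap α.toMonoidHom = commutator S :=
    (inferInstance : (commutator S).Characteristic).fixed α
  have h3 : y ∈ (commutator S).comap α.toMonoidHom := by rw [h2]; exact hy
  exact h3

theorem apply_mem_ZS (α : MulAut S) {x : S} (hx : (x : Ω) ∈ ZS S) : ((α x : S) : Ω) ∈ ZS S := by
  rw [mem_ZS] at hx ⊢
  refine ⟨(α x).2, fun y hy => ?_⟩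
  have h1 := hx.2 (α⁻¹ ⟨y, hy⟩ : S) (α⁻¹ ⟨y, hy⟩ : S).2
  have h2 : (α⁻¹ ⟨y, hy⟩ : S) * x = x * (α⁻¹ ⟨y, hy⟩ : S) := Subtype.ext h1
  have h3 := congrArg α h2
  rw [map_mul, map_mul, MulAut.apply_inv_self] at h3
  exact congrArg Subtype.val h3

theorem InvOn.conj {τ : MulAut S} (h : InvOn τ) (α : MulAut S) : InvOn (α⁻¹ * τ * α) := by
  constructor
  · intro x hx
    rw [MulAut.mul_apply, MulAut.mul_apply, h.inv _ (apply_mem_commutator α hx), map_inv,
      MulAut.inv_apply_self]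
  · intro x hx
    have h1 := h.triv _ (apply_mem_ZS α hx)
    have h2 := apply_mem_commutator α⁻¹ h1
    rw [map_mul, map_inv, MulAut.inv_apply_self] at h2
    exact h2

variable {p : ℕ} [hp : Fact p.Prime] [Finite S] {F : FusionSystem S}

theorem InvOn.uniq (hS : IsPGroup p S) (hF : F.IsSaturated p) {τ τ' : MulAut S}
    (hτ : τ ∈ F.autGroup S) (hτ' : τ' ∈ F.autGroup S) (h : InvOn τ) (h' : InvOn τ')
    (hexp : ∀ x : Ω, x ∈ ⁅S, S⁆ → x ^ p = 1) (hDZ : ⁅S, S⁆ ≤ ZS S) {z : S}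
    (hz : (z : Ω) ∈ ZS S) : τ z = τ' z := by
  have hcz : ∀ x : S, x * z = z * x := fun x => Subtype.ext ((mem_ZS.1 hz).2 x x.2)
  set u := τ⁻¹ * τ' with hu
  have huF : u ∈ F.autGroup S := mul_mem (inv_mem hτ) hτ'
  -- u fixes the derived group
  have hinv : ∀ x : S, (x : Ω) ∈ ⁅S, S⁆ → τ⁻¹ x = x⁻¹ := by
    intro x hx
    have h1 := h.inv x⁻¹ (by simpa using hx)
    rw [inv_inv] at h1
    rw [← h1, MulAut.inv_apply_self, h1]
  have hufix : ∀ x : S, (x : Ω) ∈ ⁅S, S⁆ → u x = x := by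
    intro x hx
    rw [hu, MulAut.mul_apply, h'.inv x hx, map_inv, hinv x hx, inv_inv]
  -- u moves z inside the derived group
  have hmove : ((z⁻¹ * u z : S) : Ω) ∈ ⁅S, S⁆ := by
    have e1 : z⁻¹ * u z = (z⁻¹ * τ⁻¹ z) * τ⁻¹ (z⁻¹ * τ' z) := by
      rw [hu, MulAut.mul_apply, map_mul, map_inv]
      group
    have e2 : z⁻¹ * τ⁻¹ z = (τ⁻¹ (z⁻¹ * τ z))⁻¹ := by
      rw [map_mul, map_inv, MulAut.inv_apply_self]
      group
    rw [e1, e2]
    have h1 := apply_mem_commutator τ⁻¹ (h.triv z hz)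
    have h2 := apply_mem_commutator τ⁻¹ (h'.triv z hz)
    exact mul_mem (inv_mem h1) h2
  set d := z⁻¹ * u z with hd
  have huz : u z = z * d := by rw [hd]; group
  have hpow : ∀ n : ℕ, (u ^ n) z = z * d ^ n := by
    intro n
    induction n with
    | zero => simp
    | succ n ih =>
      rw [pow_succ', MulAut.mul_apply, ih, map_mul, map_pow, huz, hufix d hmove, mul_assoc,
        ← pow_succ']
  have hdp : d ^ p = 1 := Subtype.ext (hexp _ hmove)
  have h1 : (u ^ p ^ 1) z = z := by rw [pow_one, hpow, hdp, mul_one]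
  have h2 := apply_eq_of_pow_apply_eq hS hF huF hcz h1
  rw [hu, MulAut.mul_apply] at h2
  have h3 := congrArg τ h2
  rw [MulAut.apply_inv_self] at h3
  exact h3.symm

/-- For `p` odd the centre has order `p`. -/
theorem card_ZS_of_odd (hS : IsPGroup p S) (hF : F.IsSaturated p) (hcore : F.core = ⊥)
    (hp2 : p ≠ 2) (hcardS : Nat.card S = p ^ 2 * Nat.card (ZS S)) {Q₀ : Subgroup Ω}
    (hQ₀ : F.IsEssential p Q₀) : Nat.card (ZS S) = p := by
  obtain ⟨g, s, V, C, D, D', h⟩ := exists_loc hS hF hcardS hQ₀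
  -- facts on the derived group
  have hexp : ∀ x : Ω, x ∈ ⁅S, S⁆ → x ^ p = 1 := by
    intro x hx
    rw [← h.map_D hcardS] at hx
    obtain ⟨d, hd, rfl⟩ := hx
    exact congrArg Subtype.val (h.dec.expV d (h.dec.D_le hd))
  have hDZ : ⁅S, S⁆ ≤ ZS S := by
    rw [← h.map_D hcardS]
    rintro _ ⟨d, hd, rfl⟩
    exact h.D_central hd
  -- general facts on a `Loc`
  have key : ∀ (Q : Subgroup Ω), F.IsEssential p Q → ∃ (g : Ω) (s : MulAut Q)
      (V C D D' : Subgroup Q), Loc p F Q g s V C D D' ∧ ∃ τ ∈ F.autGroup S, InvOn τ ∧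
      ∀ (x : Q) (hx : (x : Ω) ∈ S), (x : Ω) ∈ ZS S → (x ∈ C ↔ τ ⟨x, hx⟩ = ⟨x, hx⟩) := by
    intro Q hQ
    obtain ⟨g, s, V, C, D, D', h⟩ := exists_loc hS hF hcardS hQ
    obtain ⟨τ, hτ, hτV, hτC⟩ := h.exists_inv
    refine ⟨g, s, V, C, D, D', h, τ, hτ, ⟨?_, ?_⟩, ?_⟩
    · intro x hx
      have hx' := hx
      rw [← h.map_D hcardS] at hx'
      obtain ⟨d, hd, hdx⟩ := hx'
      have e : x = ⟨(d : Ω), h.QS d.2⟩ := Subtype.ext hdx.symm
      rw [e]
      exact Subtype.ext (hτV d (h.QS d.2) (h.dec.D_le hd))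
    · intro x hx
      have hxQ : (x : Ω) ∈ Q := h.ZQ hx
      obtain ⟨d, hd, c, hc, hdc⟩ := h.dec.fix_le ⟨x, hxQ⟩ ((h.mem_Z _).2 hx)
      have hdS := h.QS d.2
      have hcS := h.QS c.2
      have e : x = ⟨(d : Ω), hdS⟩ * ⟨(c : Ω), hcS⟩ :=
        Subtype.ext (congrArg Subtype.val hdc).symm
      have e1 : τ ⟨(d : Ω), hdS⟩ = (⟨(d : Ω), hdS⟩ : S)⁻¹ :=
        Subtype.ext (hτV d hdS (h.dec.D_le hd))
      have e2 : τ ⟨(c : Ω), hcS⟩ = (⟨(c : Ω), hcS⟩ : S) := Subtype.ext (hτC c hcS hc)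
      have hdD : (d : Ω) ∈ ⁅S, S⁆ := by
        rw [← h.map_D hcardS]
        exact ⟨d, hd, rfl⟩
      rw [e, map_mul, e1, e2]
      have hcom : (c : Ω)⁻¹ * (d : Ω)⁻¹ = (d : Ω)⁻¹ * (c : Ω)⁻¹ := by
        have := (mem_ZS.1 (inv_mem (h.D_central hd))).2 (c : Ω)⁻¹ (S.inv_mem hcS)
        exact this
      have e3 : (((⟨(d : Ω), hdS⟩ * ⟨(c : Ω), hcS⟩ : S)⁻¹ * ((⟨(d : Ω), hdS⟩ : S)⁻¹ *
          ⟨(c : Ω), hcS⟩) : S) : Ω) = (d : Ω)⁻¹ * (d : Ω)⁻¹ := by
        show ((d : Ω) * c)⁻¹ * ((d : Ω)⁻¹ * c) = _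
        rw [mul_inv_rev, hcom, mul_assoc, ← mul_assoc (c : Ω)⁻¹, hcom, mul_assoc, inv_mul_cancel,
          mul_one]
      rw [e3]
      exact mul_mem (inv_mem hdD) (inv_mem hdD)
    · intro x hx hxZ
      constructor
      · intro hxC
        exact Subtype.ext (hτC x hx hxC)
      · intro hfix
        obtain ⟨d, hd, c, hc, hdc⟩ := h.dec.fix_le x ((h.mem_Z _).2 hxZ)
        have hdS := h.QS d.2
        have hcS := h.QS c.2
        have e : (⟨(x : Ω), hx⟩ : S) = ⟨(d : Ω), hdS⟩ * ⟨(c : Ω), hcS⟩ :=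
          Subtype.ext (congrArg Subtype.val hdc).symm
        have e1 : τ ⟨(d : Ω), hdS⟩ = (⟨(d : Ω), hdS⟩ : S)⁻¹ :=
          Subtype.ext (hτV d hdS (h.dec.D_le hd))
        have e2 : τ ⟨(c : Ω), hcS⟩ = (⟨(c : Ω), hcS⟩ : S) := Subtype.ext (hτC c hcS hc)
        rw [e, map_mul, e1, e2] at hfix
        have h1 := mul_right_cancel hfix
        have h2 : (d : Ω)⁻¹ = d := congrArg Subtype.val h1
        have h3 : (d : Ω) ^ 2 = 1 := by
          rw [pow_two]
          nth_rw 1 [← h2]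
          exact inv_mul_cancel _
        have h4 : (d : Ω) ^ p = 1 := congrArg Subtype.val (h.dec.expV d (h.dec.D_le hd))
        have hcop : Nat.Coprime 2 p := (Nat.coprime_primes Nat.prime_two hp.out).2 (Ne.symm hp2)
        have h5 : orderOf (d : Ω) ∣ 1 := by
          rw [← hcop.gcd_eq_one]
          exact Nat.dvd_gcd (orderOf_dvd_of_pow_eq_one h3) (orderOf_dvd_of_pow_eq_one h4)
        have h6 : (d : Ω) = 1 := orderOf_eq_one_iff.1 (Nat.dvd_one.1 h5)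
        have h7 : d = 1 := Subtype.ext h6
        rw [← hdc, h7, one_mul]
        exact hc
  obtain ⟨g, s, V, C, D, D', h, τ, hτ, hτi, hτC⟩ := key Q₀ hQ₀
  have huniq : ∀ {τ₁ τ₂ : MulAut S}, τ₁ ∈ F.autGroup S → τ₂ ∈ F.autGroup S → InvOn τ₁ →
      InvOn τ₂ → ∀ {z : S}, (z : Ω) ∈ ZS S → τ₁ z = τ₂ z :=
    fun h1 h2 h3 h4 z hz => InvOn.uniq hS hF h1 h2 h3 h4 hexp hDZ hz
  -- the invariant subgroup
  let K : Subgroup S :=
    { carrier := {z | (z : Ω) ∈ ZS S ∧ τ z = z}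
      one_mem' := ⟨(ZS S).one_mem, map_one τ⟩
      mul_mem' := fun {x y} hx hy => ⟨(ZS S).mul_mem hx.1 hy.1, by rw [map_mul, hx.2, hy.2]⟩
      inv_mem' := fun {x} hx => ⟨(ZS S).inv_mem hx.1, by rw [map_inv, hx.2]⟩ }
  have hK : K.map S.subtype = ⊥ := by
    refine eq_bot_of_inv hS hF hcore (Subgroup.map_subtype_le K) ?_ ?_ ?_
    · rintro _ ⟨x, hx, rfl⟩ _ ⟨y, hy, rfl⟩
      exact (mem_ZS.1 hy.1).2 x x.2
    · rintro α hα x ⟨y, hy, hyx⟩
      have e : y = x := Subtype.ext hyx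
      subst e
      refine ⟨α y, ⟨apply_mem_ZS α hy.1, ?_⟩, rfl⟩
      have h1 := huniq hτ (mul_mem (mul_mem (inv_mem hα) hτ) hα) hτi (hτi.conj α) hy.1
      rw [hy.2, MulAut.mul_apply, MulAut.mul_apply] at h1
      have h2 := congrArg α h1
      rw [MulAut.apply_inv_self] at h2
      exact h2.symm
    · rintro Q hQ α hα x ⟨y, hy, hyx⟩
      obtain ⟨g', s', V', C', E, E', h', τ', hτ', hτi', hτC'⟩ := key Q hQ
      have hxS : (x : Ω) ∈ S := h'.QS x.2
      have e : y = ⟨x, hxS⟩ := Subtype.ext hyx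
      rw [e] at hy
      have h1 : x ∈ C' := by
        rw [hτC' x hxS hy.1, ← huniq hτ hτ' hτi hτi' hy.1]
        exact hy.2
      have h2 : α x ∈ C' := h'.dec.C_inv α hα x h1
      have h3 := h'.C_central h2
      have h4 : ((α x : Q) : Ω) ∈ S := h'.QS (α x).2
      have h5 := (hτC' (α x) h4 h3).1 h2
      rw [← huniq hτ hτ' hτi hτi' (z := ⟨_, h4⟩) h3] at h5
      exact ⟨⟨_, h4⟩, ⟨h3, h5⟩, rfl⟩
  -- conclusion
  have hZD : ZS S = D.map Q₀.subtype := by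
    refine le_antisymm (fun x hx => ?_) ?_
    · have hxQ : x ∈ Q₀ := h.ZQ hx
      obtain ⟨d, hd, c, hc, hdc⟩ := h.dec.fix_le ⟨x, hxQ⟩ ((h.mem_Z _).2 hx)
      have hcS := h.QS c.2
      have h1 : (c : Ω) ∈ K.map S.subtype :=
        ⟨⟨c, hcS⟩, ⟨h.C_central hc, (hτC c hcS (h.C_central hc)).1 hc⟩, rfl⟩
      rw [hK, Subgroup.mem_bot] at h1
      have h2 : (d : Ω) * c = x := congrArg Subtype.val hdc
      rw [h1, mul_one] at h2
      exact ⟨d, hd, h2⟩
    · rintro _ ⟨d, hd, rfl⟩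
      exact h.D_central hd
  rw [hZD, ← h.dec.cardD]
  exact Nat.card_congr (D.equivMapOfInjective _ Q₀.subtype_injective).symm.toEquiv

/-- For `p` odd, `S` has exponent `p`. -/
theorem pow_eq_one_of_odd (hS : IsPGroup p S) (hF : F.IsSaturated p) (hcore : F.core = ⊥)
    (hp2 : p ≠ 2) (hcardS : Nat.card S = p ^ 2 * Nat.card (ZS S)) {Q₀ : Subgroup Ω}
    (hQ₀ : F.IsEssential p Q₀) (x : S) : x ^ p = 1 := by
  have hcZ := card_ZS_of_odd hS hF hcore hp2 hcardS hQ₀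
  have hcardS3 : Nat.card S = p * p ^ 2 := by rw [hcardS, hcZ]; ring
  -- every essential subgroup has order p² and exponent p
  have key : ∀ Q : Subgroup Ω, F.IsEssential p Q → Q ≤ S ∧ Nat.card Q = p ^ 2 ∧
      (∀ x ∈ Q, x ^ p = 1) ∧ (∀ x ∈ Q, ∀ y ∈ Q, x * y = y * x) ∧
      ∀ x ∈ S, ∀ y ∈ S, (x * y * x⁻¹ * y⁻¹) ∈ ZS S := by
    intro Q hQ
    obtain ⟨g, s, V, C, D, D', h⟩ := exists_loc hS hF hcardS hQ
    have hfin : Finite Q := finite_of_le h.QS
    have hQc : Nat.card Q = p ^ 2 := by rw [h.cardQ, hcZ, pow_two]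
    have hV : V = ⊤ := Subgroup.eq_top_of_card_eq V (by rw [h.dec.cardV, hQc])
    refine ⟨h.QS, hQc, fun x hx => ?_, fun x hx y hy => congrArg Subtype.val (h.comm ⟨x, hx⟩ ⟨y, hy⟩),
      fun x hx y hy => ?_⟩
    · have h1 := h.dec.expV ⟨x, hx⟩ (by rw [hV]; trivial)
      exact congrArg Subtype.val h1
    · obtain ⟨d, hd, hde⟩ := h.comm_mem hcardS hx hy
      rw [← hde]
      exact h.D_central hd
  obtain ⟨hQS, hQc, hQexp, hQcomm, hcomm⟩ := key Q₀ hQ₀
  have hZexp : ∀ z ∈ ZS S, z ^ p = 1 := by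
    intro z hz
    have hfin : Finite (ZS S) := finite_of_le ZS_le
    have h1 : (⟨z, hz⟩ : ZS S) ^ Nat.card (ZS S) = 1 := pow_card_eq_one'
    rw [hcZ] at h1
    exact congrArg Subtype.val h1
  have hcen : ∀ a b : S, ⁅a, b⁆ ∈ Subgroup.center S := by
    intro a b
    rw [Subgroup.mem_center_iff]
    intro y
    apply Subtype.ext
    have h1 := (mem_ZS.1 (hcomm a a.2 b b.2)).2 y y.2
    exact h1
  have hmul : ∀ a b : S, (a * b) ^ p = a ^ p * b ^ p := by
    intro a b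
    refine Transfer.CentralComm.mul_pow_prime hcen hp.out hp2 ?_
    apply Subtype.ext
    exact hZexp _ (hcomm b b.2 a a.2)
  let Om : Subgroup S :=
    { carrier := {x | x ^ p = 1}
      one_mem' := one_pow p
      mul_mem' := fun {x y} hx hy => by
        show (x * y) ^ p = 1
        rw [hmul, show x ^ p = 1 from hx, show y ^ p = 1 from hy, one_mul]
      inv_mem' := fun {x} hx => by
        show x⁻¹ ^ p = 1
        rw [inv_pow, show x ^ p = 1 from hx, inv_one] }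
  have hOmS : Om.map S.subtype ≤ S := Subgroup.map_subtype_le Om
  have hle : ∀ Q : Subgroup Ω, F.IsEssential p Q → Q ≤ Om.map S.subtype := by
    intro Q hQ x hx
    obtain ⟨h1, -, h2, -⟩ := key Q hQ
    exact ⟨⟨x, h1 hx⟩, Subtype.ext (h2 x hx), rfl⟩
  by_cases hOm : Om.map S.subtype = Q₀
  · exfalso
    have hall : ∀ Q : Subgroup Ω, F.IsEssential p Q → Q = Q₀ := by
      intro Q hQ
      have hfin : Finite Q₀ := finite_of_le hQS
      refine Subgroup.eq_of_le_of_card_ge (hOm ▸ hle Q hQ) ?_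
      rw [hQc, (key Q hQ).2.1]
    have hbot : Q₀ = ⊥ := by
      refine eq_bot_of_inv hS hF hcore hQS hQcomm ?_ ?_
      · intro α hα x hx
        rw [← hOm] at hx ⊢
        obtain ⟨y, hy, hyx⟩ := hx
        have e : y = x := Subtype.ext hyx
        subst e
        refine ⟨α y, ?_, rfl⟩
        show α y ^ p = 1
        rw [← map_pow, show y ^ p = 1 from hy, map_one]
      · intro Q hQ α hα x hx
        have e := hall Q hQ
        subst e
        exact (α x).2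
    rw [hbot, Subgroup.card_bot] at hQc
    have := Nat.one_lt_pow two_ne_zero hp.out.one_lt
    omega
  · have h1 : Om.map S.subtype = S := by
      refine eq_of_between (p := p) (Z := Q₀) (hle Q₀ hQ₀) hOmS ?_ hOm
      rw [hcardS3, hQc]
    have h2 : (x : Ω) ∈ Om.map S.subtype := by rw [h1]; exact x.2
    obtain ⟨y, hy, hyx⟩ := h2
    have e : y = x := Subtype.ext hyx
    subst e
    exact hy

end Cfsg.Agent.H785
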