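import Cfsg.Agent.H785.CenterOdd
import Cfsg.Agent.SmallSimple.Simple168Classes

/-!
# Saturated fusion systems over 2-groups `S` with `|S : Z(S)| = 4` (helper785)
-/

set_option autoImplicit false
set_option linter.unusedSectionVars false
set_option linter.unusedVariables false
set_option linter.style.haveILetI false

namespace Cfsg.Agent.H785

open Cfsg Cfsg.FusionSystem Cfsg.Agent.H802
open scoped commutatorElement

/-- An automorphism `β` of odd order of a group of order four, with an invariant property `P` holding at some `v ≠ 1`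
but never at three elements `a, b, a b`, is trivial. -/
theorem klein_aut {E : Type*} [Group E] (hE : Nat.card E = 4) (β : MulAut E) {n : ℕ} (hn : Odd n)
    (hβ : β ^ n = 1) (P : E → Prop) (hP : ∀ x, P x → P (β x)) (hsq : ∀ x, P x → x * x = 1)
    (hno : ∀ a b, a ≠ 1 → b ≠ 1 → a ≠ b → P a → P b → ¬ P (a * b)) {v : E} (hv : P v)
    (hv1 : v ≠ 1) : β = 1 := by
  have hfin : Finite E := Nat.finite_of_card_ne_zero (by rw [hE]; norm_num)
  have hcomm : ∀ x y : E, x * y = y * x := by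
    have : Fact (Nat.Prime 2) := ⟨Nat.prime_two⟩
    exact (IsPGroup.isMulCommutative_of_card_eq_prime_sq (p := 2) (by rw [hE]; norm_num)).is_comm.comm
  have hall : ∀ a b : E, a ≠ 1 → b ≠ 1 → a ≠ b → a * a = 1 → ∀ x : E,
      x = 1 ∨ x = a ∨ x = b ∨ x = a * b := by
    intro a b ha hb hab haa x
    by_contra hcon
    push Not at hcon
    obtain ⟨h1, h2, h3, h4⟩ := hcon
    have hft : Fintype E := Fintype.ofFinite E
    classical
    have hab1 : a * b ≠ 1 := by
      intro h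
      apply hab
      have : a * a = a * b := by rw [haa, h]
      exact mul_left_cancel this
    have haba : a * b ≠ a := fun h => hb (mul_eq_left.1 h)
    have habb : a * b ≠ b := fun h => ha (mul_eq_right.1 h)
    have hcard : ({1, a, b, a * b, x} : Finset E).card = 5 := by
      rw [Finset.card_insert_of_notMem, Finset.card_insert_of_notMem,
        Finset.card_insert_of_notMem, Finset.card_insert_of_notMem, Finset.card_singleton]
      · simpa using Ne.symm h4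
      · simp [habb.symm, Ne.symm h3]
      · simp [hab, haba.symm, Ne.symm h2]
      · simp [ha.symm, hb.symm, hab1.symm, Ne.symm h1]
    have := Finset.card_le_univ ({1, a, b, a * b, x} : Finset E)
    rw [hcard, ← Nat.card_eq_fintype_card, hE] at this
    omega
  have hfinish : β ^ 2 = 1 → β = 1 := by
    intro h2
    obtain ⟨k, hk⟩ := hn
    rw [hk, pow_succ, pow_mul, h2, one_pow, one_mul] at hβ
    exact hβ
  have hvv := hsq v hv
  have hβv : β v = v := by
    by_contra hne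
    have ha1 : β v ≠ 1 := fun h => hv1 (β.injective (h.trans (map_one β).symm))
    have hPa := hP v hv
    have hPb := hP _ hPa
    have hb1 : β (β v) ≠ 1 := fun h => ha1 (β.injective (h.trans (map_one β).symm))
    have hb2 : β (β v) = v := by
      rcases hall v (β v) hv1 ha1 (Ne.symm hne) hvv (β (β v)) with h | h | h | h
      · exact absurd h hb1
      · exact h
      · exact absurd (β.injective h) hne
      · exact absurd (h ▸ hPb) (hno v (β v) hv1 ha1 (Ne.symm hne) hv hPa)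
    apply hne
    have h2 : β ^ 2 = 1 := by
      apply MulEquiv.ext
      intro x
      rw [pow_two, MulAut.mul_apply, MulAut.one_apply]
      rcases hall v (β v) hv1 ha1 (Ne.symm hne) hvv x with h | h | h | h
      · rw [h, map_one, map_one]
      · rw [h, hb2]
      · rw [h, hb2]
      · rw [h, map_mul, map_mul, hb2]
    rw [hfinish h2, MulAut.one_apply]
  apply hfinish
  obtain ⟨w, hw1, hwv⟩ : ∃ w : E, w ≠ 1 ∧ w ≠ v := by
    by_contra hcon
    push Not at hcon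
    have hft : Fintype E := Fintype.ofFinite E
    classical
    have h1 : (Finset.univ : Finset E) ⊆ {1, v} := by
      intro x _
      by_cases hx : x = 1
      · simp [hx]
      · simp [hcon x hx]
    have h2 := Finset.card_le_card h1
    have h3 : ({1, v} : Finset E).card ≤ 2 := Finset.card_le_two
    rw [Finset.card_univ, ← Nat.card_eq_fintype_card, hE] at h2
    omega
  have hw : β (β w) = w := by
    have hw1' : β w ≠ 1 := fun h => hw1 (β.injective (h.trans (map_one β).symm))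
    rcases hall v w hv1 hw1 (Ne.symm hwv) hvv (β w) with h | h | h | h
    · exact absurd h hw1'
    · exact absurd (β.injective (h.trans hβv.symm)) hwv
    · rw [h, h]
    · rw [h, map_mul, hβv, h, ← mul_assoc, hvv, one_mul]
  apply MulEquiv.ext
  intro x
  rw [pow_two, MulAut.mul_apply, MulAut.one_apply]
  rcases hall v w hv1 hw1 (Ne.symm hwv) hvv x with h | h | h | h
  · rw [h, map_one, map_one]
  · rw [h, hβv, hβv]
  · rw [h, hw]
  · rw [h, map_mul, map_mul, hβv, hβv, hw]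

variable {Ω : Type*} [Group Ω] {S : Subgroup Ω} [Finite S] {F : FusionSystem S}

namespace Loc

variable {p : ℕ} [hp : Fact p.Prime] {Q : Subgroup Ω} {g : Ω} {s : MulAut Q} {V C D D' : Subgroup Q}

/-- `V` contains an element of order `p` outside `Z(S)`. -/
theorem exists_mem_V (h : Loc p F Q g s V C D D') : ∃ v : Q, v ∈ V ∧ (v : Ω) ∉ ZS S := by
  have hfin : Finite Q := finite_of_le h.QS
  have hnt : Nontrivial D' := by
    rw [← Finite.one_lt_card_iff_nontrivial, h.dec.cardD']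
    exact hp.out.one_lt
  obtain ⟨⟨d, hd⟩, hd1⟩ := exists_ne (1 : D')
  refine ⟨d, h.dec.D'_le hd, fun hZ => ?_⟩
  obtain ⟨e, he, c, hc, hec⟩ := h.dec.fix_le d ((h.mem_Z d).2 hZ)
  have hcV : c ∈ V := by
    have : c = e⁻¹ * d := by rw [← hec]; group
    rw [this]
    exact V.mul_mem (V.inv_mem (h.dec.D_le he)) (h.dec.D'_le hd)
  have hc1 := h.dec.V_inf c hcV hc
  rw [hc1, mul_one] at hec
  subst hec
  exact hd1 (Subtype.ext (h.dec.D_inf e he hd))

/-- An element of `S` commuting with an element of `Q` outside `Z(S)` lies in `Q`. -/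
theorem mem_of_comm (h : Loc p F Q g s V C D D') (hcardS : Nat.card S = p ^ 2 * Nat.card (ZS S))
    {v w : Ω} (hv : v ∈ Q) (hvZ : v ∉ ZS S) (hw : w ∈ S) (hvw : v * w = w * v) : w ∈ Q := by
  by_contra hwQ
  have hcardS' : Nat.card S = p * Nat.card Q := by rw [hcardS, h.cardQ]; ring
  have h1 : S ⊓ Subgroup.centralizer {v} = S := by
    refine eq_of_between (p := p) (Z := Q) ?_ inf_le_left hcardS' ?_
    · intro y hy
      refine ⟨h.QS hy, Subgroup.mem_centralizer_iff.2 fun w hw => ?_⟩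
      rw [Set.mem_singleton_iff.1 hw]
      exact congrArg Subtype.val (h.comm ⟨v, hv⟩ ⟨y, hy⟩)
    · intro h2
      apply hwQ
      rw [← h2]
      refine ⟨hw, Subgroup.mem_centralizer_iff.2 fun u hu => ?_⟩
      rw [Set.mem_singleton_iff.1 hu]
      exact hvw
  apply hvZ
  rw [mem_ZS]
  refine ⟨h.QS hv, fun y hy => ?_⟩
  have h2 : y ∈ S ⊓ Subgroup.centralizer {v} := by rw [h1]; exact hy
  exact (Subgroup.mem_centralizer_iff.1 h2.2 v rfl).symm

end Loc

variable [hp : Fact (Nat.Prime 2)]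

/-- Three cosets of `Z(S)` with product in `Z(S)` cannot all contain involutions. -/
theorem Loc.no_third {Q : Subgroup Ω} {g : Ω} {s : MulAut Q} {V C D D' : Subgroup Q}
    (h : Loc 2 F Q g s V C D D') (hcardS : Nat.card S = 2 ^ 2 * Nat.card (ZS S))
    {v w y : Ω} (hv : v ∈ S) (hw : w ∈ S) (hy : y ∈ ZS S) (hvv : v * v = 1) (hww : w * w = 1)
    (hvw : v * w ≠ w * v) : (v * w * y) * (v * w * y) ≠ 1 := by
  intro hu
  have hyv := (mem_ZS.1 hy).2 v hv
  have hyw := (mem_ZS.1 hy).2 w hw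
  have e1 : (v * w * y) * (v * w * y) = (v * w * v * w) * (y * y) := by
    calc (v * w * y) * (v * w * y) = v * w * (y * v) * w * y := by group
      _ = v * w * (v * y) * w * y := by rw [← hyv]
      _ = v * w * v * (y * w) * y := by group
      _ = v * w * v * (w * y) * y := by rw [← hyw]
      _ = _ := by group
  rw [e1] at hu
  have hvi : v⁻¹ = v := inv_eq_of_mul_eq_one_right hvv
  have hwi : w⁻¹ = w := inv_eq_of_mul_eq_one_right hww
  have he : v * w * v * w ∈ D.map Q.subtype := by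
    have := h.comm_mem hcardS hv hw
    rwa [hvi, hwi] at this
  obtain ⟨d, hd, hde⟩ := he
  have hd1 : d ≠ 1 := by
    rintro rfl
    apply hvw
    have h1 : v * w * v * w = 1 := hde.symm
    calc v * w = (v * w * v * w) * (w⁻¹ * v⁻¹) := by group
      _ = w * v := by rw [h1, one_mul, hvi, hwi]
  obtain ⟨e, he, c, hc, hec⟩ := h.dec.fix_le ⟨y, h.ZQ hy⟩ ((h.mem_Z _).2 hy)
  have hee : e * e = 1 := by
    have := h.dec.expV e (h.dec.D_le he)
    rwa [pow_two] at this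
  have hyy : (y * y : Ω) = ((c * c : Q) : Ω) := by
    have h1 : (⟨y, h.ZQ hy⟩ : Q) * ⟨y, h.ZQ hy⟩ = c * c := by
      rw [← hec]
      calc e * c * (e * c) = e * (c * e) * c := by group
        _ = e * (e * c) * c := by rw [h.comm c e]
        _ = (e * e) * (c * c) := by group
        _ = c * c := by rw [hee, one_mul]
    exact congrArg Subtype.val h1
  rw [hyy, ← hde] at hu
  have h2 : d * (c * c) = 1 := Subtype.ext hu
  have h3 : c * c = d⁻¹ := by rw [eq_inv_iff_mul_eq_one, h.comm]; exact h2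
  apply hd1
  have h4 := h.dec.V_inf d⁻¹ (V.inv_mem (h.dec.D_le hd)) (h3 ▸ C.mul_mem hc hc)
  exact inv_eq_one.1 h4

/-- Two elements of `K` outside `Z(S)` lie in the same coset, for `Z(S) ≤ K < S`, `|S : Z(S)| = 4`. -/
theorem same_coset (hcardS : Nat.card S = 2 ^ 2 * Nat.card (ZS S)) {K : Subgroup Ω}
    (hZK : ZS S ≤ K) (hKS : K ≤ S) (hne : K ≠ S) {x y : Ω} (hx : x ∈ K) (hxZ : x ∉ ZS S)
    (hy : y ∈ K) (hyZ : y ∉ ZS S) : x⁻¹ * y ∈ ZS S := by
  have hfinK : Finite K := finite_of_le hKS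
  have hfinZ : Finite (ZS S) := finite_of_le ZS_le
  have hKZ : K ≠ ZS S := fun h => hxZ (h ▸ hx)
  have hcK : Nat.card K = 2 * Nat.card (ZS S) := by
    obtain ⟨a, ha⟩ := Subgroup.card_dvd_of_le hZK
    obtain ⟨b, hb⟩ := Subgroup.card_dvd_of_le hKS
    have hZ0 : 0 < Nat.card (ZS S) := Nat.card_pos
    have hab : a * b = 2 ^ 2 := by
      have : Nat.card (ZS S) * (a * b) = Nat.card (ZS S) * 2 ^ 2 := by
        rw [← mul_assoc, ← ha, ← hb, hcardS, mul_comm]
      exact Nat.eq_of_mul_eq_mul_left hZ0 this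
    obtain ⟨i, hi, hai⟩ := (Nat.dvd_prime_pow Nat.prime_two).1 (Dvd.intro b hab)
    have hi0 : i ≠ 0 := by
      rintro rfl
      rw [pow_zero] at hai
      rw [hai, mul_one] at ha
      exact hKZ (Subgroup.eq_of_le_of_card_ge hZK ha.le).symm
    have hi2 : i ≠ 2 := by
      rintro rfl
      apply hne
      refine Subgroup.eq_of_le_of_card_ge hKS ?_
      rw [ha, hai, hcardS, mul_comm]
    have hi1 : i = 1 := by omega
    rw [ha, hai, hi1, pow_one, mul_comm]
  have hidx : ((ZS S).subgroupOf K).index = 2 := by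
    have h1 := Subgroup.card_mul_index ((ZS S).subgroupOf K)
    rw [Nat.card_congr (Subgroup.subgroupOfEquivOfLe hZK).toEquiv, hcK, mul_comm] at h1
    exact Nat.eq_of_mul_eq_mul_right Nat.card_pos h1
  have h1 := (Subgroup.mul_mem_iff_of_index_two hidx (a := (⟨x, hx⟩ : K)⁻¹) (b := ⟨y, hy⟩)).2
    ⟨fun h => absurd (((ZS S).subgroupOf K).inv_mem h) (by
        rw [inv_inv]
        exact hxZ), fun h => absurd h hyZ⟩
  exact h1

/-- Odd-order automorphisms of `S` act trivially on `S / Z(S)`. -/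
theorem Loc.trivial_mod_center {Q : Subgroup Ω} {g : Ω} {s : MulAut Q} {V C D D' : Subgroup Q}
    (h : Loc 2 F Q g s V C D D') (hcardS : Nat.card S = 2 ^ 2 * Nat.card (ZS S))
    {α : MulAut S} {n : ℕ} (hn : Odd n) (hα : α ^ n = 1) (x : S) :
    ((x⁻¹ * α x : S) : Ω) ∈ ZS S := by
  have hmemc : ∀ y : S, y ∈ Subgroup.center S ↔ (y : Ω) ∈ ZS S := by
    intro y
    rw [mem_ZS, Subgroup.mem_center_iff]
    exact ⟨fun hy => ⟨y.2, fun w hw => congrArg Subtype.val (hy ⟨w, hw⟩)⟩,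
      fun hy w => Subtype.ext (hy.2 w w.2)⟩
  have hmap : (Subgroup.center S).map α.toMonoidHom = Subgroup.center S := by
    ext y
    constructor
    · rintro ⟨w, hw, rfl⟩
      rw [hmemc]
      exact apply_mem_ZS α ((hmemc w).1 hw)
    · intro hy
      refine ⟨α⁻¹ y, ?_, MulAut.apply_inv_self _ α y⟩
      have := apply_mem_ZS α⁻¹ ((hmemc y).1 hy)
      exact (hmemc _).2 this
  set E := S ⧸ Subgroup.center S with hE
  let β : MulAut E := QuotientGroup.congr _ _ α hmap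
  have hβ : ∀ y : S, β (y : E) = ((α y : S) : E) := fun y => rfl
  have hβpow : ∀ (m : ℕ) (y : S), (β ^ m) (y : E) = (((α ^ m) y : S) : E) := by
    intro m
    induction m with
    | zero => intro y; rfl
    | succ m ih =>
      intro y
      rw [pow_succ, MulAut.mul_apply, hβ, ih, pow_succ, MulAut.mul_apply]
  have hβn : β ^ n = 1 := by
    apply MulEquiv.ext
    intro e
    induction e using QuotientGroup.induction_on with
    | H y => rw [hβpow, hα]; rfl
  have hcardE : Nat.card E = 4 := by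
    have h1 := card_eq_index_mul S
    rw [hcardS] at h1
    have hfinZ : Finite (ZS S) := finite_of_le ZS_le
    have h2 := Nat.eq_of_mul_eq_mul_right Nat.card_pos h1
    rw [hE]
    rw [← Subgroup.index_eq_card, ← h2]
    norm_num
  have hone : ∀ y : S, ((y : E) = 1 ↔ (y : Ω) ∈ ZS S) := by
    intro y
    rw [QuotientGroup.eq_one_iff, hmemc]
  have hcomm_of : ∀ u w : S, (u : E) ≠ 1 → (w : E) ≠ 1 → (u : E) ≠ w → (u : Ω) * w ≠ w * u := by
    intro u w hu hw huw hc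
    apply huw
    rw [QuotientGroup.eq, hmemc]
    rw [Ne, hone] at hu hw
    refine same_coset (S := S) hcardS (K := S ⊓ Subgroup.centralizer {(u : Ω)}) ?_ inf_le_left ?_
      ⟨u.2, ?_⟩ hu ⟨w.2, ?_⟩ hw
    · intro z hz
      refine ⟨ZS_le hz, Subgroup.mem_centralizer_iff.2 fun t ht => ?_⟩
      rw [Set.mem_singleton_iff.1 ht]
      exact (mem_ZS.1 hz).2 u u.2
    · intro h1
      apply hu
      rw [mem_ZS]
      refine ⟨u.2, fun y hy => ?_⟩
      have h2 : y ∈ S ⊓ Subgroup.centralizer {(u : Ω)} := by rw [h1]; exact hy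
      exact (Subgroup.mem_centralizer_iff.1 h2.2 u rfl).symm
    · refine Subgroup.mem_centralizer_iff.2 fun t ht => ?_
      rw [Set.mem_singleton_iff.1 ht]
    · refine Subgroup.mem_centralizer_iff.2 fun t ht => ?_
      rw [Set.mem_singleton_iff.1 ht]
      exact hc
  obtain ⟨v, hvV, hvZ⟩ := h.exists_mem_V
  have hβ1 : β = 1 := by
    refine klein_aut hcardE β hn hβn (fun e => ∃ u : S, u * u = 1 ∧ (u : E) = e) ?_ ?_ ?_
      (v := ((⟨v, h.QS v.2⟩ : S) : E)) ⟨⟨v, h.QS v.2⟩, ?_, rfl⟩ ?_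
    · rintro _ ⟨u, hu, rfl⟩
      exact ⟨α u, by rw [← map_mul, hu, map_one], rfl⟩
    · rintro _ ⟨u, hu, rfl⟩
      rw [← QuotientGroup.mk_mul, hu]
      rfl
    · rintro _ _ ha hb hab ⟨u, hu, rfl⟩ ⟨w, hw, rfl⟩ ⟨t, ht, hte⟩
      have hc := hcomm_of u w ha hb hab
      rw [← QuotientGroup.mk_mul, eq_comm, QuotientGroup.eq, hmemc] at hte
      refine h.no_third hcardS u.2 w.2 hte (congrArg Subtype.val hu) (congrArg Subtype.val hw) hc ?_
      have e : (u : Ω) * w * (((u * w)⁻¹ * t : S) : Ω) = t := by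
        show (u : Ω) * w * (((u : Ω) * w)⁻¹ * t) = t
        group
      rw [e]
      exact congrArg Subtype.val ht
    · have h1 := h.dec.expV v hvV
      rw [pow_two] at h1
      have h2 : (v : Ω) * v = 1 := congrArg Subtype.val h1
      exact Subtype.ext h2
    · rw [Ne, hone]
      exact hvZ
  have h1 : (x : E) = ((α x : S) : E) := by
    rw [← hβ, hβ1]
    rfl
  rw [QuotientGroup.eq, hmemc] at h1
  exact h1

/-- An automorphism in `Aut_F(S)` preserving `Q` restricts to an element of `Aut_F(Q)`. -/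
theorem exists_restrict {Q : Subgroup Ω} (hQS : Q ≤ S) {α : MulAut S} (hα : α ∈ F.autGroup S)
    (hinv : ∀ (x : Ω) (hx : x ∈ S), x ∈ Q → ((α ⟨x, hx⟩ : S) : Ω) ∈ Q) :
    ∃ γ ∈ F.autGroup Q, ∀ x : Q, ((γ x : Q) : Ω) = (α ⟨x, hQS x.2⟩ : S) := by
  have hfin : Finite Q := finite_of_le hQS
  have h1 := restrict_mem ((mem_autGroup_iff F le_rfl α).1 hα) hQS
  obtain ⟨γ, hγ, hγe⟩ := exists_aut h1 (range_eq_of_mapsTo h1 (fun x => hinv x (hQS x.2) x.2))
  exact ⟨γ, hγ, hγe⟩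

/-- `Aut_F(S) = Inn(S)`. -/
theorem aut_eq_inn_two (hS : IsPGroup 2 S) (hF : F.IsSaturated 2) (hcore : F.core = ⊥)
    (hcardS : Nat.card S = 2 ^ 2 * Nat.card (ZS S)) {Q₀ : Subgroup Ω}
    (hQ₀ : F.IsEssential 2 Q₀) {α : MulAut S} (hα : α ∈ F.autGroup S) : α ∈ Inn S := by
  obtain ⟨g, s, V, C, D, D', h⟩ := exists_loc hS hF hcardS hQ₀
  have htriv : ∀ β ∈ F.autGroup S, ∀ n : ℕ, Odd n → β ^ n = 1 → ∀ x : S,
      ((x⁻¹ * β x : S) : Ω) ∈ ZS S := fun β _ n hn hβ x => h.trivial_mod_center hcardS hn hβ x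
  -- the subgroup generated by all [Z, β]
  let T : Set Ω := {y | ∃ β ∈ F.autGroup S, ∃ n : ℕ, Odd n ∧ β ^ n = 1 ∧ ∃ x : S,
    (x : Ω) ∈ ZS S ∧ y = (x : Ω)⁻¹ * (β x : S)}
  set N := Subgroup.closure T with hN
  have hNZ : N ≤ ZS S := by
    rw [hN, Subgroup.closure_le]
    rintro _ ⟨β, hβ, n, hn, hβn, x, hx, rfl⟩
    exact mul_mem (inv_mem hx) (apply_mem_ZS β hx)
  -- N ≤ C for every essential Q
  have hNC : ∀ (Q : Subgroup Ω) (g : Ω) (s : MulAut Q) (V C D D' : Subgroup Q),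
      Loc 2 F Q g s V C D D' → N ≤ C.map Q.subtype := by
    intro Q g s V C D D' h
    rw [hN, Subgroup.closure_le]
    rintro _ ⟨β, hβ, n, hn, hβn, x, hx, rfl⟩
    obtain ⟨γ, hγ, hγe⟩ := exists_restrict h.QS hβ (by
      intro y hy hyQ
      have h1 := h.ZQ (htriv β hβ n hn hβn ⟨y, hy⟩)
      have h2 := Q.mul_mem hyQ h1
      have e : y * (((⟨y, hy⟩ : S)⁻¹ * β ⟨y, hy⟩ : S) : Ω) = (β ⟨y, hy⟩ : S) := by
        show y * (y⁻¹ * ((β ⟨y, hy⟩ : S) : Ω)) = _
        group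
      rwa [e] at h2)
    obtain ⟨d, hd, c, hc, hdc⟩ := h.dec.fix_le ⟨x, h.ZQ hx⟩ ((h.mem_Z _).2 hx)
    have hγd : γ d = d := by
      -- D has order two and is invariant
      have hdD : ((γ d : Q) : Ω) ∈ D.map Q.subtype := by
        rw [hγe, h.map_D hcardS]
        refine apply_mem_commutator β ?_
        rw [← h.map_D hcardS]
        exact ⟨d, hd, rfl⟩
      obtain ⟨d', hd', hde⟩ := hdD
      have e : d' = γ d := Subtype.ext hde
      rw [e] at hd'
      have hfD : Finite D := Nat.finite_of_card_ne_zero (by rw [h.dec.cardD]; norm_num)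
      by_contra hne
      have hd1 : d ≠ 1 := by
        rintro rfl
        exact hne (map_one γ)
      have hγd1 : γ d ≠ 1 := fun e => hd1 (γ.injective (e.trans (map_one γ).symm))
      have h3 : ({1, ⟨d, hd⟩, ⟨γ d, hd'⟩} : Set D).ncard = 3 := by
        rw [Set.ncard_eq_three]
        refine ⟨1, ⟨d, hd⟩, ⟨γ d, hd'⟩, ?_, ?_, ?_, rfl⟩
        · exact fun e => hd1 (congrArg Subtype.val e).symm
        · exact fun e => hγd1 (congrArg Subtype.val e).symm
        · exact fun e => hne (congrArg Subtype.val e).symm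
      have h4 := Set.ncard_le_card ({1, ⟨d, hd⟩, ⟨γ d, hd'⟩} : Set D)
      rw [h3, h.dec.cardD] at h4
      omega
    refine ⟨c⁻¹ * γ c, C.mul_mem (C.inv_mem hc) (h.dec.C_inv γ hγ c hc), ?_⟩
    have h5 : (⟨x, h.ZQ hx⟩ : Q)⁻¹ * γ ⟨x, h.ZQ hx⟩ = c⁻¹ * γ c := by
      rw [← hdc, map_mul, hγd]
      group
    rw [← h5]
    show (x : Ω)⁻¹ * ((γ ⟨x, h.ZQ hx⟩ : Q) : Ω) = _
    rw [hγe]
  have hNinv : ∀ β ∈ F.autGroup S, ∀ x : S, (x : Ω) ∈ N → ((β x : S) : Ω) ∈ N := by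
    intro β hβ x hx
    have hNS : N ≤ S := hNZ.trans ZS_le
    have key : N ≤ ((N.subgroupOf S).comap β.toMonoidHom).map S.subtype := by
      rw [hN, Subgroup.closure_le, ← hN]
      rintro _ ⟨γ, hγ, n, hn, hγn, y, hy, rfl⟩
      refine ⟨y⁻¹ * γ y, ?_, rfl⟩
      show ((β (y⁻¹ * γ y) : S) : Ω) ∈ N
      refine Subgroup.subset_closure ⟨β * γ * β⁻¹, mul_mem (mul_mem hβ hγ) (inv_mem hβ), n, hn, ?_,
        β y, apply_mem_ZS β hy, ?_⟩
      · rw [conj_pow, hγn, mul_one, mul_inv_cancel]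
      · rw [MulAut.mul_apply, MulAut.mul_apply, MulAut.inv_apply_self, map_mul, map_inv]
        rfl
    obtain ⟨y, hy, hyx⟩ := key hx
    have e : y = x := Subtype.ext hyx
    subst e
    exact hy
  have hNbot : N = ⊥ := by
    refine eq_bot_of_inv hS hF hcore (hNZ.trans ZS_le) ?_ hNinv ?_
    · intro x hx y hy
      exact (mem_ZS.1 (hNZ hy)).2 x (ZS_le (hNZ hx))
    · intro Q hQ γ hγ x hx
      obtain ⟨g', s', V', C', E, E', h'⟩ := exists_loc hS hF hcardS hQ
      obtain ⟨β, hβ, hβe⟩ := h'.exists_frattini hγ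
      have hxS : (x : Ω) ∈ S := h'.QS x.2
      obtain ⟨c, hc, hcx⟩ := hNC Q g' s' V' C' E E' h' hx
      have e : c = x := Subtype.ext hcx
      subst e
      rw [(hβe c hxS).2 hc]
      exact hNinv β hβ ⟨c, hxS⟩ hx
  -- odd order elements are trivial
  have hodd : ∀ β ∈ F.autGroup S, ∀ n : ℕ, Odd n → β ^ n = 1 → β = 1 := by
    intro β hβ n hn hβn
    have hfixZ : ∀ x : S, (x : Ω) ∈ ZS S → β x = x := by
      intro x hx
      have h1 : (x : Ω)⁻¹ * ((β x : S) : Ω) ∈ N :=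
        Subgroup.subset_closure ⟨β, hβ, n, hn, hβn, x, hx, rfl⟩
      rw [hNbot, Subgroup.mem_bot, inv_mul_eq_one] at h1
      exact Subtype.ext h1.symm
    apply MulEquiv.ext
    intro x
    rw [MulAut.one_apply]
    set z := x⁻¹ * β x with hz
    have hzZ : (z : Ω) ∈ ZS S := htriv β hβ n hn hβn x
    have hβx : β x = x * z := by rw [hz]; group
    have hpow : ∀ m : ℕ, (β ^ m) x = x * z ^ m := by
      intro m
      induction m with
      | zero => simp
      | succ m ih =>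
        rw [pow_succ', MulAut.mul_apply, ih, map_mul, map_pow, hfixZ z hzZ, hβx, mul_assoc,
          ← pow_succ']
    have h1 := hpow n
    rw [hβn, MulAut.one_apply] at h1
    have h2 : z ^ n = 1 := (mul_eq_left.1 h1.symm)
    obtain ⟨k, hk⟩ := hS z
    have h3 : orderOf z ∣ 1 := by
      have hcop : Nat.Coprime n (2 ^ k) := Nat.Coprime.pow_right k (Nat.coprime_two_right.2 hn)
      rw [← hcop.gcd_eq_one]
      exact Nat.dvd_gcd (orderOf_dvd_of_pow_eq_one h2) (orderOf_dvd_of_pow_eq_one hk)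
    have h4 : z = 1 := orderOf_eq_one_iff.1 (Nat.dvd_one.1 h3)
    rw [hβx, h4, mul_one]
  -- conclusion
  have hfin : Finite (MulAut S) := inferInstance
  obtain ⟨a, m, hm, ham⟩ := Nat.exists_eq_pow_mul_and_not_dvd (orderOf_pos α).ne' 2 (by norm_num)
  have h1 : (α ^ 2 ^ a) ^ m = 1 := by rw [← pow_mul, ← ham, pow_orderOf_eq_one]
  have h2 := hodd _ (pow_mem hα (2 ^ a)) m (Nat.not_even_iff_odd.1 fun he => hm he.two_dvd) h1
  exact mem_inn_of_pow hS hF hα h2

theorem Loc.eq_of_mem {Q Q' : Subgroup Ω} {g g' : Ω} {s : MulAut Q} {s' : MulAut Q'}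
    {V C D D' : Subgroup Q} {V' C' E E' : Subgroup Q'} (h : Loc 2 F Q g s V C D D')
    (h' : Loc 2 F Q' g' s' V' C' E E') {x : Ω} (hx : x ∈ Q) (hx' : x ∈ Q') (hxZ : x ∉ ZS S) :
    Q = Q' := by
  have hfin : Finite Q := finite_of_le h.QS
  have hfin' : Finite Q' := finite_of_le h'.QS
  have hne : Q ⊓ Q' ≠ ZS S := fun e => hxZ (e ▸ ⟨hx, hx'⟩)
  have h1 : Q ⊓ Q' = Q :=
    eq_of_between (p := 2) (le_inf h.ZQ h'.ZQ) inf_le_left h.cardQ hne
  have h2 : Q ⊓ Q' = Q' :=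
    eq_of_between (p := 2) (le_inf h.ZQ h'.ZQ) inf_le_right h'.cardQ hne
  rw [← h1, h2]

theorem Loc.not_mem_of_mul {Q : Subgroup Ω} {g : Ω} {s : MulAut Q} {V C D D' : Subgroup Q}
    (h : Loc 2 F Q g s V C D D') (hcardS : Nat.card S = 2 ^ 2 * Nat.card (ZS S)) {x y : Ω}
    (hx : x ∈ S) (hy : y ∈ S) (hxQ : x ∉ Q) (hyQ : y ∉ Q) : x * y ∈ Q := by
  have hidx : (Q.subgroupOf S).index = 2 := by
    have h1 := Subgroup.card_mul_index (Q.subgroupOf S)
    have hfin : Finite Q := finite_of_le h.QS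
    have hcardS' : Nat.card S = 2 * Nat.card Q := by rw [hcardS, h.cardQ]; ring
    rw [Nat.card_congr (Subgroup.subgroupOfEquivOfLe h.QS).toEquiv, hcardS', mul_comm] at h1
    exact Nat.eq_of_mul_eq_mul_right Nat.card_pos h1
  exact (Subgroup.mul_mem_iff_of_index_two hidx (a := (⟨x, hx⟩ : S)) (b := ⟨y, hy⟩)).2
    ⟨fun h => absurd h hxQ, fun h => absurd h hyQ⟩

/-- **The case `p = 2`.** -/
theorem dihedral_of_two (hS : IsPGroup 2 S) (hF : F.IsSaturated 2) (hcore : F.core = ⊥)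
    (hhyp : F.hyperfocalSubgroup 2 = S) (hcardS : Nat.card S = 2 ^ 2 * Nat.card (ZS S))
    {Q₀ : Subgroup Ω} (hQ₀ : F.IsEssential 2 Q₀) :
    Nat.card S = 8 ∧ Nonempty (S ≃* DihedralGroup 4) := by
  obtain ⟨g, s, V, C, D, D', h⟩ := exists_loc hS hF hcardS hQ₀
  have hinn : ∀ α ∈ F.autGroup S, ∀ x : S, (x : Ω)⁻¹ * (α x : S) ∈ ⁅S, S⁆ := by
    intro α hα x
    obtain ⟨t, rfl⟩ := aut_eq_inn_two hS hF hcore hcardS hQ₀ hα
    have h1 := Subgroup.commutator_mem_commutator (S.inv_mem x.2) t.2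
    rw [commutatorElement_def] at h1
    rw [MulAut.conj_apply]
    show (x : Ω)⁻¹ * ((t : Ω) * x * (t : Ω)⁻¹) ∈ ⁅S, S⁆
    have e : (x : Ω)⁻¹ * ((t : Ω) * x * (t : Ω)⁻¹) = (x : Ω)⁻¹ * t * (x : Ω)⁻¹⁻¹ * (t : Ω)⁻¹ := by
      group
    rw [e]
    exact h1
  have hloc : ∀ (Q : Subgroup Ω) (g : Ω) (s : MulAut Q) (V C D D' : Subgroup Q),
      Loc 2 F Q g s V C D D' → ⁅S, S⁆ ≤ V.map Q.subtype ∧ ∀ γ ∈ F.autGroup Q, ∀ x : Q,
        (x : Ω)⁻¹ * (γ x : Q) ∈ V.map Q.subtype := by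
    intro Q g s V C D D' h
    have h1 : ⁅S, S⁆ ≤ V.map Q.subtype := by
      rw [← h.map_D hcardS]
      exact Subgroup.map_mono h.dec.D_le
    refine ⟨h1, fun γ hγ x => ?_⟩
    obtain ⟨β, hβ, hβe⟩ := h.exists_frattini hγ
    have hxS : (x : Ω) ∈ S := h.QS x.2
    have h2 := h1 (hinn β hβ ⟨x, hxS⟩)
    have h3 := mul_mem h2 (hβe x hxS).1
    have e : ((⟨x, hxS⟩ : S) : Ω)⁻¹ * ((β ⟨x, hxS⟩ : S) : Ω) *
        (((β ⟨x, hxS⟩ : S) : Ω)⁻¹ * (γ x : Q)) = (x : Ω)⁻¹ * (γ x : Q) := by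
      show (x : Ω)⁻¹ * ((β ⟨x, hxS⟩ : S) : Ω) * (((β ⟨x, hxS⟩ : S) : Ω)⁻¹ * (γ x : Q)) = _
      group
    rwa [e] at h3
  have hcV : ∀ (Q : Subgroup Ω) (g : Ω) (s : MulAut Q) (V C D D' : Subgroup Q),
      Loc 2 F Q g s V C D D' → Nat.card (V.map Q.subtype) = 4 := by
    intro Q g s V C D D' h
    rw [← Nat.card_congr (V.equivMapOfInjective _ Q.subtype_injective).toEquiv, h.dec.cardV]
    norm_num
  have hcomm2 : Nat.card (⁅S, S⁆ : Subgroup Ω) = 2 := by
    rw [← h.map_D hcardS, ← h.dec.cardD]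
    exact Nat.card_congr (D.equivMapOfInjective _ Q₀.subtype_injective).symm.toEquiv
  have hZ2 : 2 ≤ Nat.card (ZS S) := by
    have hfinZ : Finite (ZS S) := finite_of_le ZS_le
    have h1 : ⁅S, S⁆ ≤ ZS S := by
      rw [← h.map_D hcardS]
      rintro _ ⟨d, hd, rfl⟩
      exact h.D_central hd
    rw [← hcomm2]
    exact Subgroup.card_le_of_le h1
  obtain ⟨h0a, h0b⟩ := hloc Q₀ g s V C D D' h
  -- there is another essential subgroup
  obtain ⟨Q₁, hQ₁, hne⟩ : ∃ Q₁, F.IsEssential 2 Q₁ ∧ Q₁ ≠ Q₀ := by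
    by_contra hcon
    push Not at hcon
    have h1 : F.hyperfocalSubgroup 2 ≤ V.map Q₀.subtype := by
      refine hyp_le_of_inv hS hF _ (fun α hα x => h0a (hinn α hα x)) ?_
      intro Q hQ γ hγ x
      have e := hcon Q hQ
      subst e
      exact h0b γ hγ x
    rw [hhyp] at h1
    have hfinV : Finite (V.map Q₀.subtype) :=
      Nat.finite_of_card_ne_zero (by rw [hcV _ _ _ _ _ _ _ h]; norm_num)
    have h2 := Subgroup.card_le_of_le h1
    rw [hcV _ _ _ _ _ _ _ h, hcardS] at h2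
    omega
  obtain ⟨g₁, s₁, V₁, C₁, E, E', h₁⟩ := exists_loc hS hF hcardS hQ₁
  obtain ⟨h1a, h1b⟩ := hloc Q₁ g₁ s₁ V₁ C₁ E E' h₁
  obtain ⟨v₀, hv₀, hv₀Z⟩ := h.exists_mem_V
  obtain ⟨v₁, hv₁, hv₁Z⟩ := h₁.exists_mem_V
  have hv₀S : (v₀ : Ω) ∈ S := h.QS v₀.2
  have hv₁S : (v₁ : Ω) ∈ S := h₁.QS v₁.2
  have hv₀2 : (v₀ : Ω) * v₀ = 1 := by
    have := h.dec.expV v₀ hv₀
    rw [pow_two] at this
    exact congrArg Subtype.val this
  have hv₁2 : (v₁ : Ω) * v₁ = 1 := by
    have := h₁.dec.expV v₁ hv₁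
    rw [pow_two] at this
    exact congrArg Subtype.val this
  have hv₁Q₀ : (v₁ : Ω) ∉ Q₀ := fun hm => hne (h₁.eq_of_mem h v₁.2 hm hv₁Z)
  have hvv : (v₀ : Ω) * v₁ ≠ v₁ * v₀ := fun e =>
    hv₁Q₀ (h.mem_of_comm hcardS v₀.2 hv₀Z hv₁S e)
  -- no third one
  have hall : ∀ Q, F.IsEssential 2 Q → Q = Q₀ ∨ Q = Q₁ := by
    intro Q hQ
    by_contra hcon
    push Not at hcon
    obtain ⟨g₂, s₂, V₂, C₂, G, G', h₂⟩ := exists_loc hS hF hcardS hQ
    obtain ⟨v₂, hv₂, hv₂Z⟩ := h₂.exists_mem_V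
    have hv₂S : (v₂ : Ω) ∈ S := h₂.QS v₂.2
    have hv₂2 : (v₂ : Ω) * v₂ = 1 := by
      have := h₂.dec.expV v₂ hv₂
      rw [pow_two] at this
      exact congrArg Subtype.val this
    have hv₂Q₀ : (v₂ : Ω) ∉ Q₀ := fun hm => hcon.1 (h₂.eq_of_mem h v₂.2 hm hv₂Z)
    have hv₂Q₁ : (v₂ : Ω) ∉ Q₁ := fun hm => hcon.2 (h₂.eq_of_mem h₁ v₂.2 hm hv₂Z)
    have h3 : (v₂ : Ω) * (v₁ : Ω)⁻¹ ∈ Q₀ :=
      h.not_mem_of_mul hcardS hv₂S (S.inv_mem hv₁S) hv₂Q₀ (fun hm => hv₁Q₀ (by simpa using hm))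
    have h4 : (v₂ : Ω) * (v₁ : Ω)⁻¹ ∉ ZS S := by
      intro hz
      apply hv₂Q₁
      have := Q₁.mul_mem (h₁.ZQ hz) v₁.2
      rwa [inv_mul_cancel_right] at this
    have h5 := same_coset hcardS h.ZQ h.QS h.ne v₀.2 hv₀Z h3 h4
    have h6 := (mem_ZS.1 h5).2 v₁ hv₁S
    have e : (v₀ : Ω) * v₁ * ((v₀ : Ω)⁻¹ * (v₂ * (v₁ : Ω)⁻¹)) = v₂ := by
      rw [mul_assoc, h6]
      group
    refine h.no_third hcardS hv₀S hv₁S h5 hv₀2 hv₁2 hvv ?_
    rw [e]
    exact hv₂2
  -- S is generated by V and V₁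
  have hgen : S ≤ V.map Q₀.subtype ⊔ V₁.map Q₁.subtype := by
    conv_lhs => rw [← hhyp]
    refine hyp_le_of_inv hS hF _
      (fun α hα x => (le_sup_left : V.map Q₀.subtype ≤ _) (h0a (hinn α hα x))) ?_
    intro Q hQ γ hγ x
    rcases hall Q hQ with e | e
    · subst e
      exact (le_sup_left : V.map Q.subtype ≤ _) (h0b γ hγ x)
    · subst e
      exact (le_sup_right : V₁.map Q.subtype ≤ _) (h1b γ hγ x)
  -- card
  have hmapc : (commutator S).map S.subtype = ⁅S, S⁆ := by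
    rw [commutator_def, Subgroup.map_commutator, ← MonoidHom.range_eq_map, Subgroup.range_subtype]
  have hcomle : ∀ W : Subgroup Ω, ⁅S, S⁆ ≤ W → commutator S ≤ W.subgroupOf S := by
    intro W hW x hx
    exact hW (hmapc ▸ ⟨x, hx, rfl⟩)
  set N0 := (V.map Q₀.subtype).subgroupOf S with hN0
  set N1 := (V₁.map Q₁.subtype).subgroupOf S with hN1
  have hVS : V.map Q₀.subtype ≤ S := (Subgroup.map_subtype_le V).trans h.QS
  have hV₁S : V₁.map Q₁.subtype ≤ S := (Subgroup.map_subtype_le V₁).trans h₁.QS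
  have hcN0 : Nat.card N0 = 4 := by
    rw [hN0, Nat.card_congr (Subgroup.subgroupOfEquivOfLe hVS).toEquiv, hcV _ _ _ _ _ _ _ h]
  have hcN1 : Nat.card N1 = 4 := by
    rw [hN1, Nat.card_congr (Subgroup.subgroupOfEquivOfLe hV₁S).toEquiv, hcV _ _ _ _ _ _ _ h₁]
  have hn0 : N0.Normal := Subgroup.Normal.of_commutator_le S (hcomle _ h0a)
  have htop : N0 ⊔ N1 = ⊤ := by
    rw [hN0, hN1, ← Subgroup.subgroupOf_sup hVS hV₁S, Subgroup.subgroupOf_eq_top]
    exact hgen
  have hcc : Nat.card (commutator S) = 2 := by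
    rw [← hcomm2, ← hmapc]
    exact Nat.card_congr ((commutator S).equivMapOfInjective _ S.subtype_injective).toEquiv
  have hidx : N0.index ≤ 2 := by
    have h1 : N0.relIndex (N0 ⊔ N1) = N0.relIndex N1 := Subgroup.relIndex_sup_left _ _
    rw [htop, Subgroup.relIndex_top_right] at h1
    rw [h1]
    have h2 : N0.relIndex N1 ∣ (commutator S).relIndex N1 :=
      Subgroup.relIndex_dvd_of_le_left N1 (hcomle _ h0a)
    have h3 : (commutator S).relIndex N1 = 2 := by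
      have h4 := Subgroup.card_mul_index ((commutator S).subgroupOf N1)
      rw [Nat.card_congr (Subgroup.subgroupOfEquivOfLe (hcomle _ h1a)).toEquiv, hcc, hcN1] at h4
      show ((commutator S).subgroupOf N1).index = 2
      omega
    rw [h3] at h2
    exact Nat.le_of_dvd (by norm_num) h2
  have hcard8 : Nat.card S = 8 := by
    have h1 := Subgroup.card_mul_index N0
    rw [hcN0, hcardS] at h1
    rw [hcardS]
    omega
  refine ⟨hcard8, ?_⟩
  -- dihedral
  have hna : ¬ ∀ x y : S, x * y = y * x := by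
    intro hc
    exact hvv (congrArg Subtype.val (hc ⟨v₀, hv₀S⟩ ⟨v₁, hv₁S⟩))
  have hv₀i : (v₀ : Ω)⁻¹ = v₀ := inv_eq_of_mul_eq_one_right hv₀2
  have hv₁i : (v₁ : Ω)⁻¹ = v₁ := inv_eq_of_mul_eq_one_right hv₁2
  set r : Ω := (v₀ : Ω) * v₁ with hr
  have hrS : r ∈ S := S.mul_mem hv₀S hv₁S
  have hrr : r * r ∈ D.map Q₀.subtype := by
    have := h.comm_mem hcardS hv₀S hv₁S
    rw [hv₀i, hv₁i] at this
    have e : r * r = v₀ * v₁ * v₀ * v₁ := by rw [hr]; group
    rwa [e]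
  have hr4 : r ^ 4 = 1 := by
    obtain ⟨d, hd, hde⟩ := hrr
    have h1 := congrArg Subtype.val (h.dec.expV d (h.dec.D_le hd))
    have e : r ^ 4 = (r * r) ^ 2 := by rw [← pow_two, ← pow_mul]
    rw [e, ← hde]
    exact h1
  have hr2 : r ^ 2 ≠ 1 := by
    intro e
    apply hvv
    have h1 : r⁻¹ = r := inv_eq_of_mul_eq_one_right (by rw [← pow_two]; exact e)
    rw [hr, mul_inv_rev, hv₀i, hv₁i] at h1
    exact h1.symm
  have hro : orderOf (⟨r, hrS⟩ : S) = 4 := by
    rw [Subgroup.orderOf_mk]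
    have h2 : (4 : ℕ) = 2 ^ (1 + 1) := by norm_num
    rw [h2]
    refine orderOf_eq_prime_pow ?_ ?_
    · rw [pow_one]
      exact hr2
    · exact hr4
  have hv₀ne : (v₀ : Ω) ≠ 1 := fun e => hv₀Z (e ▸ (ZS S).one_mem)
  have hso : orderOf (⟨v₀, hv₀S⟩ : S) = 2 := by
    rw [Subgroup.orderOf_mk]
    exact orderOf_eq_prime (by rw [pow_two]; exact hv₀2) hv₀ne
  refine SmallSimple.Simple168Classes.nonempty_dihedral hcard8 hna hro hso ?_
  intro hmem
  obtain ⟨k, hk⟩ := Subgroup.mem_zpowers_iff.1 hmem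
  have hk' : r ^ k = v₀ := congrArg Subtype.val hk
  -- then v₀ commutes with r, hence with v₁
  apply hvv
  have h1 : (v₀ : Ω) * r = r * v₀ := by
    rw [← hk']
    exact (Commute.refl r).zpow_left k
  rw [hr] at h1
  have h2 : (v₀ : Ω) * (v₀ * v₁) = v₀ * (v₁ * v₀) := by rw [h1]; group
  exact mul_left_cancel h2

end Cfsg.Agent.H785
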