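import Mathlib
import Cfsg.Agent.H514.DP.Windows

/-!
# Companion matrices of determinant one which are Singer elements (S2454, helper785)
-/

set_option autoImplicit false

namespace Cfsg.Agent.H785.CompLem

open Polynomial Matrix Cfsg.Agent.H514.DP

universe u

section field

variable (F : Type u) [Field F] [Finite F]

/-- an element of norm one which generates the extension of degree `n ≥ 3` and is not conjugate to its inverse -/
theorem exists_elt {n : ℕ} (hn : 3 ≤ n) :
    ∃ (E : Type) (_ : Field E) (_ : Finite E) (_ : Algebra F E) (_ : FiniteDimensional F E) (z : E),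
      Module.finrank F E = n ∧ Algebra.adjoin F {z} = ⊤ ∧ z ≠ 0 ∧ Algebra.norm F z = 1 ∧
        aeval z⁻¹ (minpoly F z) ≠ 0 := by
  have : Fintype F := Fintype.ofFinite F
  obtain ⟨p, hp⟩ := CharP.exists F
  have hpp : Fact p.Prime := ⟨CharP.char_is_prime F p⟩
  have hn0 : NeZero n := ⟨by omega⟩
  set q := Nat.card F with hq
  have hq2 : 2 ≤ q := Finite.one_lt_card
  have hcard : Nat.card (FiniteField.Extension F p n) = q ^ n := FiniteField.natCard_extension F p n
  obtain ⟨g, hg⟩ := IsCyclic.exists_generator (α := (FiniteField.Extension F p n)ˣ)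
  have hog : orderOf g = q ^ n - 1 := by
    rw [orderOf_eq_card_of_forall_mem_zpowers hg, Nat.card_units, hcard]
  -- `N = (q ^ n - 1) / (q - 1)`
  set N := (q ^ n - 1) / (q - 1) with hN
  have hNq : N * (q - 1) = q ^ n - 1 := Nat.div_mul_cancel (Nat.sub_one_dvd_pow_sub_one q n)
  have hNlt : q ^ (n - 1) + 1 < N := by
    have h1 : N = ∑ i ∈ Finset.range n, q ^ i := (Nat.geomSum_eq hq2 n).symm
    obtain ⟨m, rfl⟩ : ∃ m, n = m + 3 := ⟨n - 3, by omega⟩
    rw [h1, Finset.sum_range_succ, Finset.sum_range_succ', Finset.sum_range_succ']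
    have h2 : 0 < q ^ (0 + 1) := Nat.pow_pos (by omega)
    simp only [pow_zero]
    have h3 : m + 3 - 1 = m + 2 := by omega
    rw [h3]
    omega
  set z : FiniteField.Extension F p n := ((g ^ (q - 1) : (FiniteField.Extension F p n)ˣ) : FiniteField.Extension F p n) with hz
  have hz0 : z ≠ 0 := Units.ne_zero _
  have hzN : ∀ m : ℕ, z ^ m = 1 → N ∣ m := by
    intro m hm
    have h1 : (g ^ (q - 1)) ^ m = 1 := Units.ext (by rw [Units.val_pow_eq_pow_val]; exact hm)
    rw [← pow_mul] at h1
    have h2 := orderOf_dvd_of_pow_eq_one h1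
    rw [hog, ← hNq, mul_comm N] at h2
    exact Nat.dvd_of_mul_dvd_mul_left (by omega) h2
  refine ⟨FiniteField.Extension F p n, inferInstance, inferInstance, inferInstance, inferInstance, z,
    FiniteField.finrank_extension F p n, ?_, hz0, ?_, ?_⟩
  · -- `z` generates
    have h1 : IntermediateField.adjoin F {z} = ⊤ := by
      by_contra hcon
      set K := IntermediateField.adjoin F {z} with hK
      have hzK : z ∈ K := IntermediateField.mem_adjoin_simple_self F z
      have h2 : Module.finrank F K < n := by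
        have h3 : Module.finrank F K ≤ Module.finrank F (FiniteField.Extension F p n) :=
          IntermediateField.finrank_le_of_le_right le_top |>.trans (by rw [IntermediateField.finrank_top'])
        rw [FiniteField.finrank_extension] at h3
        rcases Nat.lt_or_ge (Module.finrank F K) n with h4 | h4
        · exact h4
        · exfalso
          apply hcon
          exact IntermediateField.eq_of_le_of_finrank_le le_top (by
            rw [IntermediateField.finrank_top', FiniteField.finrank_extension]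
            exact h4)
      have h5 : Nat.card K = q ^ Module.finrank F K := Module.natCard_eq_pow_finrank (K := F)
      have h6 : z ^ (Nat.card K - 1) = 1 := by
        have : Fintype K := Fintype.ofFinite K
        have h7 : (⟨z, hzK⟩ : K) ≠ 0 := fun h => hz0 (congrArg Subtype.val h)
        have h8 := FiniteField.pow_card_sub_one_eq_one _ h7
        rw [← Nat.card_eq_fintype_card] at h8
        exact congrArg Subtype.val h8
      have h9 := hzN _ h6
      have h10 : 2 ≤ Nat.card K := Finite.one_lt_card
      have h11 := Nat.le_of_dvd (by omega) h9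
      have h12 : q ^ Module.finrank F K ≤ q ^ (n - 1) := Nat.pow_le_pow_right (by omega) (by omega)
      omega
    have h2 := IntermediateField.adjoin_simple_toSubalgebra_of_isAlgebraic (F := F) (α := z)
      (Algebra.IsAlgebraic.isAlgebraic z)
    rw [← h2, h1]
    rfl
  · -- norm
    apply (algebraMap F (FiniteField.Extension F p n)).injective
    rw [FiniteField.algebraMap_norm_eq_pow, hcard, map_one]
    rw [← hq, ← hN, hz, ← Units.val_pow_eq_pow_val, ← pow_mul, mul_comm (q - 1), hNq, ← hog, pow_orderOf_eq_one]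
    rfl
  · intro h
    obtain ⟨σ, hσ⟩ := minpoly.exists_algEquiv_of_root' (K := F) (x := z⁻¹) (y := z)
      (Algebra.IsAlgebraic.isAlgebraic z) h
    obtain ⟨i, hi, rfl⟩ := FiniteField.Extension.exists_frob_pow_eq F p n σ
    rw [FiniteField.Extension.frob_iterate_apply] at hσ
    have h1 : z ^ (q ^ i + 1) = 1 := by rw [pow_succ, hσ, inv_mul_cancel₀ hz0]
    have h2 := Nat.le_of_dvd (Nat.succ_pos _) (hzN _ h1)
    have h3 : q ^ i ≤ q ^ (n - 1) := Nat.pow_le_pow_right (by omega) (by omega)
    omega

/-- **Lemma F**: a companion matrix of determinant one with irreducible characteristic polynomial, not conjugate to its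
inverse. -/
theorem exists_comp {n : ℕ} (hn : 3 ≤ n) :
    ∃ (c : ℕ → F) (P : F[X]), (comp n c).det = 1 ∧ Irreducible P ∧ P.Monic ∧ P.natDegree = n ∧
      (comp n c).charpoly = P ∧ aeval (comp n c) P = 0 ∧ P.eval 1 ≠ 0 ∧
      (∀ v : Fin n → F, (aeval (comp n c)⁻¹ P) *ᵥ v = 0 → v = 0) ∧
      (∀ v : Fin n → F, v ≠ 0 → ∀ w : Fin n → F, ∃ f : F[X], (aeval (comp n c) f) *ᵥ v = w) := by
  obtain ⟨E, hE1, hE2, hE3, hE4, z, hfr, hadj, hz0, hnorm, hinv⟩ := exists_elt F hn
  have hint : IsIntegral F z := Algebra.IsIntegral.isIntegral z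
  obtain ⟨pb, hgen⟩ : ∃ pb : PowerBasis F E, pb.gen = z :=
    ⟨PowerBasis.ofAdjoinEqTop hint hadj, PowerBasis.ofAdjoinEqTop_gen hint hadj⟩
  have hdim : pb.dim = n := by rw [← pb.finrank, hfr]
  subst hdim
  subst hgen
  have hcomp : comp pb.dim (fun i => - pb.minpolyGen.coeff i) = Algebra.leftMulMatrix pb.basis pb.gen :=
    (pb.leftMulMatrix).symm
  have hunit : ∀ y : E, y ≠ 0 → ∀ v : Fin pb.dim → F, Algebra.leftMulMatrix pb.basis y *ᵥ v = 0 → v = 0 := by
    intro y hy v hv
    have h1 : Algebra.leftMulMatrix pb.basis y⁻¹ *ᵥ (Algebra.leftMulMatrix pb.basis y *ᵥ v) = v := by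
      rw [mulVec_mulVec, ← map_mul, inv_mul_cancel₀ hy, map_one, one_mulVec]
    rw [← h1, hv, mulVec_zero]
  have hinvM : (Algebra.leftMulMatrix pb.basis pb.gen)⁻¹ = Algebra.leftMulMatrix pb.basis pb.gen⁻¹ := by
    apply Matrix.inv_eq_right_inv
    rw [← map_mul, mul_inv_cancel₀ hz0, map_one]
  have hirr : Irreducible (minpoly F pb.gen) := minpoly.irreducible hint
  refine ⟨fun i => - pb.minpolyGen.coeff i, minpoly F pb.gen, ?_, hirr, minpoly.monic hint, pb.natDegree_minpoly, ?_,
    ?_, ?_, ?_, ?_⟩
  · rw [hcomp, ← Algebra.norm_eq_matrix_det, hnorm]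
  · rw [hcomp, charpoly_leftMulMatrix]
  · rw [hcomp, aeval_algHom_apply, minpoly.aeval, map_zero]
  · intro h
    have h1 := Polynomial.degree_eq_one_of_irreducible_of_root hirr (show IsRoot (minpoly F pb.gen) 1 from h)
    rw [pb.degree_minpoly] at h1
    have h2 : pb.dim = 1 := by exact_mod_cast h1
    omega
  · rw [hcomp, hinvM, aeval_algHom_apply]
    exact hunit _ hinv
  · intro v hv w
    set e := pb.basis.equivFun.symm v with he
    set e' := pb.basis.equivFun.symm w with he'
    have he0 : e ≠ 0 := by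
      intro h0
      apply hv
      rw [← pb.basis.equivFun.apply_symm_apply v, ← he, h0, map_zero]
    obtain ⟨f, hf⟩ := pb.exists_eq_aeval' (e' * e⁻¹)
    refine ⟨f, ?_⟩
    rw [hcomp, aeval_algHom_apply, ← hf]
    have h1 := Algebra.leftMulMatrix_mulVec_repr pb.basis (e' * e⁻¹) e
    have h2 : ⇑(pb.basis.repr e) = v := by
      rw [← pb.basis.equivFun_apply, he, LinearEquiv.apply_symm_apply]
    have h3 : ⇑(pb.basis.repr (e' * e⁻¹ * e)) = w := by
      rw [inv_mul_cancel_right₀ he0, ← pb.basis.equivFun_apply, he', LinearEquiv.apply_symm_apply]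
    rw [h2, h3] at h1
    exact h1

end field

end Cfsg.Agent.H785.CompLem
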