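import Cfsg.Agent.H785.DoGeo
import Cfsg.Agent.H884.ElFin
import Cfsg.Agent.H453.OddM.RealOrth

/-!
# DO-GEO for subgroups covering the real classes of `PΩ^±_{2m}(q)`, `m ≥ 5` odd, `q` odd (S4785, helper785)
-/

set_option autoImplicit false

namespace Cfsg.Agent.H785.DoGeo

open Module QuadraticMap Cfsg Cfsg.Geo Cfsg.Agent.LieClassical Cfsg.Agent.LieClassical.OrthCore Cfsg.Agent.H955
  Cfsg.Agent.H884.El Cfsg.Agent.H453.OddM Cfsg.Agent.LieClassical.OmegaReindex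
open scoped MatrixGroups Matrix

universe u

theorem dvd_or {q m r : ℕ} (hq : 1 ≤ q) (h : PP q (2 * m) r) : r ∣ q ^ m - 1 ∨ r ∣ q ^ m + 1 := by
  have h1 : r ∣ q ^ (2 * m) - 1 := (h.dvd_iff hq _).2 dvd_rfl
  have h2 : q ^ (2 * m) - 1 = (q ^ m + 1) * (q ^ m - 1) := by
    rw [mul_comm 2 m, pow_mul]
    have := Nat.sq_sub_sq (q ^ m) 1
    rwa [one_pow] at this
  rw [h2] at h1
  exact (h.prime.dvd_mul.1 h1).symm

section gen

variable {F : Type u} [Field F] [Fintype F]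

variable {ι : Type} [Fintype ι] [DecidableEq ι] {Q : QuadraticForm F (ι → F)}

/-- if all odd divisors of `q ^ d ± 1`, `d < m`, are orders of real elements -/
theorem of_real {m : ℕ} (h2F : (2 : F) ≠ 0) (hm : 5 ≤ m) (hodd : Odd m) (hn : Fintype.card ι = 2 * m)
    (hQ : Nondeg Q)
    (hreal : ∀ d v : ℕ, d ≠ 0 → d < m → Odd v → (v ∣ Fintype.card F ^ d - 1 ∨ v ∣ Fintype.card F ^ d + 1) →
      RealP (POmega F (⇑Q)) v) {M : Subgroup (POmega F (⇑Q))} (hM : Cov (POmega F (⇑Q)) M) :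
    InOrthogonalResidualClass (pre (⇑Q) M) ∨
      ∃ W : Submodule F (ι → F), pre (⇑Q) M ≤ subspaceStabilizer W ∧ (finrank F W = 1 ∨ finrank F W = 2) := by
  have hq : 1 ≤ Nat.card F := Nat.card_pos
  have hit : ∀ e d : ℕ, 2 ≤ e → d ≠ 0 → d < m →
      (∀ r, PP (Nat.card F) e r → r ∣ Nat.card F ^ d - 1 ∨ r ∣ Nat.card F ^ d + 1) → Hits (pre (⇑Q) M) e := by
    intro e d he hd hdm h r hr
    have h1 := h r hr
    rw [Nat.card_eq_fintype_card] at h1
    exact (hM.dvd (hreal d r hd hdm (hr.odd he) h1)).trans card_dvd_pre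
  refine row h2F hm hodd hn hQ pre_le ?_ ?_ ?_
  · refine hit _ (m - 1) (by omega) (by omega) (by omega) fun r hr => ?_
    rw [show 2 * m - 2 = 2 * (m - 1) by omega] at hr
    exact dvd_or hq hr
  · refine hit _ (m - 2) (by omega) (by omega) (by omega) fun r hr => ?_
    rw [show 2 * m - 4 = 2 * (m - 2) by omega] at hr
    exact dvd_or hq hr
  · exact hit _ (m - 2) (by omega) (by omega) (by omega) fun r hr => Or.inl ((hr.dvd_iff hq _).2 dvd_rfl)

end gen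

variable {F : Type} [Field F] [Fintype F]

/-- `PΩ⁺_{2m}(q)` -/
theorem cov_oplus {m : ℕ} (h2F : (2 : F) ≠ 0) (hm : 5 ≤ m) (hodd : Odd m)
    {M : Subgroup (POmega F (quadFormPlus m F))} (hM : Cov (POmega F (quadFormPlus m F)) M) :
    InOrthogonalResidualClass (pre (quadFormPlus m F) M) ∨
      ∃ W : Submodule F (Fin m ⊕ Fin m → F),
        pre (quadFormPlus m F) M ≤ subspaceStabilizer W ∧ (finrank F W = 1 ∨ finrank F W = 2) := by
  have h : (∀ d v : ℕ, d ≠ 0 → d < m → Odd v → (v ∣ Fintype.card F ^ d - 1 ∨ v ∣ Fintype.card F ^ d + 1) →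
      RealP (POmega F (⇑(quadPlus m F))) v) → ∀ M : Subgroup (POmega F (⇑(quadPlus m F))),
      Cov (POmega F (⇑(quadPlus m F))) M → InOrthogonalResidualClass (pre (⇑(quadPlus m F)) M) ∨
      ∃ W : Submodule F (Fin m ⊕ Fin m → F),
        pre (⇑(quadPlus m F)) M ≤ subspaceStabilizer W ∧ (finrank F W = 1 ∨ finrank F W = 2) :=
    fun hr M hM => of_real h2F hm hodd (card_plus m) (nondeg_iff.2 quadPlus_nondegenerate) hr hM
  rw [coe_quadPlus] at h
  exact h (fun d v hd hdm hv hvd => realP_oplus h2F (by omega) hd hdm hv hvd) M hM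

/-- `PΩ⁻_{2m}(q)` -/
theorem cov_ominus {m : ℕ} (h2F : (2 : F) ≠ 0) (hm : 5 ≤ m) (hodd : Odd m) {a b : F}
    (hab : ∀ z₁ z₂ : F, z₁ ^ 2 + a * z₁ * z₂ + b * z₂ ^ 2 = 0 → z₁ = 0 ∧ z₂ = 0)
    {M : Subgroup (POmega F (quadFormMinus (m - 1) F a b))} (hM : Cov (POmega F (quadFormMinus (m - 1) F a b)) M) :
    InOrthogonalResidualClass (pre (quadFormMinus (m - 1) F a b) M) ∨
      ∃ W : Submodule F ((Fin (m - 1) ⊕ Fin (m - 1)) ⊕ Fin 2 → F),
        pre (quadFormMinus (m - 1) F a b) M ≤ subspaceStabilizer W ∧ (finrank F W = 1 ∨ finrank F W = 2) := by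
  have h : (∀ d v : ℕ, d ≠ 0 → d < m → Odd v → (v ∣ Fintype.card F ^ d - 1 ∨ v ∣ Fintype.card F ^ d + 1) →
      RealP (POmega F (⇑(quadMinus (m - 1) F a b))) v) → ∀ M : Subgroup (POmega F (⇑(quadMinus (m - 1) F a b))),
      Cov (POmega F (⇑(quadMinus (m - 1) F a b))) M →
      InOrthogonalResidualClass (pre (⇑(quadMinus (m - 1) F a b)) M) ∨
      ∃ W : Submodule F ((Fin (m - 1) ⊕ Fin (m - 1)) ⊕ Fin 2 → F),
        pre (⇑(quadMinus (m - 1) F a b)) M ≤ subspaceStabilizer W ∧ (finrank F W = 1 ∨ finrank F W = 2) :=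
    fun hr M hM => of_real h2F hm hodd (card_minus (by omega)) (nondeg_iff.2 (quadMinus_nondegenerate hab)) hr hM
  rw [coe_quadMinus] at h
  exact h (fun d v hd hdm hv hvd => realP_ominus h2F hab (by omega) hd hdm hv hvd) M hM

end Cfsg.Agent.H785.DoGeo
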