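import Cfsg.Agent.H785.ExoMon
import Cfsg.Prelude.Def_Classical

/-!
# Linear and unitary groups in characteristic different from `p` (helper785)

* `le_sq` : the degree bound for central quotients of matrix groups, `p ^ 2 (p - 1) ≤ m ^ 2`;
* `row_psl`, `row_psu` : `PSL_m(F)` and `PSU_m(q)`, `p ≠ char F`, do not have the fusion system of S5268.
-/

set_option autoImplicit false
set_option linter.unusedSectionVars false
set_option linter.unusedFintypeInType false
set_option linter.unusedDecidableInType false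

namespace Cfsg.Agent.H785.Exo

open Cfsg Cfsg.Agent.H789.Exo Equiv Matrix

universe u v

variable {p n : ℕ} {G : Type u} [Group G] [Finite G]

section

variable {ι : Type*} [Fintype ι] [DecidableEq ι] {k : Type*} [Field k] {H : Type v} [Group H]

/-- the span of a group of matrices -/
def spn (f : H →* Matrix ι ι k) : Submodule k (Matrix ι ι k) := Submodule.span k (Set.range f)

theorem conj_mem_spn (f : H →* Matrix ι ι k) (h : H) {A : Matrix ι ι k} (hA : A ∈ spn f) :
    f h * A * f h⁻¹ ∈ spn f := by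
  induction hA using Submodule.span_induction with
  | mem x hx =>
    obtain ⟨g, rfl⟩ := hx
    rw [← map_mul, ← map_mul]
    exact Submodule.subset_span ⟨_, rfl⟩
  | zero => rw [mul_zero, zero_mul]; exact zero_mem _
  | add x y _ _ hx hy => rw [mul_add, add_mul]; exact add_mem hx hy
  | smul a x _ hx =>
    rw [mul_smul_comm, smul_mul_assoc]
    exact Submodule.smul_mem _ _ hx

/-- the conjugation action on the span -/
def conjRep (f : H →* Matrix ι ι k) : H →* Module.End k (spn f) where
  toFun h :=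
    { toFun := fun A => ⟨f h * A.1 * f h⁻¹, conj_mem_spn f h A.2⟩
      map_add' := fun A B => Subtype.ext (by
        change f h * (A.1 + B.1) * f h⁻¹ = f h * A.1 * f h⁻¹ + f h * B.1 * f h⁻¹
        rw [mul_add, add_mul])
      map_smul' := fun a A => Subtype.ext (by
        change f h * (a • A.1) * f h⁻¹ = a • (f h * A.1 * f h⁻¹)
        rw [mul_smul_comm, smul_mul_assoc]) }
  map_one' := by
    ext1 A
    apply Subtype.ext
    change f 1 * A.1 * f 1⁻¹ = A.1
    rw [inv_one, map_one, one_mul, mul_one]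
  map_mul' g h := by
    ext1 A
    apply Subtype.ext
    change f (g * h) * A.1 * f (g * h)⁻¹ = f g * (f h * A.1 * f h⁻¹) * f g⁻¹
    rw [map_mul, _root_.mul_inv_rev, map_mul]
    simp only [mul_assoc]

theorem conjRep_apply (f : H →* Matrix ι ι k) (h : H) (A : spn f) :
    ((conjRep f h A : spn f) : Matrix ι ι k) = f h * A.1 * f h⁻¹ := rfl

theorem conjRep_eq_one_iff (f : H →* Matrix ι ι k) (hf : Function.Injective f) (h : H) :
    conjRep f h = 1 ↔ h ∈ Subgroup.center H := by
  constructor
  · intro h1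
    rw [Subgroup.mem_center_iff]
    intro g
    have h2 := congrArg (fun T : Module.End k (spn f) => ((T ⟨f g, Submodule.subset_span ⟨g, rfl⟩⟩ : spn f) :
      Matrix ι ι k)) h1
    change f h * f g * f h⁻¹ = f g at h2
    rw [← map_mul, ← map_mul] at h2
    have h3 := hf h2
    rw [mul_inv_eq_iff_eq_mul] at h3
    exact h3.symm
  · intro h1
    rw [Subgroup.mem_center_iff] at h1
    ext1 A
    apply Subtype.ext
    rw [conjRep_apply]
    change _ = A.1
    obtain ⟨A, hA⟩ := A
    change f h * A * f h⁻¹ = A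
    induction hA using Submodule.span_induction with
    | mem x hx =>
      obtain ⟨g, rfl⟩ := hx
      rw [← map_mul, ← map_mul, ← h1 g, mul_inv_cancel_right]
    | zero => rw [mul_zero, zero_mul]
    | add x y _ _ hx hy => rw [mul_add, add_mul, hx, hy]
    | smul a x _ hx => rw [mul_smul_comm, smul_mul_assoc, hx]

/-- **the degree bound for central quotients of matrix groups** -/
theorem le_sq (h : Pearly p n G) (hk : (p : k) ≠ 0) (f : H →* Matrix ι ι k) (hf : Function.Injective f)
    (e : G ≃* H ⧸ Subgroup.center H) : p ^ 2 * (p - 1) ≤ Fintype.card ι ^ 2 := by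
  obtain ⟨P, z, w, s, Q, -, -, -, -, -, hr⟩ := h.rep
  let ρ : H ⧸ Subgroup.center H →* Module.End k (spn f) :=
    QuotientGroup.lift (Subgroup.center H) (conjRep f) (fun x hx => (conjRep_eq_one_iff f hf x).2 hx)
  have hρ : ∀ x, ρ x = 1 → x = 1 := by
    intro x hx
    obtain ⟨y, rfl⟩ := QuotientGroup.mk_surjective x
    rw [QuotientGroup.eq_one_iff]
    exact (conjRep_eq_one_iff f hf y).1 hx
  have h1 := le_finrank' h.prime hk hr (ρ.comp e.toMonoidHom) (fun h0 => hr.z_ne (by
    have h2 := hρ (e z) h0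
    exact e.injective (by rw [h2, map_one])))
  refine h1.trans ((Submodule.finrank_le (spn f)).trans ?_)
  rw [Module.finrank_matrix, Module.finrank_self, mul_one, sq]

end

/-- the arithmetic of the bound -/
theorem le_or_of_le_sq (h : Pearly p n G) {m : ℕ} (hm : p ^ 2 * (p - 1) ≤ m ^ 2) : 2 * p ≤ m ∨ (p = 3 ∧ m = 5) := by
  by_cases h1 : 2 * p ≤ m
  · exact Or.inl h1
  · right
    have h2 : m < 2 * p := not_le.1 h1
    have h3 : m ^ 2 < (2 * p) ^ 2 := Nat.pow_lt_pow_left h2 (by norm_num)
    have h4 : p ^ 2 * (p - 1) < p ^ 2 * 4 := by nlinarith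
    have h5 : p - 1 < 4 := lt_of_mul_lt_mul_left h4 (Nat.zero_le _)
    have h6 := h.odd
    have h7 : p = 3 ∨ p = 4 := by omega
    rcases h7 with rfl | rfl
    · refine ⟨rfl, ?_⟩
      have : m = 5 ∨ m < 5 := by omega
      rcases this with h8 | h8
      · exact h8
      · exfalso
        have : m ^ 2 ≤ 4 ^ 2 := Nat.pow_le_pow_left (by omega) 2
        omega
    · exact absurd h.prime (by decide)

/-! ### `PSL` -/

section PSL

variable {F : Type v} [Field F] {m : ℕ}

/-- `SL_m(F)` as matrices -/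
def slMat (m : ℕ) (F : Type v) [Field F] : Matrix.SpecialLinearGroup (Fin m) F →* Matrix (Fin m) (Fin m) F where
  toFun A := A.1
  map_one' := rfl
  map_mul' _ _ := rfl

theorem slMat_injective : Function.Injective (slMat m F) := fun _ _ h => Subtype.ext h

theorem doubleInv_sl (hp : p.Prime) (hodd : 3 ≤ p) (hm : 2 * p ≤ m) :
    DoubleInv p (Matrix.SpecialLinearGroup (Fin m) F) := by
  have : NeZero p := ⟨hp.ne_zero⟩
  refine doubleInv_of_blk hp hm (slMat m F) slMat_injective fun a σ => ⟨⟨blk F a σ, det_blk a ?_ σ⟩, rfl⟩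
  rw [ZMod.card]
  exact hp.odd_of_ne_two (by omega)

/-- **`PSL_m(F)`, `p ≠ char F`.** -/
theorem row_psl (h : Pearly p n G) (hF : (p : F) ≠ 0) [Finite F]
    (e : G ≃* Matrix.ProjectiveSpecialLinearGroup (Fin m) F) : False := by
  have h1 := le_sq h hF (slMat m F) slMat_injective e
  rw [Fintype.card_fin] at h1
  rcases le_or_of_le_sq h h1 with h2 | ⟨rfl, rfl⟩
  · exact h.dinv ((doubleInv_quot_center h.prime h.odd (doubleInv_sl h.prime h.odd h2)).congr e.symm)
  · -- `p = 3`, `m = 5`
    let π : Matrix.SpecialLinearGroup (Fin 5) F →* G :=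
      e.symm.toMonoidHom.comp (QuotientGroup.mk' (Subgroup.center (Matrix.SpecialLinearGroup (Fin 5) F)))
    have hker : π.ker = Subgroup.center (Matrix.SpecialLinearGroup (Fin 5) F) := by
      ext x
      rw [MonoidHom.mem_ker]
      change e.symm (x : Matrix.SpecialLinearGroup (Fin 5) F ⧸ _) = 1 ↔ _
      rw [map_eq_one_iff _ e.symm.injective]
      exact QuotientGroup.eq_one_iff x
    have hcop : Nat.Coprime 3 (Nat.card π.ker) := by
      rw [Nat.Prime.coprime_iff_not_dvd Nat.prime_three]
      intro hd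
      have : Fact (Nat.Prime 3) := ⟨Nat.prime_three⟩
      obtain ⟨x, hx⟩ := exists_prime_orderOf_dvd_card' (G := π.ker) 3 hd
      have hx1 : (x : Matrix.SpecialLinearGroup (Fin 5) F) ∈ Subgroup.center _ := by rw [← hker]; exact x.2
      rw [Matrix.SpecialLinearGroup.mem_center_iff] at hx1
      obtain ⟨r, hr, hrx⟩ := hx1
      rw [Fintype.card_fin] at hr
      have h3 : r ^ 3 = 1 := by
        have h4 : (x : Matrix.SpecialLinearGroup (Fin 5) F) ^ 3 = 1 := by
          rw [← Subgroup.coe_pow, ← hx, pow_orderOf_eq_one]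
          rfl
        have h5 := congrArg (fun A : Matrix.SpecialLinearGroup (Fin 5) F => A.1 0 0) h4
        change ((x : Matrix.SpecialLinearGroup (Fin 5) F).1 ^ 3 : Matrix (Fin 5) (Fin 5) F) 0 0 = 1 at h5
        rw [show (x : Matrix.SpecialLinearGroup (Fin 5) F).1 = Matrix.scalar (Fin 5) r from hrx.symm,
          ← map_pow, Matrix.scalar_apply, Matrix.diagonal_apply_eq] at h5
        exact h5
      have h4 : r = 1 := by
        have h5 : r ^ 6 = 1 := by rw [show 6 = 3 * 2 by norm_num, pow_mul, h3, one_pow]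
        calc r = r ^ 5 * r := by rw [hr, one_mul]
          _ = r ^ 6 := by ring
          _ = 1 := h5
      have h5 : x = 1 := by
        apply Subtype.ext
        apply Subtype.ext
        rw [show (x : Matrix.SpecialLinearGroup (Fin 5) F).1 = Matrix.scalar (Fin 5) r from hrx.symm, h4, map_one]
        rfl
      rw [h5, orderOf_one] at hx
      omega
    have : Finite (Matrix (Fin 5) (Fin 5) F) := inferInstance
    have : Finite (Matrix.SpecialLinearGroup (Fin 5) F) := Finite.of_injective _ (slMat_injective (m := 5) (F := F))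
    have h2 := h.le_card_lift π (by
      intro g
      obtain ⟨x, hx⟩ := QuotientGroup.mk_surjective (e g)
      refine ⟨x, ?_⟩
      change e.symm (x : Matrix.SpecialLinearGroup (Fin 5) F ⧸ _) = g
      rw [hx, e.symm_apply_apply]) hker.le hcop hF (slMat 5 F) slMat_injective
    rw [Fintype.card_fin] at h2
    omega

end PSL

/-! ### `PSU` -/

section PSU

variable {F : Type v} [Field F] [Fintype F] {m q : ℕ}

/-- `SU_m(q)` as matrices -/
def suMat (m : ℕ) (F : Type v) [Field F] (q : ℕ) : SU m F q →* Matrix (Fin m) (Fin m) F :=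
  (slMat m F).comp (SU m F q).subtype

theorem suMat_injective : Function.Injective (suMat m F q) :=
  slMat_injective.comp Subtype.val_injective

omit [Fintype F] in
theorem mem_SU_of_mon (A : Matrix.SpecialLinearGroup (Fin m) F) (d : Fin m → F) (σ : Perm (Fin m))
    (hA : A.1 = mon d σ) (hd : ∀ i, d i ^ (q + 1) = 1) : A ∈ SU m F q := by
  intro u v
  change hermForm m F q (A.1 *ᵥ u) (A.1 *ᵥ v) = _
  rw [hA]
  unfold hermForm
  rw [← Equiv.sum_comp σ]
  refine Finset.sum_congr rfl fun i _ => ?_
  rw [mon_mulVec, mon_mulVec, show σ⁻¹ (σ i) = i from σ.symm_apply_apply i, mul_pow]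
  have h1 := hd (σ i)
  rw [pow_succ] at h1
  calc d (σ i) * u i * (d (σ i) ^ q * v i ^ q) = (d (σ i) ^ q * d (σ i)) * (u i * v i ^ q) := by ring
    _ = _ := by rw [h1, one_mul]

theorem pow_of_mul_self (hq : Fintype.card F = q ^ 2) {ε : F} (hε : ε * ε = 1) : ε ^ (q + 1) = 1 := by
  have h2 : ε ^ 2 = 1 := by rw [pow_two, hε]
  rcases Nat.even_or_odd q with h | h
  · have h1 : ε ^ (q ^ 2) = ε := by
      rw [← hq]
      exact FiniteField.pow_card ε
    obtain ⟨r, hr⟩ := h
    have h3 : ε ^ (q ^ 2) = 1 := by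
      rw [show q ^ 2 = 2 * (r * q) by rw [sq]; nth_rewrite 1 [hr]; ring, pow_mul, h2, one_pow]
    rw [h3] at h1
    rw [← h1, one_pow]
  · obtain ⟨r, hr⟩ := h.add_one
    rw [hr, ← two_mul, pow_mul, h2, one_pow]

theorem doubleInv_su (hq : Fintype.card F = q ^ 2) (hp : p.Prime) (hodd : 3 ≤ p) (hm : 2 * p ≤ m) :
    DoubleInv p (SU m F q) := by
  have : NeZero p := ⟨hp.ne_zero⟩
  refine doubleInv_of_blk hp hm (suMat m F q) suMat_injective fun a σ => ⟨⟨⟨blk F a σ, det_blk a ?_ σ⟩, ?_⟩, rfl⟩
  · rw [ZMod.card]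
    exact hp.odd_of_ne_two (by omega)
  · refine mem_SU_of_mon _ (bsg a (sg F σ)) (via a σ) rfl fun i => ?_
    by_cases hi : i ∈ Set.range a
    · rw [bsg_pos a _ hi]
      exact pow_of_mul_self hq (sg_mul_self σ)
    · rw [bsg_neg a _ hi, one_pow]

theorem exists_norm_one (hq : Fintype.card F = q ^ 2) : ∃ c : F, c ≠ 1 ∧ c ≠ 0 ∧ c ^ (q + 1) = 1 := by
  obtain ⟨g, hg⟩ := IsCyclic.exists_generator (α := Fˣ)
  have hq2 : 2 ≤ q := by
    have h1 : 1 < Fintype.card F := Fintype.one_lt_card
    rw [hq] at h1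
    by_contra h2
    have h3 : q = 0 ∨ q = 1 := by omega
    rcases h3 with rfl | rfl <;> simp at h1
  have ho : orderOf g = q ^ 2 - 1 := by
    rw [orderOf_eq_card_of_forall_mem_zpowers hg, Nat.card_units, Nat.card_eq_fintype_card, hq]
  have hfac : (q - 1) * (q + 1) = q ^ 2 - 1 := by
    obtain ⟨r, rfl⟩ : ∃ r, q = r + 1 := ⟨q - 1, by omega⟩
    rw [Nat.add_sub_cancel]
    have : (r + 1) ^ 2 = r * (r + 1 + 1) + 1 := by ring
    omega
  refine ⟨((g ^ (q - 1) : Fˣ) : F), ?_, Units.ne_zero _, ?_⟩
  · intro h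
    have h1 : g ^ (q - 1) = 1 := Units.ext h
    have h2 := orderOf_dvd_of_pow_eq_one h1
    rw [ho] at h2
    have h3 := Nat.le_of_dvd (by omega) h2
    have h4 : q - 1 < q ^ 2 - 1 := by
      rw [← hfac]
      nlinarith [show 0 < q - 1 by omega]
    omega
  · rw [← Units.val_pow_eq_pow_val, ← pow_mul, hfac, ← ho, pow_orderOf_eq_one, Units.val_one]

/-- the center of `SU_5` consists of scalars -/
theorem center_su_five (hq : Fintype.card F = q ^ 2) (x : SU 5 F q) (hx : x ∈ Subgroup.center (SU 5 F q)) :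
    ∃ r : F, r ^ 5 = 1 ∧ x.1.1 = Matrix.scalar (Fin 5) r := by
  rw [Subgroup.mem_center_iff] at hx
  have hcomm : ∀ (A : Matrix (Fin 5) (Fin 5) F) (hA : A.det = 1)
      (hA2 : (⟨A, hA⟩ : Matrix.SpecialLinearGroup (Fin 5) F) ∈ SU 5 F q), A * x.1.1 = x.1.1 * A := by
    intro A hA hA2
    exact congrArg (fun y : SU 5 F q => y.1.1) (hx ⟨⟨A, hA⟩, hA2⟩)
  obtain ⟨c, hc1, hc0, hc⟩ := exists_norm_one hq
  have hcinv : c⁻¹ ^ (q + 1) = 1 := by rw [inv_pow, hc, inv_one]
  -- diagonal
  have hdiag : ∀ i l : Fin 5, i ≠ l → x.1.1 i l = 0 := by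
    intro i l hil
    obtain ⟨j, hji, hjl⟩ : ∃ j : Fin 5, j ≠ i ∧ j ≠ l := by
      revert i l; decide
    let d : Fin 5 → F := fun a => if a = i then c else if a = j then c⁻¹ else 1
    have hd : ∀ a, d a ^ (q + 1) = 1 := by
      intro a
      change (if a = i then c else if a = j then c⁻¹ else 1) ^ (q + 1) = 1
      split_ifs
      · exact hc
      · exact hcinv
      · exact one_pow _
    have hprod : ∏ a, d a = 1 := by
      rw [← Finset.mul_prod_erase Finset.univ d (Finset.mem_univ i),
        ← Finset.mul_prod_erase (Finset.univ.erase i) d (Finset.mem_erase.2 ⟨hji, Finset.mem_univ j⟩)]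
      have h1 : d i = c := if_pos rfl
      have h2 : d j = c⁻¹ := by
        change (if j = i then c else if j = j then c⁻¹ else 1) = c⁻¹
        rw [if_neg hji, if_pos rfl]
      have h3 : ∏ a ∈ (Finset.univ.erase i).erase j, d a = 1 := by
        apply Finset.prod_eq_one
        intro a ha
        rw [Finset.mem_erase, Finset.mem_erase] at ha
        change (if a = i then c else if a = j then c⁻¹ else 1) = 1
        rw [if_neg ha.2.1, if_neg ha.1]
      rw [h1, h2, h3, mul_one, mul_inv_cancel₀ hc0]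
    have hdet : (mon d (1 : Perm (Fin 5))).det = 1 := by
      rw [det_mon, hprod, Perm.sign_one]
      simp
    have h1 := hcomm (mon d 1) hdet (mem_SU_of_mon _ d 1 rfl hd)
    rw [mon_eq, inv_one] at h1
    have h2 : (1 : Perm (Fin 5)).permMatrix F = 1 := Matrix.permMatrix_one
    rw [h2, mul_one] at h1
    have h3 := congrFun (congrFun h1 i) l
    rw [Matrix.diagonal_mul, Matrix.mul_diagonal] at h3
    have h4 : d i = c := if_pos rfl
    have h5 : d l = 1 := by
      change (if l = i then c else if l = j then c⁻¹ else 1) = 1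
      rw [if_neg hil.symm, if_neg hjl.symm]
    rw [h4, h5, mul_one] at h3
    have h6 : (c - 1) * x.1.1 i l = 0 := by rw [sub_mul, h3, one_mul, sub_self]
    rcases mul_eq_zero.1 h6 with h7 | h7
    · exact absurd (sub_eq_zero.1 h7) hc1
    · exact h7
  have hdiag' : x.1.1 = Matrix.diagonal (fun i => x.1.1 i i) := by
    ext i l
    by_cases h : i = l
    · rw [h, Matrix.diagonal_apply_eq]
    · rw [Matrix.diagonal_apply_ne _ h, hdiag i l h]
  -- all the entries are equal
  have heq : ∀ i k : Fin 5, x.1.1 i i = x.1.1 k k := by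
    intro i k
    by_cases hik : i = k
    · rw [hik]
    obtain ⟨j, hji, hjk⟩ : ∃ j : Fin 5, j ≠ i ∧ j ≠ k := by
      revert i k; decide
    let σ : Perm (Fin 5) := Equiv.swap i j * Equiv.swap j k
    have hσ : σ k = i := by
      change Equiv.swap i j (Equiv.swap j k k) = i
      rw [Equiv.swap_apply_right, Equiv.swap_apply_right]
    have hdet : (mon (fun _ => (1 : F)) σ).det = 1 := by
      rw [det_mon, Finset.prod_const_one, Perm.sign_mul, Perm.sign_swap hji.symm, Perm.sign_swap hjk]
      simp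
    have h1 := hcomm (mon (fun _ => (1 : F)) σ) hdet
      (mem_SU_of_mon _ (fun _ => (1 : F)) σ rfl (fun _ => one_pow _))
    rw [hdiag'] at h1
    have h3 := congrFun (congrFun h1 i) k
    rw [Matrix.mul_diagonal, Matrix.diagonal_mul, mon_apply, if_pos hσ.symm, one_mul, mul_one] at h3
    exact h3.symm
  have hsc : x.1.1 = Matrix.scalar (Fin 5) (x.1.1 0 0) := by
    rw [Matrix.scalar_apply]
    conv_lhs => rw [hdiag']
    congr 1
    funext i
    exact heq i 0
  refine ⟨x.1.1 0 0, ?_, hsc⟩
  have h1 : x.1.1.det = 1 := x.1.2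
  rw [hsc, Matrix.scalar_apply, Matrix.det_diagonal, Finset.prod_const, Finset.card_univ, Fintype.card_fin] at h1
  rwa [hsc, Matrix.scalar_apply, Matrix.diagonal_apply_eq]

/-- **`PSU_m(q)`, `p ≠ char F`.** -/
theorem row_psu (h : Pearly p n G) (hF : (p : F) ≠ 0) (hq : Fintype.card F = q ^ 2)
    (e : G ≃* PSU m F q) : False := by
  have h1 := le_sq h hF (suMat m F q) suMat_injective e
  rw [Fintype.card_fin] at h1
  rcases le_or_of_le_sq h h1 with h2 | ⟨rfl, rfl⟩
  · exact h.dinv ((doubleInv_quot_center h.prime h.odd (doubleInv_su hq h.prime h.odd h2)).congr e.symm)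
  · -- `p = 3`, `m = 5`
    let π : SU 5 F q →* G :=
      e.symm.toMonoidHom.comp (QuotientGroup.mk' (Subgroup.center (SU 5 F q)))
    have hker : π.ker = Subgroup.center (SU 5 F q) := by
      ext x
      rw [MonoidHom.mem_ker]
      change e.symm (x : SU 5 F q ⧸ _) = 1 ↔ _
      rw [map_eq_one_iff _ e.symm.injective]
      exact QuotientGroup.eq_one_iff x
    have hcop : Nat.Coprime 3 (Nat.card π.ker) := by
      rw [Nat.Prime.coprime_iff_not_dvd Nat.prime_three]
      intro hd
      have : Fact (Nat.Prime 3) := ⟨Nat.prime_three⟩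
      obtain ⟨x, hx⟩ := exists_prime_orderOf_dvd_card' (G := π.ker) 3 hd
      have hx1 : (x : SU 5 F q) ∈ Subgroup.center _ := by rw [← hker]; exact x.2
      obtain ⟨r, hr, hrx⟩ := center_su_five hq _ hx1
      have h3 : r ^ 3 = 1 := by
        have h4 : (x : SU 5 F q) ^ 3 = 1 := by
          rw [← Subgroup.coe_pow, ← hx, pow_orderOf_eq_one]
          rfl
        have h5 := congrArg (fun A : SU 5 F q => suMat 5 F q A 0 0) h4
        rw [map_pow, map_one] at h5
        change (((x : SU 5 F q).1.1 ^ 3 : Matrix (Fin 5) (Fin 5) F) 0 0) = _ at h5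
        rw [hrx, ← map_pow, Matrix.scalar_apply, Matrix.diagonal_apply_eq, Matrix.one_apply_eq] at h5
        exact h5
      have h4 : r = 1 := by
        have h5 : r ^ 6 = 1 := by rw [show 6 = 3 * 2 by norm_num, pow_mul, h3, one_pow]
        calc r = r ^ 5 * r := by rw [hr, one_mul]
          _ = r ^ 6 := by ring
          _ = 1 := h5
      have h5 : x = 1 := by
        apply Subtype.ext
        apply suMat_injective
        change (x : SU 5 F q).1.1 = 1
        rw [hrx, h4, map_one]
      rw [h5, orderOf_one] at hx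
      omega
    have : Finite (SU 5 F q) := Finite.of_injective _ (suMat_injective (m := 5) (F := F) (q := q))
    have h2 := h.le_card_lift π (by
      intro g
      obtain ⟨x, hx⟩ := QuotientGroup.mk_surjective (e g)
      refine ⟨x, ?_⟩
      change e.symm (x : SU 5 F q ⧸ _) = g
      rw [hx, e.symm_apply_apply]) hker.le hcop hF (suMat 5 F q) suMat_injective
    rw [Fintype.card_fin] at h2
    omega

end PSU

end Cfsg.Agent.H785.Exo
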