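import Cfsg.Agent.H789.Exo.Defs
import Mathlib.LinearAlgebra.Matrix.Permutation
import Mathlib.GroupTheory.Perm.ViaEmbedding
import Mathlib.Data.ZMod.Basic
import Mathlib.LinearAlgebra.Matrix.SpecialLinearGroup

/-!
# Signed permutation matrices and double inversions (helper785)

* `mon d σ` : monomial matrices;
* `blk a σ` : the signed permutation matrix of `σ : Perm (ZMod p)` on the block `a : ZMod p ↪ ι`, of determinant `1`;
* `DoubleInv.quot_center` : a double inversion of `H` gives one of `H / Z(H)`;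
* `hasInv_perm` : `Perm (ZMod p)` has an inverted element of order `p`.
-/

set_option autoImplicit false
set_option linter.unusedSectionVars false
set_option linter.unusedFintypeInType false
set_option linter.unusedDecidableInType false

namespace Cfsg.Agent.H785.Exo

open Cfsg Cfsg.Agent.H789.Exo Equiv Matrix

universe u v

/-! ### central quotients -/

theorem eq_one_of_inv {p : ℕ} (hp : p.Prime) (h3 : 3 ≤ p) {H : Type u} [Group H] {x : H} (hx : ∃ k : ℕ, x ^ p ^ k = 1)
    (h : x = x⁻¹) : x = 1 := by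
  obtain ⟨k, hk⟩ := hx
  have h2 : x ^ 2 = 1 := by
    rw [pow_two]
    nth_rewrite 2 [h]
    exact mul_inv_cancel x
  have h1 : orderOf x ∣ 2 := orderOf_dvd_of_pow_eq_one h2
  have h4 : orderOf x ∣ p ^ k := orderOf_dvd_of_pow_eq_one hk
  have hodd : Nat.Coprime 2 p := (Nat.coprime_primes Nat.prime_two hp).2 (by omega)
  have h5 := Nat.eq_one_of_dvd_coprimes (Nat.Coprime.pow_right k hodd) h1 h4
  exact orderOf_eq_one_iff.1 h5

/-- a double inversion of `H` gives one of `H / Z(H)` -/
theorem doubleInv_quot_center {p : ℕ} (hp : p.Prime) (h3 : 3 ≤ p) {H : Type u} [Group H] (h : DoubleInv p H) :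
    DoubleInv p (H ⧸ Subgroup.center H) := by
  obtain ⟨x, y, s, t, hx, hy, hxp, hyp, hxy, h1, h2, h4, h5⟩ := h
  refine DoubleInv.map' hxp hyp hxy h1 h2 h4 h5 (QuotientGroup.mk' (Subgroup.center H)) ?_ ?_
  · intro h6
    rw [QuotientGroup.mk'_apply, QuotientGroup.eq_one_iff, Subgroup.mem_center_iff] at h6
    apply hx
    apply eq_one_of_inv hp h3 hxp
    rw [← h1, h6 s, mul_inv_cancel_right]
  · intro h6
    rw [QuotientGroup.mk'_apply, QuotientGroup.eq_one_iff, Subgroup.mem_center_iff] at h6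
    apply hy
    apply eq_one_of_inv hp h3 hyp
    rw [← h5, h6 t, mul_inv_cancel_right]

/-! ### the permutation group -/

/-- translation by one -/
def cyc (p : ℕ) : Perm (ZMod p) := Equiv.addRight 1

/-- negation -/
def rev (p : ℕ) : Perm (ZMod p) := Equiv.neg (ZMod p)

theorem cyc_pow_apply (p n : ℕ) (i : ZMod p) : ((cyc p) ^ n) i = i + n := by
  induction n with
  | zero => simp
  | succ n ih =>
    rw [pow_succ', Perm.mul_apply, ih]
    show i + n + 1 = _
    push_cast
    ring

theorem cyc_pow (p : ℕ) : (cyc p) ^ p = 1 := by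
  ext i
  rw [cyc_pow_apply, CharP.cast_eq_zero, add_zero]
  rfl

theorem cyc_ne_one {p : ℕ} (hp : 1 < p) : cyc p ≠ 1 := by
  intro h
  have : Fact (1 < p) := ⟨hp⟩
  have h1 : cyc p 0 = (1 : Perm (ZMod p)) 0 := by rw [h]
  change (0 : ZMod p) + 1 = 0 at h1
  rw [zero_add] at h1
  exact one_ne_zero h1

theorem rev_conj (p : ℕ) : rev p * cyc p * (rev p)⁻¹ = (cyc p)⁻¹ := by
  rw [eq_inv_iff_mul_eq_one]
  ext i
  show -( -(i + 1) + 1) = i
  ring

theorem hasInv_perm {p : ℕ} (hp : 1 < p) : HasInv p (Perm (ZMod p)) :=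
  ⟨cyc p, rev p, cyc_ne_one hp, ⟨1, by rw [pow_one, cyc_pow]⟩, rev_conj p⟩

/-! ### monomial matrices -/

variable {ι : Type*} [Fintype ι] [DecidableEq ι] {F : Type*} [Field F]

/-- the monomial matrix with `e_j ↦ d_{σ j} e_{σ j}` -/
def mon (d : ι → F) (σ : Perm ι) : Matrix ι ι F := Matrix.of fun i j => if i = σ j then d i else 0

theorem mon_apply (d : ι → F) (σ : Perm ι) (i j : ι) : mon d σ i j = if i = σ j then d i else 0 := rfl

theorem mon_mulVec (d : ι → F) (σ : Perm ι) (v : ι → F) (i : ι) : (mon d σ *ᵥ v) i = d i * v (σ⁻¹ i) := by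
  rw [Matrix.mulVec, dotProduct, Finset.sum_eq_single (σ⁻¹ i)]
  · rw [mon_apply, if_pos (show i = σ (σ⁻¹ i) from (σ.apply_symm_apply i).symm)]
  · intro j _ hj
    rw [mon_apply, if_neg, zero_mul]
    intro h
    apply hj
    rw [h]
    exact (σ.symm_apply_apply j).symm
  · intro h
    exact absurd (Finset.mem_univ _) h

theorem mon_one : mon (fun _ => (1 : F)) (1 : Perm ι) = 1 := by
  ext i j
  rw [mon_apply, Matrix.one_apply]
  rfl

theorem mon_mul (d e : ι → F) (σ τ : Perm ι) : mon d σ * mon e τ = mon (fun i => d i * e (σ⁻¹ i)) (σ * τ) := by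
  apply Matrix.toLin'.injective
  ext1 j
  ext i
  simp only [LinearMap.comp_apply, Matrix.toLin'_apply, ← Matrix.mulVec_mulVec, mon_mulVec]
  rw [_root_.mul_inv_rev, Perm.mul_apply]
  ring

theorem mon_eq (d : ι → F) (σ : Perm ι) : mon d σ = Matrix.diagonal d * (σ⁻¹).permMatrix F := by
  ext i j
  rw [mon_apply, Matrix.diagonal_mul, Equiv.Perm.permMatrix, PEquiv.toMatrix_apply]
  simp only [Equiv.toPEquiv_apply, Option.mem_def, Option.some.injEq, mul_ite, mul_one, mul_zero]
  refine if_congr ?_ rfl rfl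
  constructor
  · rintro rfl
    exact σ.symm_apply_apply j
  · rintro rfl
    exact (σ.apply_symm_apply i).symm

theorem det_mon (d : ι → F) (σ : Perm ι) : (mon d σ).det = (∏ i, d i) * ((Perm.sign σ : ℤ) : F) := by
  rw [mon_eq, Matrix.det_mul, Matrix.det_diagonal, Matrix.det_permutation, Perm.sign_inv]

/-! ### blocks -/

variable {κ : Type*} [Fintype κ] [DecidableEq κ]

/-- the sign of a permutation in the field -/
def sg (F : Type*) [Field F] : Perm κ →* F :=
  ((Int.castRingHom F : ℤ →* F).comp (Units.coeHom ℤ)).comp Perm.sign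

theorem sg_eq (σ : Perm κ) : sg F σ = ((Perm.sign σ : ℤ) : F) := rfl

theorem sg_mul_self (σ : Perm κ) : sg F σ * sg F σ = 1 := by
  rw [← map_mul, sg_eq, Perm.sign_mul, Int.units_mul_self]
  simp

theorem sg_pow_even {n : ℕ} (hn : Even n) (σ : Perm κ) : (sg F σ) ^ n = 1 := by
  obtain ⟨k, rfl⟩ := hn
  rw [← two_mul, pow_mul, pow_two, sg_mul_self, one_pow]

/-- the sign function on a block -/
noncomputable def bsg (a : κ ↪ ι) (ε : F) : ι → F := by
  classical
  exact fun i => if i ∈ Set.range a then ε else 1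

theorem bsg_pos (a : κ ↪ ι) (ε : F) {i : ι} (hi : i ∈ Set.range a) : bsg a ε i = ε := by
  unfold bsg
  rw [if_pos hi]

theorem bsg_neg (a : κ ↪ ι) (ε : F) {i : ι} (hi : i ∉ Set.range a) : bsg a ε i = 1 := by
  unfold bsg
  rw [if_neg hi]

theorem prod_bsg (a : κ ↪ ι) (ε : F) : ∏ i, bsg a ε i = ε ^ Fintype.card κ := by
  classical
  unfold bsg
  rw [Finset.prod_ite, Finset.prod_const_one, mul_one, Finset.prod_const]
  congr 1
  rw [← Finset.card_univ, ← Finset.card_map a]
  congr 1
  ext i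
  simp

/-- the permutation of the block -/
noncomputable abbrev via (a : κ ↪ ι) : Perm κ →* Perm ι := Perm.viaEmbeddingHom a

theorem via_apply (a : κ ↪ ι) (σ : Perm κ) (k : κ) : via a σ (a k) = a (σ k) := by
  show Perm.viaEmbedding σ a (a k) = _
  rw [Perm.viaEmbedding_apply]

theorem via_apply_not_mem (a : κ ↪ ι) (σ : Perm κ) {i : ι} (hi : i ∉ Set.range a) : via a σ i = i :=
  Perm.viaEmbedding_apply_of_notMem σ a i hi

theorem sign_via (a : κ ↪ ι) (σ : Perm κ) : Perm.sign (via a σ) = Perm.sign σ := by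
  classical
  show Perm.sign (Perm.viaEmbedding σ a) = _
  unfold Perm.viaEmbedding
  convert Perm.sign_extendDomain σ (ofInjective a.1 a.2)

theorem via_mem_range (a : κ ↪ ι) (σ : Perm κ) (i : ι) : via a σ i ∈ Set.range a ↔ i ∈ Set.range a := by
  constructor
  · intro h
    by_contra h1
    rw [via_apply_not_mem a σ h1] at h
    exact h1 h
  · rintro ⟨k, rfl⟩
    exact ⟨σ k, (via_apply a σ k).symm⟩

theorem bsg_via (a b : κ ↪ ι) (hab : ∀ k l, a k ≠ b l) (ε : F) (σ : Perm κ) (i : ι) :
    bsg a ε (via b σ i) = bsg a ε i := by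
  by_cases hi : i ∈ Set.range b
  · obtain ⟨k, rfl⟩ := hi
    rw [via_apply, bsg_neg, bsg_neg]
    · rintro ⟨l, hl⟩
      exact hab _ _ hl
    · rintro ⟨l, hl⟩
      exact hab _ _ hl
  · rw [via_apply_not_mem b σ hi]

theorem bsg_via_self (a : κ ↪ ι) (ε : F) (σ : Perm κ) (i : ι) : bsg a ε (via a σ i) = bsg a ε i := by
  by_cases hi : i ∈ Set.range a
  · rw [bsg_pos a ε hi, bsg_pos a ε ((via_mem_range a σ i).2 hi)]
  · rw [bsg_neg a ε hi, bsg_neg a ε (fun h => hi ((via_mem_range a σ i).1 h))]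

/-- the signed permutation matrix on a block -/
noncomputable def blk (F : Type*) [Field F] (a : κ ↪ ι) : Perm κ →* Matrix ι ι F where
  toFun σ := mon (bsg a (sg F σ)) (via a σ)
  map_one' := by
    rw [map_one, map_one, ← mon_one]
    congr 1
    funext i
    by_cases hi : i ∈ Set.range a
    · exact bsg_pos a 1 hi
    · exact bsg_neg a 1 hi
  map_mul' σ τ := by
    rw [mon_mul, map_mul (via a)]
    congr 1
    funext i
    rw [← map_inv, bsg_via_self]
    by_cases hi : i ∈ Set.range a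
    · rw [bsg_pos a _ hi, bsg_pos a _ hi, bsg_pos a _ hi, map_mul]
    · rw [bsg_neg a _ hi, bsg_neg a _ hi, bsg_neg a _ hi, one_mul]

theorem blk_apply (a : κ ↪ ι) (σ : Perm κ) : blk F a σ = mon (bsg a (sg F σ)) (via a σ) := rfl

theorem det_blk (a : κ ↪ ι) (hκ : Odd (Fintype.card κ)) (σ : Perm κ) : (blk F a σ).det = 1 := by
  rw [blk_apply, det_mon, prod_bsg, sign_via, ← sg_eq, ← pow_succ]
  exact sg_pow_even hκ.add_one σ

theorem blk_injective (a : κ ↪ ι) : Function.Injective (blk F a) := by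
  rw [injective_iff_map_eq_one]
  intro σ hσ
  ext k
  have h1 := congrFun (congrFun hσ (a (σ k))) (a k)
  rw [blk_apply, mon_apply, if_pos (via_apply a σ k).symm, bsg_pos a _ ⟨_, rfl⟩, Matrix.one_apply] at h1
  by_contra h2
  have h4 : a (σ k) ≠ a k := fun h => h2 (a.injective h)
  rw [if_neg h4] at h1
  have h3 := sg_mul_self (F := F) σ
  rw [h1, zero_mul] at h3
  exact zero_ne_one h3

theorem blk_comm (a b : κ ↪ ι) (hab : ∀ k l, a k ≠ b l) (σ τ : Perm κ) :
    blk F a σ * blk F b τ = blk F b τ * blk F a σ := by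
  rw [blk_apply, blk_apply, mon_mul, mon_mul]
  have h1 : via a σ * via b τ = via b τ * via a σ := by
    apply Perm.Disjoint.commute
    intro i
    by_cases hi : i ∈ Set.range a
    · right
      apply via_apply_not_mem
      rintro ⟨l, rfl⟩
      obtain ⟨k, hk⟩ := hi
      exact hab k l hk
    · left
      exact via_apply_not_mem a σ hi
  rw [h1]
  congr 1
  funext i
  rw [← map_inv, ← map_inv, bsg_via a b hab, bsg_via b a (fun k l h => hab l k h.symm), mul_comm]

/-- two disjoint blocks -/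
theorem exists_blocks {p : ℕ} [NeZero p] {m : ℕ} (hm : 2 * p ≤ m) :
    ∃ a b : ZMod p ↪ Fin m, ∀ k l, a k ≠ b l := by
  have h1 : Nonempty ((ZMod p ⊕ ZMod p) ↪ Fin m) := by
    apply Function.Embedding.nonempty_of_card_le
    rw [Fintype.card_sum, ZMod.card, Fintype.card_fin]
    omega
  obtain ⟨j⟩ := h1
  refine ⟨Function.Embedding.inl.trans j, Function.Embedding.inr.trans j, fun k l h => ?_⟩
  exact Sum.inl_ne_inr (j.injective h)

/-- **Double inversions by signed permutation matrices**: for a group `H` of matrices containing all the matrices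
`blk F a σ`, `a` a block of size `p`. -/
theorem doubleInv_of_blk {p : ℕ} [NeZero p] (hp : p.Prime) {m : ℕ} (hm : 2 * p ≤ m) {H : Type u} [Group H]
    (toMat : H →* Matrix (Fin m) (Fin m) F) (hinj : Function.Injective toMat)
    (hH : ∀ (a : ZMod p ↪ Fin m) (σ : Perm (ZMod p)), ∃ h : H, toMat h = blk F a σ) : DoubleInv p H := by
  obtain ⟨a, b, hab⟩ := exists_blocks (p := p) hm
  choose f hf using hH
  let fa : (a : ZMod p ↪ Fin m) → (Perm (ZMod p) →* H) := fun a =>
    { toFun := f a
      map_one' := hinj (by rw [hf, map_one, map_one])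
      map_mul' := fun σ τ => hinj (by rw [map_mul, hf, hf, hf, map_mul]) }
  have hfa : ∀ (a : ZMod p ↪ Fin m) (σ : Perm (ZMod p)), toMat (fa a σ) = blk F a σ := fun a σ => hf a σ
  refine DoubleInv.of_commute (hasInv_perm hp.one_lt) (hasInv_perm hp.one_lt) (fa a) (fa b) ?_ ?_ ?_
  · intro σ τ
    apply hinj
    rw [map_mul, map_mul, hfa, hfa]
    exact blk_comm a b hab σ τ
  · intro σ _ h
    apply blk_injective (F := F) a
    rw [← hfa, h, map_one, map_one]
  · intro σ _ h
    apply blk_injective (F := F) b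
    rw [← hfa, h, map_one, map_one]

end Cfsg.Agent.H785.Exo
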