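import Cfsg.Agent.H785.CenterTwo
import Cfsg.Agent.H766.SLTwo
import Cfsg.Agent.H765.Ess

/-!
# Group theory for fusion systems on groups of order `p⁵` (helper785)

* `quotAct`: the action induced on a quotient;
* `card_le_mul_ker`: a `p`-group acting on a group of order `p²`;
* `up`: the second centre relative to a normal subgroup.
-/

set_option autoImplicit false
set_option linter.unusedSectionVars false
set_option linter.unusedVariables false
set_option linter.style.haveILetI false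

namespace Cfsg.Agent.H785

open Cfsg Cfsg.FusionSystem Cfsg.Agent.H802
open scoped commutatorElement

section Quot

variable {P H : Type*} [Group P] [Group H]

/-- The action induced on a quotient. -/
def quotAct (f : P →* MulAut H) (N : Subgroup H) [N.Normal] (h : ∀ g, ∀ x ∈ N, f g x ∈ N) :
    P →* MulAut (H ⧸ N) where
  toFun g := QuotientGroup.congr N N (f g) (by
    apply le_antisymm
    · rintro _ ⟨x, hx, rfl⟩
      exact h g x hx
    · intro x hx
      refine ⟨f g⁻¹ x, h g⁻¹ x hx, ?_⟩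
      show f g (f g⁻¹ x) = x
      rw [map_inv, MulAut.apply_inv_self])
  map_one' := by
    ext x
    induction x using QuotientGroup.induction_on
    rw [QuotientGroup.congr_mk, map_one]
    rfl
  map_mul' g k := by
    ext x
    induction x using QuotientGroup.induction_on
    rw [MulAut.mul_apply, QuotientGroup.congr_mk, QuotientGroup.congr_mk, QuotientGroup.congr_mk,
      map_mul]
    rfl

theorem quotAct_mk (f : P →* MulAut H) (N : Subgroup H) [N.Normal]
    (h : ∀ g, ∀ x ∈ N, f g x ∈ N) (g : P) (x : H) :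
    quotAct f N h g (x : H ⧸ N) = ((f g x : H) : H ⧸ N) := rfl

theorem quotAct_eq_one_iff (f : P →* MulAut H) (N : Subgroup H) [N.Normal]
    (h : ∀ g, ∀ x ∈ N, f g x ∈ N) (g : P) :
    quotAct f N h g = 1 ↔ ∀ x, x⁻¹ * f g x ∈ N := by
  constructor
  · intro h1 x
    have h2 := congrArg (fun a : MulAut (H ⧸ N) => a (x : H ⧸ N)) h1
    have h3 : ((f g x : H) : H ⧸ N) = (x : H ⧸ N) := h2
    exact QuotientGroup.eq.1 h3.symm
  · intro h1
    ext x
    induction x using QuotientGroup.induction_on with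
    | H x =>
      rw [quotAct_mk, MulAut.one_apply]
      exact (QuotientGroup.eq.2 (h1 x)).symm

end Quot

section Small

variable {p : ℕ} [hp : Fact p.Prime]

/-- A group of order `p²` is commutative. -/
theorem mul_comm_of_card_sq {U : Type*} [Group U] (hU : Nat.card U = p ^ 2) (x y : U) :
    x * y = y * x := by
  have h := IsPGroup.isMulCommutative_of_card_eq_prime_sq (p := p) hU
  exact h.is_comm.comm x y

/-- A `p`-group acting on a group of order `p²` has a kernel of index at most `p`. -/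
theorem card_le_mul_ker {P U : Type*} [Group P] [Finite P] [Group U] (hP : IsPGroup p P)
    (f : P →* MulAut U) (hU : Nat.card U = p ^ 2) : Nat.card P ≤ p * Nat.card f.ker := by
  have hpp := hp.out
  have hfinU : Finite U := Nat.finite_of_card_ne_zero (by rw [hU]; exact pow_ne_zero 2 hpp.ne_zero)
  letI : MulAction P U := MulAction.compHom U f
  let Fx : Subgroup U :=
    { carrier := {x | ∀ g, f g x = x}
      one_mem' := fun g => map_one _
      mul_mem' := fun {x y} hx hy g => by rw [map_mul, hx g, hy g]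
      inv_mem' := fun {x} hx g => by rw [map_inv, hx g] }
  have h1 := hP.card_modEq_card_fixedPoints U
  have h2 : p ∣ Nat.card Fx := by
    have h3 : Nat.card Fx = Nat.card (MulAction.fixedPoints P U) := rfl
    rw [h3]
    have h4 : Nat.card (MulAction.fixedPoints P U) ≡ 0 [MOD p] := by
      refine h1.symm.trans ?_
      rw [hU]
      exact Nat.modEq_zero_iff_dvd.2 (dvd_pow_self p two_ne_zero)
    exact Nat.modEq_zero_iff_dvd.1 h4
  obtain ⟨h, hh⟩ := exists_prime_orderOf_dvd_card' p h2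
  have hho : orderOf (h : U) = p := by rw [← hh]; exact Subgroup.orderOf_coe h
  have hHc : Nat.card (Subgroup.zpowers (h : U)) = p := by rw [Nat.card_zpowers, hho]
  set K := Subgroup.zpowers (h : U) with hK
  have hfix : ∀ g, ∀ x ∈ K, f g x = x := by
    intro g x hx
    obtain ⟨n, rfl⟩ := Subgroup.mem_zpowers_iff.1 hx
    rw [map_zpow, h.2 g]
  have hKidx : K.index = p := by
    have := K.card_mul_index
    rw [hHc, hU, sq] at this
    exact Nat.eq_of_mul_eq_mul_left hpp.pos this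
  obtain ⟨u, hu⟩ : ∃ u, u ∉ K := by
    by_contra hcon
    push Not at hcon
    have : K = ⊤ := by rw [eq_top_iff]; exact fun x _ => hcon x
    rw [this, Subgroup.index_top] at hKidx
    exact hpp.one_lt.ne hKidx
  have h3 : ∀ g, u⁻¹ * f g u ∈ K := by
    intro g
    obtain ⟨k, hk⟩ := hP g
    refine Cfsg.Agent.H766.pAut_trivial_section (f g) (k := k) (by rw [← map_pow, hk, map_one])
      (L := K) (K := ⊤) (fun x hx => by rw [hfix g x hx]; exact hx) (fun x _ => Subgroup.mem_top _)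
      (Or.inr ?_) u (Subgroup.mem_top u)
    rw [Subgroup.relIndex_top_right, hKidx]
  have h4 : Nat.card (MulAction.orbit P u) ≤ p := by
    rw [← hHc]
    refine Nat.card_le_card_of_injective
      (fun x : MulAction.orbit P u => (⟨u⁻¹ * x.1, by
        obtain ⟨g, hg⟩ := x.2
        rw [← hg]
        exact h3 g⟩ : K)) ?_
    intro x y hxy
    have := congrArg Subtype.val hxy
    exact Subtype.ext (mul_left_cancel this)
  have h5 : MulAction.stabilizer P u ≤ f.ker := by
    intro g hg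
    have hgu : f g u = u := hg
    rw [MonoidHom.mem_ker]
    let E : Subgroup U :=
      { carrier := {x | f g x = x}
        one_mem' := map_one _
        mul_mem' := fun {x y} hx hy => by
          show f g (x * y) = x * y
          rw [map_mul, show f g x = x from hx, show f g y = y from hy]
        inv_mem' := fun {x} hx => by
          show f g x⁻¹ = x⁻¹
          rw [map_inv, show f g x = x from hx] }
    have hKE : K ≤ E := fun x hx => hfix g x hx
    have hE : E = ⊤ := by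
      have h6 : Nat.card E ∣ p ^ 2 := by rw [← hU]; exact Subgroup.card_subgroup_dvd_card E
      obtain ⟨j, hj, hje⟩ := (Nat.dvd_prime_pow hpp).1 h6
      have h7 : K ≠ E := fun h7 => hu (by rw [h7]; exact hgu)
      have h8 : Nat.card K < Nat.card E := by
        refine lt_of_le_of_ne (Nat.card_mono (Set.toFinite _) hKE) fun h9 => h7 ?_
        exact Subgroup.eq_of_le_of_card_ge hKE h9.ge
      rw [hHc, hje] at h8
      have h9 : j = 2 := by
        interval_cases j
        · simp at h8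
          exact absurd h8 hpp.ne_zero
        · simp at h8
        · rfl
      rw [h9] at hje
      exact Subgroup.eq_top_of_card_eq E (by rw [hje, hU])
    ext x
    have : x ∈ E := by rw [hE]; exact Subgroup.mem_top x
    exact this
  have h6 := (MulAction.stabilizer P u).card_mul_index
  rw [MulAction.index_stabilizer, mul_comm] at h6
  rw [← h6]
  exact Nat.mul_le_mul h4 (Nat.card_mono (Set.toFinite _) h5)

/-- A `p`-group of automorphisms of a group of order `p²` has order at most `p`. -/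
theorem card_le_of_card_sq {U : Type*} [Group U] (hU : Nat.card U = p ^ 2)
    (B : Subgroup (MulAut U)) (hB : IsPGroup p B) : Nat.card B ≤ p := by
  have hfinU : Finite U := Nat.finite_of_card_ne_zero
    (by rw [hU]; exact pow_ne_zero 2 hp.out.ne_zero)
  have h1 := card_le_mul_ker hB B.subtype hU
  have h2 : B.subtype.ker = ⊥ := B.ker_subtype
  rwa [h2, Subgroup.card_bot, mul_one] at h1

end Small

/-! ### Subgroups of an ambient group -/

section Amb

variable {Ω : Type*} [Group Ω]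

/-- `P` normalizes `X`. -/
def Nrm (P X : Subgroup Ω) : Prop := ∀ g ∈ P, ∀ x ∈ X, g * x * g⁻¹ ∈ X

/-- `Y` is invariant under the automorphisms of `X`. -/
def CharIn (X Y : Subgroup Ω) : Prop := ∀ (α : MulAut X) (x : X), (x : Ω) ∈ Y → ((α x : X) : Ω) ∈ Y

theorem Nrm.mono {P P' X : Subgroup Ω} (h : Nrm P X) (hle : P' ≤ P) : Nrm P' X :=
  fun g hg => h g (hle hg)

theorem Nrm.self (X : Subgroup Ω) : Nrm X X :=
  fun g hg x hx => X.mul_mem (X.mul_mem hg hx) (X.inv_mem hg)

theorem nrm_bot (P : Subgroup Ω) : Nrm P ⊥ := by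
  intro g _ x hx
  rw [Subgroup.mem_bot] at hx ⊢
  rw [hx]
  group

theorem CharIn.nrm {X Y : Subgroup Ω} (h : CharIn X Y) (hYX : Y ≤ X) : Nrm X Y := by
  intro g hg y hy
  exact h (MulAut.conj (⟨g, hg⟩ : X)) ⟨y, hYX hy⟩ hy

theorem Nrm.normal {X Y : Subgroup Ω} (h : Nrm X Y) : (Y.subgroupOf X).Normal :=
  ⟨fun n hn g => h g g.2 n hn⟩

theorem CharIn.mem_iff {X Y : Subgroup Ω} (h : CharIn X Y) (α : MulAut X) (x : X) :
    ((α x : X) : Ω) ∈ Y ↔ (x : Ω) ∈ Y := by
  refine ⟨fun hx => ?_, h α x⟩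
  have := h α⁻¹ (α x) hx
  rwa [MulAut.inv_apply_self] at this

/-- The elements of `P` acting trivially on `X/Y`. -/
def aK (P X Y : Subgroup Ω) (h : Nrm P Y) : Subgroup Ω where
  carrier := {g | g ∈ P ∧ ∀ x ∈ X, ⁅g, x⁆ ∈ Y}
  one_mem' := ⟨P.one_mem, fun x _ => by rw [commutatorElement_one_left]; exact Y.one_mem⟩
  mul_mem' := by
    rintro a b ⟨ha, ha'⟩ ⟨hb, hb'⟩
    refine ⟨P.mul_mem ha hb, fun x hx => ?_⟩
    have e : ⁅a * b, x⁆ = (a * ⁅b, x⁆ * a⁻¹) * ⁅a, x⁆ := by
      simp only [commutatorElement_def]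
      group
    rw [e]
    exact Y.mul_mem (h a ha _ (hb' x hx)) (ha' x hx)
  inv_mem' := by
    rintro a ⟨ha, ha'⟩
    refine ⟨P.inv_mem ha, fun x hx => ?_⟩
    have e : ⁅a⁻¹, x⁆ = a⁻¹ * ⁅a, x⁆⁻¹ * a⁻¹⁻¹ := by
      simp only [commutatorElement_def]
      group
    rw [e]
    exact h _ (P.inv_mem ha) _ (Y.inv_mem (ha' x hx))

theorem mem_aK {P X Y : Subgroup Ω} {h : Nrm P Y} {g : Ω} :
    g ∈ aK P X Y h ↔ g ∈ P ∧ ∀ x ∈ X, ⁅g, x⁆ ∈ Y := Iff.rfl

theorem aK_le {P X Y : Subgroup Ω} {h : Nrm P Y} : aK P X Y h ≤ P := fun _ hg => hg.1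

/-- The second centre of `S` relative to `Y`. -/
def up (S Y : Subgroup Ω) (h : Nrm S Y) : Subgroup Ω := aK S S Y h

variable {S Y : Subgroup Ω}

theorem mem_up {h : Nrm S Y} {g : Ω} : g ∈ up S Y h ↔ g ∈ S ∧ ∀ x ∈ S, ⁅g, x⁆ ∈ Y := Iff.rfl

theorem up_le {h : Nrm S Y} : up S Y h ≤ S := aK_le

theorem comm_mem_of_nrm (h : Nrm S Y) {y s : Ω} (hy : y ∈ Y) (hs : s ∈ S) : ⁅y, s⁆ ∈ Y := by
  have e : ⁅y, s⁆ = y * (s * y⁻¹ * s⁻¹) := by
    rw [commutatorElement_def]
    group
  rw [e]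
  exact Y.mul_mem hy (h s hs _ (Y.inv_mem hy))

theorem comm_mem_of_nrm' (h : Nrm S Y) {y s : Ω} (hy : y ∈ Y) (hs : s ∈ S) : ⁅s, y⁆ ∈ Y := by
  rw [← commutatorElement_inv]
  exact Y.inv_mem (comm_mem_of_nrm h hy hs)

theorem le_up {h : Nrm S Y} (hYS : Y ≤ S) : Y ≤ up S Y h :=
  fun y hy => ⟨hYS hy, fun _ hx => comm_mem_of_nrm h hy hx⟩

/-- Every subgroup between `Y` and `up S Y` is normalized by `S`. -/
theorem nrm_of_le_up {h : Nrm S Y} {K : Subgroup Ω} (h1 : Y ≤ K) (h2 : K ≤ up S Y h) :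
    Nrm S K := by
  intro s hs k hk
  have h3 := (h2 hk).2 s hs
  have e : s * k * s⁻¹ = ⁅k, s⁆⁻¹ * k := by
    rw [commutatorElement_def]
    group
  rw [e]
  exact K.mul_mem (K.inv_mem (h1 h3)) hk

theorem nrm_up {h : Nrm S Y} (hYS : Y ≤ S) : Nrm S (up S Y h) := nrm_of_le_up (le_up hYS) le_rfl

theorem coe_commutator_apply (α : MulAut S) (x y : S) :
    ((α ⁅x, y⁆ : S) : Ω) = ⁅((α x : S) : Ω), ((α y : S) : Ω)⁆ := by
  rw [map_commutatorElement]
  rfl

theorem charIn_up {h : Nrm S Y} (hc : CharIn S Y) : CharIn S (up S Y h) := by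
  intro α x hx
  refine ⟨(α x).2, fun y hy => ?_⟩
  have h1 := hx.2 _ (α⁻¹ ⟨y, hy⟩).2
  have h2 : ((⁅x, α⁻¹ ⟨y, hy⟩⁆ : S) : Ω) ∈ Y := h1
  have h3 := hc α _ h2
  rw [coe_commutator_apply, MulAut.apply_inv_self] at h3
  exact h3

theorem charIn_ZS (S : Subgroup Ω) : CharIn S (ZS S) := fun α _ hx => apply_mem_ZS α hx

theorem charIn_commutator (S : Subgroup Ω) : CharIn S ⁅S, S⁆ :=
  fun α _ hx => apply_mem_commutator α hx

theorem mem_centralizerIn {P X : Subgroup Ω} {g : Ω} :
    g ∈ centralizerIn P X ↔ g ∈ P ∧ ∀ x ∈ X, x * g = g * x := by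
  unfold FusionSystem.centralizerIn
  rw [Subgroup.mem_inf, Subgroup.mem_centralizer_iff]
  rfl

theorem charIn_centralizerIn {X : Subgroup Ω} (hX : X ≤ S) (hc : CharIn S X) :
    CharIn S (centralizerIn S X) := by
  intro α x hx
  rw [mem_centralizerIn] at hx ⊢
  refine ⟨(α x).2, fun y hy => ?_⟩
  have h1 : ((α⁻¹ ⟨y, hX hy⟩ : S) : Ω) ∈ X := hc α⁻¹ ⟨y, hX hy⟩ hy
  have h2 := hx.2 _ h1
  have h3 : α⁻¹ ⟨y, hX hy⟩ * x = x * α⁻¹ ⟨y, hX hy⟩ := Subtype.ext h2
  have h4 := congrArg (fun z : S => ((α z : S) : Ω)) h3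
  simp only [map_mul, MulAut.apply_inv_self] at h4
  exact h4

theorem nrm_centralizerIn {X : Subgroup Ω} (hX : Nrm S X) : Nrm S (centralizerIn S X) := by
  intro s hs x hx
  rw [mem_centralizerIn] at hx ⊢
  refine ⟨S.mul_mem (S.mul_mem hs hx.1) (S.inv_mem hs), fun y hy => ?_⟩
  have h1 := hx.2 _ (hX s⁻¹ (S.inv_mem hs) y hy)
  rw [inv_inv] at h1
  have h2 : s * (s⁻¹ * y * s * x) * s⁻¹ = s * (x * (s⁻¹ * y * s)) * s⁻¹ := by rw [h1]
  have e1 : s * (s⁻¹ * y * s * x) * s⁻¹ = y * (s * x * s⁻¹) := by group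
  have e2 : s * (x * (s⁻¹ * y * s)) * s⁻¹ = s * x * s⁻¹ * y := by group
  rw [e1, e2] at h2
  exact h2

variable {p : ℕ} [hp : Fact p.Prime]

theorem card_comap_mk {G : Type*} [Group G] [Finite G] (N : Subgroup G) [N.Normal]
    (H : Subgroup (G ⧸ N)) :
    Nat.card (H.comap (QuotientGroup.mk' N)) = Nat.card H * Nat.card N := by
  have h1 := (H.comap (QuotientGroup.mk' N)).card_mul_index
  rw [Subgroup.index_comap_of_surjective _ (QuotientGroup.mk'_surjective N)] at h1
  have h2 := H.card_mul_index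
  have h3 := N.card_mul_index
  have h4 : N.index = Nat.card (G ⧸ N) := rfl
  rw [h4, ← h2] at h3
  rw [← h3] at h1
  have h5 : 0 < H.index := Nat.pos_of_ne_zero (Subgroup.index_ne_zero_of_finite)
  refine Nat.eq_of_mul_eq_mul_right h5 ?_
  rw [h1]
  ring

/-- A minimal step above a normal subgroup. -/
theorem exists_next [Finite S] (hS : IsPGroup p S) (h : Nrm S Y) (hYS : Y ≤ S) (hne : Y ≠ S) :
    ∃ K : Subgroup Ω, Y ≤ K ∧ K ≤ up S Y h ∧ Nat.card K = p * Nat.card Y := by
  have hn : (Y.subgroupOf S).Normal := h.normal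
  set N := Y.subgroupOf S with hN
  have hnt : Nontrivial (S ⧸ N) := by
    rw [QuotientGroup.nontrivial_iff]
    intro htop
    apply hne
    refine le_antisymm hYS fun x hx => ?_
    have : (⟨x, hx⟩ : S) ∈ N := by rw [htop]; exact Subgroup.mem_top _
    exact this
  have hG : IsPGroup p (S ⧸ N) := hS.to_quotient N
  have hcn := hG.center_nontrivial
  have hcp : IsPGroup p (Subgroup.center (S ⧸ N)) := hG.to_subgroup _
  obtain ⟨n, hn0, hcc⟩ := hcp.nontrivial_iff_card.1 hcn
  obtain ⟨c, hc⟩ := exists_prime_orderOf_dvd_card' (G := Subgroup.center (S ⧸ N)) p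
    (by rw [hcc]; exact dvd_pow_self p hn0.ne')
  have hco : orderOf (c : S ⧸ N) = p := by rw [← hc]; exact Subgroup.orderOf_coe c
  have hccen := Subgroup.mem_center_iff.1 c.2
  set K₀ := (Subgroup.zpowers (c : S ⧸ N)).comap (QuotientGroup.mk' N) with hK₀
  have hcenK : ∀ z ∈ Subgroup.zpowers (c : S ⧸ N), ∀ y, y * z = z * y := by
    intro z hz y
    obtain ⟨i, rfl⟩ := Subgroup.mem_zpowers_iff.1 hz
    exact (show Commute y (c : S ⧸ N) from hccen y).zpow_right i
  refine ⟨K₀.map S.subtype, ?_, ?_, ?_⟩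
  · intro y hy
    refine ⟨⟨y, hYS hy⟩, ?_, rfl⟩
    have h0 : (QuotientGroup.mk' N) ⟨y, hYS hy⟩ = 1 := (QuotientGroup.eq_one_iff _).2 hy
    have h1 : (QuotientGroup.mk' N) ⟨y, hYS hy⟩ ∈ Subgroup.zpowers (c : S ⧸ N) := by
      rw [h0]
      exact Subgroup.one_mem _
    exact h1
  · rintro _ ⟨k, hk, rfl⟩
    refine ⟨k.2, fun x hx => ?_⟩
    have h1 := hcenK _ hk (QuotientGroup.mk' N ⟨x, hx⟩)
    have h2 : QuotientGroup.mk' N ⁅k, ⟨x, hx⟩⁆ = 1 := by
      rw [map_commutatorElement, commutatorElement_eq_one_iff_mul_comm, h1]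
    have h3 : (⁅k, ⟨x, hx⟩⁆ : S) ∈ N := (QuotientGroup.eq_one_iff _).1 h2
    exact h3
  · have h1 : Nat.card (K₀.map S.subtype) = Nat.card K₀ :=
      Nat.card_congr (K₀.equivMapOfInjective _ S.subtype_injective).symm.toEquiv
    have h2 : Nat.card N = Nat.card Y := by
      rw [hN]
      exact Nat.card_congr (Subgroup.subgroupOfEquivOfLe hYS).toEquiv
    rw [h1, hK₀, card_comap_mk, Nat.card_zpowers, hco, h2]

/-- The conjugation action of `P` on `X`. -/
def conjHom (P X : Subgroup Ω) (h : Nrm P X) : P →* MulAut X where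
  toFun g :=
    { toFun := fun x => ⟨g * x * (g : Ω)⁻¹, h g g.2 x x.2⟩
      invFun := fun x => ⟨(g : Ω)⁻¹ * x * g, by
        have := h _ (P.inv_mem g.2) x x.2
        rwa [inv_inv] at this⟩
      left_inv := fun x => Subtype.ext (by
        show (g : Ω)⁻¹ * (g * x * (g : Ω)⁻¹) * g = x
        group)
      right_inv := fun x => Subtype.ext (by
        show (g : Ω) * ((g : Ω)⁻¹ * x * g) * (g : Ω)⁻¹ = x
        group)
      map_mul' := fun x y => Subtype.ext (by
        show (g : Ω) * (x * y) * (g : Ω)⁻¹ = (g * x * (g : Ω)⁻¹) * (g * y * (g : Ω)⁻¹)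
        group) }
  map_one' := by
    ext x
    show ((1 : Ω) * x * (1 : Ω)⁻¹) = x
    group
  map_mul' g k := by
    ext x
    show (((g : Ω) * k) * x * ((g : Ω) * k)⁻¹) = g * (k * x * (k : Ω)⁻¹) * (g : Ω)⁻¹
    group

theorem coe_conjHom (P X : Subgroup Ω) (h : Nrm P X) (g : P) (x : X) :
    ((conjHom P X h g x : X) : Ω) = g * x * (g : Ω)⁻¹ := rfl

/-- The kernel of a `p`-group on a section of order `p²` has index at most `p`. -/
theorem card_le_aK {P X Y : Subgroup Ω} [Finite P] [Finite X] (hP : IsPGroup p P) (hX : Nrm P X)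
    (hY : Nrm P Y) (hXY : Nrm X Y) (hle : Y ≤ X) (hc : Nat.card X = p ^ 2 * Nat.card Y) :
    Nat.card P ≤ p * Nat.card (aK P X Y hY) := by
  have hfY : Finite Y := Finite.of_injective _ (Subgroup.inclusion_injective hle)
  have hY0 : Nat.card Y ≠ 0 := Nat.card_pos.ne'
  have hn : (Y.subgroupOf X).Normal := hXY.normal
  have hidx : Nat.card (X ⧸ Y.subgroupOf X) = p ^ 2 := by
    have h1 := (Y.subgroupOf X).card_mul_index
    have h2 : Nat.card (Y.subgroupOf X) = Nat.card Y :=
      Nat.card_congr (Subgroup.subgroupOfEquivOfLe hle).toEquiv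
    rw [h2, hc, mul_comm] at h1
    exact Nat.eq_of_mul_eq_mul_right (Nat.pos_of_ne_zero hY0) h1
  let f := quotAct (conjHom P X hX) (Y.subgroupOf X) (fun g x hx => hY g g.2 x hx)
  have h1 := card_le_mul_ker hP f hidx
  refine h1.trans (Nat.mul_le_mul le_rfl ?_)
  have hfin : Finite (aK P X Y hY) := by
    have : Finite P := ‹_›
    exact Finite.of_injective _ (Subgroup.inclusion_injective (aK_le (h := hY)))
  refine Nat.card_le_card_of_injective (fun g : f.ker => (⟨(g : P), (g : P).2, fun x hx => ?_⟩ :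
    aK P X Y hY)) ?_
  · have h2 := (quotAct_eq_one_iff _ _ _ _).1 (MonoidHom.mem_ker.1 g.2) ⟨x, hx⟩⁻¹
    have h3 : x * (((g : P) : Ω) * x⁻¹ * ((g : P) : Ω)⁻¹) ∈ Y := by
      have h4 : ((((⟨x, hx⟩ : X)⁻¹)⁻¹ * conjHom P X hX (g : P) (⟨x, hx⟩⁻¹) : X) : Ω) ∈ Y := h2
      have h5 : ((((⟨x, hx⟩ : X)⁻¹)⁻¹ * conjHom P X hX (g : P) (⟨x, hx⟩⁻¹) : X) : Ω) =
          x * (((g : P) : Ω) * x⁻¹ * ((g : P) : Ω)⁻¹) := by
        rw [inv_inv]
        rfl
      rwa [h5] at h4
    have h4 := Y.inv_mem h3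
    have e : (x * (((g : P) : Ω) * x⁻¹ * ((g : P) : Ω)⁻¹))⁻¹ = ⁅((g : P) : Ω), x⁆ := by
      rw [commutatorElement_def]
      group
    rwa [e] at h4
  · intro a b hab
    have := congrArg Subtype.val hab
    exact Subtype.ext (Subtype.ext this)

end Amb

end Cfsg.Agent.H785
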