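import Cfsg.Agent.H785.FifthG

/-!
# Abelian essential subgroups of order `p³` in a group of order `p⁵`: first facts (helper785)
-/

set_option autoImplicit false
set_option linter.unusedSectionVars false
set_option linter.unusedVariables false
set_option linter.style.haveILetI false

namespace Cfsg.Agent.H785

open Cfsg Cfsg.FusionSystem Cfsg.Agent.H802
open scoped commutatorElement

variable {Ω : Type*} [Group Ω] {S : Subgroup Ω} {p : ℕ} [hp : Fact p.Prime]

theorem no_gl3' {M : Type*} [Group M] [Finite M] (hcomm : ∀ x y : M, x * y = y * x)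
    (hMc : Nat.card M = p ^ 3)
    {G D T : Subgroup (MulAut M)} (hTD : T ≤ D) (hDG : D ≤ G) (hne : D ≠ G) (hTp : IsPGroup p T)
    (hTc : Nat.card T = p ^ 2)
    (hmax : ∀ B : Subgroup (MulAut M), B ≤ G → IsPGroup p B → Nat.card B ≤ Nat.card T)
    (SE : ∀ α ∈ G, α ∉ D → ∀ β ∈ T, β ≠ 1 → α * β * α⁻¹ ∉ T) : False := by
  letI : CommGroup M := { ‹Group M› with mul_comm := hcomm }
  exact no_gl3 hMc hTD hDG hne hTp hTc hmax SE

variable [Finite S] {F : FusionSystem S}

theorem Hyp.card_normalizer_three (H : Hyp p F) {A : Subgroup Ω} (hA : F.IsEssential p A)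
    (hc : Nat.card A = p ^ 3) (hcomm : ∀ x ∈ A, ∀ y ∈ A, x * y = y * x) :
    Nat.card (normalizerIn S A) = p ^ 4 := by
  have hpp := hp.out
  have hAS := hA.1.1
  have hfA : Finite A := finite_of_le hAS
  have hne := ne_of_isEssential H.hS H.hF hA
  have hNS : normalizerIn S A ≤ S := inf_le_left
  have hfN : Finite (normalizerIn S A) := finite_of_le hNS
  have h1 := card_lt_card_normalizerIn H.hS hAS hne
  have h3 := Subgroup.card_dvd_of_le hNS
  rw [H.card] at h3
  obtain ⟨k, hk, hke⟩ := (Nat.dvd_prime_pow hpp).1 h3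
  rw [hc, hke] at h1
  have h4 := (Nat.pow_lt_pow_iff_right hpp.one_lt).1 h1
  rw [hke]
  have h5 : k = 4 ∨ k = 5 := by omega
  rcases h5 with h5 | h5
  · rw [h5]
  exfalso
  rw [h5] at hke
  have hcent : centralizerIn S A = A := by
    refine le_antisymm (hA.1.2 A (isConj_refl F hAS)) fun x hx => ?_
    exact mem_centralizerIn.2 ⟨hAS hx, fun y hy => hcomm y hy x hx⟩
  have hTc : Nat.card (autInducedBy S A) = p ^ 2 := by
    have h6 := card_autInducedBy_mul S A
    rw [hcent, hc, hke] at h6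
    exact Nat.eq_of_mul_eq_mul_right (pow_pos hpp.pos 3) (by rw [h6]; ring)
  obtain ⟨D, hD1, hD2, hD3⟩ := exists_proper_of_isEssential H.hS H.hF hA
  have hrcp := isReceptive_of_isFullyNormalized H.hS H.hF hA.2.1
  have hfa := isFullyAutomized_of_isFullyNormalized H.hS H.hF hA.2.1
  have hcomm' : ∀ x y : A, x * y = y * x := fun x y => Subtype.ext (hcomm x x.2 y y.2)
  refine no_gl3' hcomm' hc (G := F.autGroup A) (D := D) (T := autInducedBy S A) ?_ hD1 hD2
    (isPGroup_autInducedBy H.hS A) hTc ?_ ?_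
  · intro δ hδ
    exact hD3 δ (autInducedBy_le_autGroup F hAS hδ)
      (extends_of_mem_autInducedBy H.hS F hAS hne hδ)
  · intro B hB hBp
    rw [hTc]
    exact card_le_of_pgroup H.hS hfa hTc B hB hBp
  · intro α hα hαD β hβ hβ1 hconj
    apply hαD
    obtain ⟨g, hg, hge⟩ := (mem_autInducedBy_iff S A β).1 hβ
    have hgA : g ∉ A := by
      intro hgA
      apply hβ1
      ext x
      rw [hge, hcomm g hgA x x.2, mul_inv_cancel_right]
      rfl
    exact hD3 α hα (extends_of_conj_mem hrcp hα hg hgA hge hconj)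

theorem exists_conj_ne {A : Subgroup Ω} (hAS : A ≤ S) (h : ¬ Nrm S A) :
    ∃ s ∈ S, ∃ x ∈ A, s * x * s⁻¹ ∉ A := by
  by_contra hcon
  push Not at hcon
  exact h fun s hs x hx => hcon s hs x hx

/-- The local data at an abelian essential subgroup of order `p³`. -/
structure Ab3 (p : ℕ) (F : FusionSystem S) (A C : Subgroup Ω) : Prop where
  ess : F.IsEssential p A
  card : Nat.card A = p ^ 3
  comm : ∀ x ∈ A, ∀ y ∈ A, x * y = y * x
  cN : Nat.card (normalizerIn S A) = p ^ 4
  cW : Nat.card (ZS (normalizerIn S A)) = p ^ 2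
  cD : Nat.card (⁅normalizerIn S A, normalizerIn S A⁆ : Subgroup Ω) = p
  sec : Sec p F A C ⊥
  CD : ∀ x ∈ C, x ∈ ⁅normalizerIn S A, normalizerIn S A⁆ → x = 1

set_option maxHeartbeats 2000000 in
theorem Hyp.exists_ab3 (H : Hyp p F) {A : Subgroup Ω} (hA : F.IsEssential p A)
    (hc : Nat.card A = p ^ 3) (hcomm : ∀ x ∈ A, ∀ y ∈ A, x * y = y * x) :
    ∃ C : Subgroup Ω, Ab3 p F A C := by
  have hpp := hp.out
  have hAS := hA.1.1
  have hfA : Finite A := finite_of_le hAS
  have hcN := H.card_normalizer_three hA hc hcomm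
  set N := normalizerIn S A with hN
  have hNS : N ≤ S := inf_le_left
  have hAN : A ≤ N := le_normalizerIn hAS
  have hfN : Finite N := finite_of_le hNS
  have hcS : Nat.card S = p * Nat.card N := by rw [H.card, hcN]; ring
  have hcNA : Nat.card N = p * Nat.card A := by rw [hcN, hc]; ring
  have hNn : Nrm S N := nrm_of_card H.hS hNS hcS
  have hNA : Nrm N A := nrm_normalizerIn S A
  have hcentA : centralizerIn S A ≤ A := hA.1.2 A (isConj_refl F hAS)
  have hnA : ¬ Nrm S A := by
    intro hn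
    have h1 := normalizerIn_eq_of_nrm hAS hn
    rw [← hN] at h1
    rw [h1, H.card] at hcN
    exact absurd (Nat.pow_right_injective hpp.two_le hcN) (by norm_num)
  have hZNA : ZS N ≤ A := by
    intro z hz
    exact hcentA (mem_centralizerIn.2 ⟨hNS (ZS_le hz), fun x hx => (mem_ZS.1 hz).2 x (hAN hx)⟩)
  have hfZN : Finite (ZS N) := finite_of_le hZNA
  have hNna : ¬ ∀ x ∈ N, ∀ y ∈ N, x * y = y * x := by
    intro h
    have := H.noab N hNS h
    rw [hcN] at this
    exact lt_irrefl _ this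
  -- `|Z(N)| = p²`
  have hcW : Nat.card (ZS N) = p ^ 2 := by
    refine le_antisymm ?_ ?_
    · refine card_lt_of_ne hc hZNA fun h1 => hNna ?_
      intro x hx y hy
      refine mul_comm_of_central (p := p) hAN hcNA (fun w hw x hx => ?_) hx hy
      rw [← h1] at hw
      exact (mem_ZS.1 hw).2 x hx
    · obtain ⟨s, hs, x₀, hx₀, hx₀'⟩ := exists_conj_ne hAS hnA
      set B := A.map (MulAut.conj s).toMonoidHom with hB
      have hmB : ∀ y, y ∈ B ↔ ∃ x ∈ A, s * x * s⁻¹ = y := fun y => Iff.rfl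
      have hBN : B ≤ N := by
        rintro _ ⟨x, hx, rfl⟩
        exact hNn s hs x (hAN hx)
      have hBc : Nat.card B = p ^ 3 := by
        rw [← hc]
        exact (Nat.card_congr (A.equivMapOfInjective _ (MulAut.conj s).injective).toEquiv).symm
      have hfB : Finite B := finite_of_le (hBN.trans hNS)
      have hBcomm : ∀ x ∈ B, ∀ y ∈ B, x * y = y * x := by
        rintro _ ⟨x, hx, rfl⟩ _ ⟨y, hy, rfl⟩
        rw [← map_mul, ← map_mul, hcomm x hx y hy]
      obtain ⟨b, hb, hbA⟩ : ∃ b ∈ B, b ∉ A := ⟨_, ⟨x₀, hx₀, rfl⟩, hx₀'⟩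
      -- `A ∩ B` is central in `N`
      have hcen : A ⊓ B ≤ ZS N := by
        rintro z ⟨hzA, hzB⟩
        rw [mem_ZS]
        refine ⟨hAN hzA, fun x hx => ?_⟩
        obtain ⟨j, hj⟩ := exists_zpow_mod hAN hNA hcNA (hBN hb) hbA hx
        have e : x = b ^ j * ((b ^ j)⁻¹ * x) := by group
        have h1 : Commute z (b ^ j) := (show Commute z b from hBcomm z hzB b hb).zpow_right j
        have h2 : Commute z ((b ^ j)⁻¹ * x) := hcomm z hzA _ hj
        have h3 := h1.mul_right h2
        rw [← e] at h3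
        exact h3.symm
      -- `|A ∩ B| ≥ p²`
      have hBn : Nrm N B := by
        have h1 : Nrm N (A.map (MulAut.conj s).toMonoidHom) := by
          rintro n hn _ ⟨x, hx, rfl⟩
          refine ⟨(s⁻¹ * n * s) * x * (s⁻¹ * n * s)⁻¹, ?_, ?_⟩
          · refine hNA _ ?_ x hx
            have := hNn s⁻¹ (S.inv_mem hs) n hn
            rwa [inv_inv] at this
          · show s * ((s⁻¹ * n * s) * x * (s⁻¹ * n * s)⁻¹) * s⁻¹ = n * (s * x * s⁻¹) * n⁻¹
            group
        exact h1
      have hBnn : (B.subgroupOf N).Normal := hBn.normal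
      have h1 : (B.subgroupOf N).relIndex (A.subgroupOf N) ∣ (B.subgroupOf N).index :=
        Subgroup.relIndex_dvd_index_of_normal _ _
      have h2 : (B.subgroupOf N).index = p := by
        have h3 := (B.subgroupOf N).card_mul_index
        rw [Nat.card_congr (Subgroup.subgroupOfEquivOfLe hBN).toEquiv, hBc, hcN, pow_succ] at h3
        exact Nat.eq_of_mul_eq_mul_left (pow_pos hpp.pos 3) h3
      rw [h2, Subgroup.relIndex_subgroupOf hAN] at h1
      have h3 : Nat.card (A ⊓ B : Subgroup Ω) * B.relIndex A = Nat.card A := by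
        have h4 := (B.subgroupOf A).card_mul_index
        have h5 : Nat.card (B.subgroupOf A) = Nat.card (A ⊓ B : Subgroup Ω) := by
          have h6 : (B.subgroupOf A) = (A ⊓ B).subgroupOf A := by
            rw [Subgroup.inf_subgroupOf_left]
          rw [h6]
          exact Nat.card_congr (Subgroup.subgroupOfEquivOfLe inf_le_left).toEquiv
        rw [h5] at h4
        exact h4
      have h4 : B.relIndex A ≤ p := Nat.le_of_dvd hpp.pos h1
      have h5 : p ^ 2 ≤ Nat.card (A ⊓ B : Subgroup Ω) := by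
        rw [hc] at h3
        by_contra hlt
        push Not at hlt
        have h6 : Nat.card (A ⊓ B : Subgroup Ω) * B.relIndex A ≤
            Nat.card (A ⊓ B : Subgroup Ω) * p := Nat.mul_le_mul le_rfl h4
        have h7 : Nat.card (A ⊓ B : Subgroup Ω) * p < p ^ 2 * p :=
          Nat.mul_lt_mul_of_pos_right hlt hpp.pos
        have h8 : p ^ 2 * p = p ^ 3 := by ring
        omega
      exact h5.trans (Nat.card_mono (Set.toFinite _) hcen)
  obtain ⟨hcD, hDW⟩ := fourth_commutator hcN hcW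
  -- the decomposition
  obtain ⟨n, hn, hnA'⟩ : ∃ n ∈ N, n ∉ A := exists_gen_of_essential H.hS H.hF hA
  obtain ⟨s, hs⟩ := exists_conjAut hn.2
  have hsS : s ∈ autInducedBy S A := conj_mem_autInducedBy hn.1 hs
  have hsA : s ∈ F.autGroup A := autInducedBy_le_autGroup F hAS hsS
  have hcent : centralizerIn S A = A := by
    refine le_antisymm hcentA fun x hx => ?_
    exact mem_centralizerIn.2 ⟨hAS hx, fun y hy => hcomm y hy x hx⟩
  have hTc : Nat.card (autInducedBy S A) = p ^ 1 := by
    have h6 := card_autInducedBy_mul S A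
    rw [hcent, hc, ← hN, hcN] at h6
    exact Nat.eq_of_mul_eq_mul_right (pow_pos hpp.pos 3) (by rw [h6]; ring)
  have hs1 : s ≠ 1 := by
    rintro rfl
    apply hnA'
    refine hcentA (mem_centralizerIn.2 ⟨hn.1, fun x hx => ?_⟩)
    have h1 := hs ⟨x, hx⟩
    rw [MulAut.one_apply] at h1
    exact (mul_inv_eq_iff_eq_mul.1 h1.symm).symm
  have hcp : Nat.card (autInducedBy S A) = p := by rw [hTc, pow_one]
  have hsp : s ^ p = 1 := by
    have h1 := pow_card_eq_one' (x := (⟨s, hsS⟩ : autInducedBy S A))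
    rw [hcp] at h1
    exact congrArg Subtype.val h1
  have hos : orderOf s = p := orderOf_eq_prime hsp hs1
  have hTz : autInducedBy S A = Subgroup.zpowers s :=
    (Subgroup.eq_of_le_of_card_ge (Subgroup.zpowers_le.2 hsS)
      (by rw [Nat.card_zpowers, hos, hcp])).symm
  have hcomm' : ∀ x y : A, x * y = y * x := fun x y => Subtype.ext (hcomm x x.2 y y.2)
  have hfa := isFullyAutomized_of_isFullyNormalized H.hS H.hF hA.2.1
  have hmemZ : ∀ x : A, x ∈ (ZS N).subgroupOf A ↔ s x = x := by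
    intro x
    rw [Subgroup.mem_subgroupOf]
    constructor
    · intro hx
      apply Subtype.ext
      rw [hs, (mem_ZS.1 hx).2 n hn, mul_inv_cancel_right]
    · intro hx
      have h1 : n * x * n⁻¹ = x := by rw [← hs, hx]
      rw [mem_ZS]
      refine ⟨hAN x.2, fun y hy => ?_⟩
      obtain ⟨j, hj⟩ := exists_zpow_mod hAN hNA hcNA hn hnA' hy
      have e : y = n ^ j * ((n ^ j)⁻¹ * y) := by group
      have h2 : Commute (x : Ω) (n ^ j) :=
        (show Commute (x : Ω) n from (mul_inv_eq_iff_eq_mul.1 h1).symm).zpow_right j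
      have h3 : Commute (x : Ω) ((n ^ j)⁻¹ * y) := hcomm x x.2 _ hj
      have h4 := h2.mul_right h3
      rw [← e] at h4
      exact h4.symm
  obtain ⟨α, hα, δ, hδ, hαδ⟩ := exists_not_normalize H.hS H.hF hA
  have hαs : α * s * α⁻¹ ∉ Subgroup.zpowers s := by
    intro h1
    apply hαδ
    rw [hTz] at hδ ⊢
    obtain ⟨j, rfl⟩ := Subgroup.mem_zpowers_iff.1 hδ
    rw [← conj_zpow]
    exact Subgroup.zpow_mem _ h1 j
  obtain ⟨V, C, D, D', dec⟩ := exists_decomp (G := F.autGroup A) hcomm' (H.hS.to_le hAS)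
    (fun B hB hBp => by
      have := card_le_of_pgroup H.hS hfa hTc B hB hBp
      rwa [pow_one] at this) hsA hos ((ZS N).subgroupOf A) hmemZ
    (by rw [Nat.card_congr (Subgroup.subgroupOfEquivOfLe hZNA).toEquiv, hcW, hc]; ring) hα hαs
  have hCc : Nat.card C = p := by
    have h1 : Nat.card A = Nat.card V * Nat.card C := by
      rw [← Nat.card_prod]
      refine (Nat.card_congr (Equiv.ofBijective (fun x : V × C => (x.1 : A) * x.2) ⟨?_, ?_⟩)).symm
      · rintro ⟨a, b⟩ ⟨c, d⟩ hab
        have h1 : (a : A) * b = c * d := hab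
        have h2 : (c : A)⁻¹ * a = d * (b : A)⁻¹ := by
          rw [inv_mul_eq_iff_eq_mul, ← mul_assoc, ← h1, mul_inv_cancel_right]
        have h3 := dec.V_inf ((c : A)⁻¹ * a) (V.mul_mem (V.inv_mem c.2) a.2)
          (h2 ▸ C.mul_mem d.2 (C.inv_mem b.2))
        have h4 : (a : A) = c := (inv_mul_eq_one.1 h3).symm
        rw [h3] at h2
        have h5 : (d : A) = b := mul_inv_eq_one.1 h2.symm
        exact Prod.ext (Subtype.ext h4) (Subtype.ext h5.symm)
      · intro x
        obtain ⟨v, hv, c, hc, rfl⟩ := dec.exists_mul x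
        exact ⟨(⟨v, hv⟩, ⟨c, hc⟩), rfl⟩
    rw [hc, dec.cardV] at h1
    exact Nat.eq_of_mul_eq_mul_left (pow_pos hpp.pos 2) (by rw [← h1]; ring)
  have hmC : ∀ x : A, (x : Ω) ∈ C.map A.subtype ↔ x ∈ C := by
    intro x
    constructor
    · rintro ⟨y, hy, hyx⟩
      have : y = x := Subtype.ext hyx
      rw [← this]
      exact hy
    · intro hx
      exact ⟨x, hx, rfl⟩
  have hCc' : Nat.card (C.map A.subtype) = p := by
    rw [← hCc]
    exact (Nat.card_congr (C.equivMapOfInjective _ A.subtype_injective).toEquiv).symm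
  -- `[N,N] = [A,s]`
  have hDN : D.map A.subtype = ⁅N, N⁆ := by
    have h1 : D.map A.subtype ≤ ⁅N, N⁆ := by
      rintro _ ⟨d, hd, rfl⟩
      obtain ⟨y, -, rfl⟩ := dec.onto d hd
      have e : A.subtype (y⁻¹ * s y) = ⁅(y : Ω)⁻¹, n⁆ := by
        show (y : Ω)⁻¹ * ((s y : A) : Ω) = _
        rw [hs, commutatorElement_def]
        group
      rw [e]
      exact Subgroup.commutator_mem_commutator (N.inv_mem (hAN y.2)) hn
    have hfD : Finite (⁅N, N⁆ : Subgroup Ω) := finite_of_le (hDW.trans (ZS_le.trans hNS))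
    refine Subgroup.eq_of_le_of_card_ge h1 ?_
    rw [hcD, ← dec.cardD]
    exact (Nat.card_congr (D.equivMapOfInjective _ A.subtype_injective).toEquiv).le
  refine ⟨C.map A.subtype, ⟨hA, hc, hcomm, hcN, hcW, hcD, ⟨hA, ?_, bot_le, ?_, ?_, ?_, ?_, ?_⟩, ?_⟩⟩
  · rintro _ ⟨x, -, rfl⟩
    exact x.2
  · intro β hβ x hx
    rw [hmC] at hx ⊢
    exact dec.C_inv β hβ x hx
  · intro β _ x hx
    exact aut_bot β x hx
  · rw [hc, hCc']; ring
  · right
    rw [hCc', Subgroup.card_bot, mul_one]
  · left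
    exact Subgroup.card_bot
  · rintro x ⟨c, hcC, rfl⟩ hxD
    rw [← hN, ← hDN] at hxD
    obtain ⟨d, hd, hdc⟩ := hxD
    have h1 : d = c := Subtype.ext hdc
    rw [h1] at hd
    have h2 := dec.V_inf c (dec.D_le hd) hcC
    rw [h2]
    rfl

end Cfsg.Agent.H785
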