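import Cfsg.Agent.H785.FifthB

/-!
# Abelian essential subgroups of order `p³` in a group of order `p⁵`: weights (helper785)
-/

set_option autoImplicit false
set_option linter.unusedSectionVars false
set_option linter.unusedVariables false
set_option linter.style.haveILetI false

namespace Cfsg.Agent.H785

open Cfsg Cfsg.FusionSystem Cfsg.Agent.H802
open scoped commutatorElement

variable {Ω : Type*} [Group Ω] {S : Subgroup Ω} {p : ℕ} [hp : Fact p.Prime] [Finite S]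
  {F : FusionSystem S}

/-- An abelian subgroup of order `p³` is self-centralizing. -/
theorem Hyp.cent_three (H : Hyp p F) {X : Subgroup Ω} (hXS : X ≤ S) (hc : Nat.card X = p ^ 3)
    (hcomm : ∀ x ∈ X, ∀ y ∈ X, x * y = y * x) : centralizerIn S X ≤ X := by
  have hpp := hp.out
  intro y hy
  by_contra hyX
  have hy' := mem_centralizerIn.1 hy
  set K := Subgroup.closure ((X : Set Ω) ∪ {y}) with hK
  have hKS : K ≤ S := by
    rw [hK, Subgroup.closure_le]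
    rintro x (hx | hx)
    · exact hXS hx
    · rw [Set.mem_singleton_iff.1 hx]
      exact hy'.1
  have hfK : Finite K := finite_of_le hKS
  have hXK : X ≤ K := fun x hx => Subgroup.subset_closure (Or.inl hx)
  have hyK : y ∈ K := Subgroup.subset_closure (Or.inr rfl)
  have hgen : ∀ a ∈ (X : Set Ω) ∪ {y}, ∀ b ∈ (X : Set Ω) ∪ {y}, a * b = b * a := by
    rintro a (ha | ha) b (hb | hb)
    · exact hcomm a ha b hb
    · rw [Set.mem_singleton_iff.1 hb]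
      exact hy'.2 a ha
    · rw [Set.mem_singleton_iff.1 ha]
      exact (hy'.2 b hb).symm
    · rw [Set.mem_singleton_iff.1 ha, Set.mem_singleton_iff.1 hb]
  have hKc : ∀ a ∈ K, ∀ b ∈ K, a * b = b * a := by
    have h1 : K ≤ Subgroup.centralizer ((X : Set Ω) ∪ {y}) := by
      rw [hK, Subgroup.closure_le]
      intro a ha
      rw [SetLike.mem_coe, Subgroup.mem_centralizer_iff]
      intro b hb
      exact hgen b hb a ha
    have h2 : K ≤ Subgroup.centralizer (K : Set Ω) := by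
      conv_lhs => rw [hK]
      rw [Subgroup.closure_le]
      intro a ha
      rw [SetLike.mem_coe, Subgroup.mem_centralizer_iff]
      intro b hb
      exact (Subgroup.mem_centralizer_iff.1 (h1 hb) a ha).symm
    intro a ha b hb
    exact (Subgroup.mem_centralizer_iff.1 (h2 hb) a ha)
  have h1 := H.noab K hKS hKc
  have h2 : Nat.card X < Nat.card K := by
    refine lt_of_le_of_ne (Nat.card_mono (Set.toFinite _) hXK) fun h => hyX ?_
    rw [Subgroup.eq_of_le_of_card_ge hXK h.ge]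
    exact hyK
  have h3 := Subgroup.card_dvd_of_le hKS
  rw [H.card] at h3
  obtain ⟨k, hk, hke⟩ := (Nat.dvd_prime_pow hpp).1 h3
  rw [hke] at h1 h2
  rw [hc] at h2
  have h4 := (Nat.pow_lt_pow_iff_right hpp.one_lt).1 h1
  have h5 := (Nat.pow_lt_pow_iff_right hpp.one_lt).1 h2
  omega

/-- The subgroups attached to an abelian essential subgroup of order `p³`. -/
structure Ns (p : ℕ) (S N A₀ W D : Subgroup Ω) : Prop where
  pg : IsPGroup p S
  NS : N ≤ S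
  cS : Nat.card S = p * Nat.card N
  nN : Nrm S N
  A₀N : A₀ ≤ N
  cN : Nat.card N = p * Nat.card A₀
  nA₀ : Nrm S A₀
  WA₀ : W ≤ A₀
  cA₀ : Nat.card A₀ = p * Nat.card W
  nW : Nrm S W
  DW : D ≤ W
  cW : Nat.card W = p * Nat.card D
  nD : Nrm S D
  cD : Nat.card D = p
  eW : W = ZS N
  eD : D = ⁅N, N⁆
  mA₀ : ∀ x, x ∈ A₀ ↔ x ∈ N ∧ ∀ s ∈ S, ⁅x, s⁆ ∈ W
  r1 : ∃ x ∈ S, ∃ y ∈ N, ⁅x, y⁆ ∉ W

theorem comm_mem_symm {Y : Subgroup Ω} {x y : Ω} (h : ⁅x, y⁆ ∈ Y) : ⁅y, x⁆ ∈ Y := by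
  rw [← commutatorElement_inv]
  exact Y.inv_mem h

theorem Ns.comm_A₀ {N A₀ W D : Subgroup Ω} (h : Ns p S N A₀ W D) {x y : Ω} (hx : x ∈ A₀)
    (hy : y ∈ A₀) : x * y = y * x := by
  have hfA₀ : Finite A₀ := finite_of_le (h.A₀N.trans h.NS)
  refine mul_comm_of_central (p := p) h.WA₀ h.cA₀ (fun w hw x hx => ?_) hx hy
  rw [h.eW] at hw
  exact (mem_ZS.1 hw).2 x (h.A₀N hx)

theorem Ns.weights {N A₀ W D : Subgroup Ω} (h : Ns p S N A₀ W D) {τ : MulAut S} {α : MulAut N}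
    (hα : ∀ (x : Ω) (hx : x ∈ N) (hx' : x ∈ S), ((τ ⟨x, hx'⟩ : S) : Ω) = (α ⟨x, hx⟩ : N)) :
    ∃ c d e f m : ℤ, Wt τ S N c ∧ Wt τ N A₀ d ∧ Wt τ A₀ W e ∧ Wt τ W D f ∧ Wt τ D ⊥ m ∧
      (p : ℤ) ∣ c * d - e ∧ (p : ℤ) ∣ d * e - m ∧
      ((∃ x ∈ S, ∃ y ∈ W, ⁅x, y⁆ ≠ 1) → (p : ℤ) ∣ c * f - m) ∧
      ((∃ x ∈ S, ∃ y ∈ A₀, ⁅x, y⁆ ∉ D) → (p : ℤ) ∣ c * e - f) := by
  have hpp := hp.out
  have hA₀S := h.A₀N.trans h.NS
  have hWN := h.WA₀.trans h.A₀N
  have hWS := h.WA₀.trans hA₀S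
  have hDN := h.DW.trans hWN
  have hDS := h.DW.trans hWS
  have hfN : Finite N := finite_of_le h.NS
  have hfA₀ : Finite A₀ := finite_of_le hA₀S
  have hfW : Finite W := finite_of_le hWS
  have hfD : Finite D := finite_of_le hDS
  -- invariance
  have iN : ∀ x : S, (x : Ω) ∈ N → ((τ x : S) : Ω) ∈ N := by
    intro x hx
    rw [hα x hx x.2]
    exact (α _).2
  have iW : ∀ x : S, (x : Ω) ∈ W → ((τ x : S) : Ω) ∈ W := by
    intro x hx
    rw [hα x (hWN hx) x.2, h.eW]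
    exact charIn_ZS N α ⟨x, hWN hx⟩ (by rw [← h.eW]; exact hx)
  have iD : ∀ x : S, (x : Ω) ∈ D → ((τ x : S) : Ω) ∈ D := by
    intro x hx
    rw [hα x (hDN hx) x.2, h.eD]
    exact charIn_commutator N α ⟨x, hDN hx⟩ (by rw [← h.eD]; exact hx)
  have iA₀ : ∀ x : S, (x : Ω) ∈ A₀ → ((τ x : S) : Ω) ∈ A₀ := by
    intro x hx
    rw [h.mA₀] at hx ⊢
    refine ⟨iN x hx.1, fun s hs => ?_⟩
    have h1 := hx.2 _ (τ⁻¹ ⟨s, hs⟩).2
    have h2 : ((⁅x, τ⁻¹ ⟨s, hs⟩⁆ : S) : Ω) ∈ W := h1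
    have h3 := iW _ h2
    rw [coe_commutator_apply, MulAut.apply_inv_self] at h3
    exact h3
  have cD' : Nat.card D = p * Nat.card (⊥ : Subgroup Ω) := by
    rw [h.cD, Subgroup.card_bot, mul_one]
  obtain ⟨c, hc⟩ := exists_wt (τ := τ) le_rfl h.NS h.nN h.cS (fun x _ => (τ x).2) iN
  obtain ⟨d, hd⟩ := exists_wt (τ := τ) h.NS h.A₀N (h.nA₀.mono h.NS) h.cN iN iA₀
  obtain ⟨e, he⟩ := exists_wt (τ := τ) hA₀S h.WA₀ (h.nW.mono hA₀S) h.cA₀ iA₀ iW
  obtain ⟨f, hf⟩ := exists_wt (τ := τ) hWS h.DW (h.nD.mono hWS) h.cW iW iD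
  obtain ⟨m, hm⟩ := exists_wt (τ := τ) hDS bot_le (nrm_bot _) cD' iD
    (fun x hx => by
      rw [Subgroup.mem_bot] at hx ⊢
      have : x = 1 := Subtype.ext hx
      rw [this, map_one]
      rfl)
  -- commutator facts
  have kNN : ∀ x ∈ N, ∀ y ∈ N, ⁅x, y⁆ ∈ D := fun x hx y hy => by
    rw [h.eD]
    exact Subgroup.commutator_mem_commutator hx hy
  have kWN : ∀ w ∈ W, ∀ y ∈ N, y * w = w * y := fun w hw y hy => by
    rw [h.eW] at hw
    exact (mem_ZS.1 hw).2 y hy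
  have kSA : ∀ x ∈ S, ∀ y ∈ A₀, ⁅x, y⁆ ∈ W := fun x hx y hy =>
    comm_mem_symm (((h.mA₀ y).1 hy).2 x hx)
  have kSW : ∀ x ∈ S, ∀ y ∈ W, ⁅x, y⁆ ∈ D := fun x hx y hy =>
    comm_mem_of_index' h.pg h.nW h.nD h.DW hWS (Or.inr h.cW) hy hx
  have kSD : ∀ x ∈ S, ∀ y ∈ D, ⁅x, y⁆ ∈ (⊥ : Subgroup Ω) := fun x hx y hy =>
    comm_mem_of_index' h.pg h.nD (nrm_bot S) bot_le hDS (Or.inr cD') hy hx
  have one : ∀ {x y : Ω}, x * y = y * x → ⁅x, y⁆ ∈ (⊥ : Subgroup Ω) := fun h => by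
    rw [Subgroup.mem_bot]
    exact commutatorElement_eq_one_iff_mul_comm.2 h
  refine ⟨c, d, e, f, m, hc, hd, he, hf, hm, ?_, ?_, ?_, ?_⟩
  · obtain ⟨x, hx, y, hy, hxy⟩ := h.r1
    refine Wt.rule h.nW hc hd he le_rfl h.NS h.A₀N (fun u hu y hy => h.DW (kNN u hu y hy)) kSA
      (fun z hz s hs => ((h.mA₀ z).1 hz).2 s hs)
      (fun z hz => pow_mem_of_card (h.nW.mono hA₀S) h.WA₀ h.cA₀ hz) hx hy ?_ hxy
    exact comm_mem_of_index' h.pg h.nN h.nA₀ h.A₀N h.NS (Or.inr h.cN) hy hx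
  · obtain ⟨x, hx, y, hy, hxy⟩ : ∃ x ∈ N, ∃ y ∈ A₀, ⁅x, y⁆ ∉ (⊥ : Subgroup Ω) := by
      by_contra hcon
      push Not at hcon
      have h1 : A₀ ≤ W := by
        intro z hz
        rw [h.eW]
        refine mem_ZS.2 ⟨h.A₀N hz, fun x hx => ?_⟩
        have := hcon x hx z hz
        rwa [Subgroup.mem_bot, commutatorElement_eq_one_iff_mul_comm] at this
      have h2 : Nat.card A₀ ≤ Nat.card W := Nat.card_mono (Set.toFinite _) h1
      rw [h.cA₀] at h2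
      have h3 : 0 < Nat.card W := Nat.card_pos
      nlinarith [hpp.one_lt]
    exact Wt.rule (nrm_bot S) hd he hm h.NS hA₀S h.WA₀ (fun u hu y hy => one (h.comm_A₀ hu hy))
      (fun x hx v hv => one (kWN v hv x hx))
      (fun z hz s hs => comm_mem_symm (kSD s hs z hz))
      (fun z hz => pow_mem_of_card (nrm_bot _) bot_le cD' hz) hx hy (kNN x hx y (h.A₀N hy)) hxy
  · rintro ⟨x, hx, y, hy, hxy⟩
    exact Wt.rule (nrm_bot S) hc hf hm le_rfl hWS h.DW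
      (fun u hu y hy => one (kWN y hy u hu)) kSD
      (fun z hz s hs => comm_mem_symm (kSD s hs z hz))
      (fun z hz => pow_mem_of_card (nrm_bot _) bot_le cD' hz) hx hy (kSW x hx y hy)
      (by rw [Subgroup.mem_bot]; exact hxy)
  · rintro ⟨x, hx, y, hy, hxy⟩
    exact Wt.rule h.nD hc he hf le_rfl hA₀S h.WA₀ (fun u hu y hy => kNN u hu y (h.A₀N hy)) kSW
      (fun z hz s hs => comm_mem_symm (kSW s hs z hz))
      (fun z hz => pow_mem_of_card (h.nD.mono hWS) h.DW h.cW hz) hx hy (kSA x hx y hy) hxy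

/-- `N_S(A)` is not essential. -/
theorem Hyp.ab3_not_essential (H : Hyp p F) {A C : Subgroup Ω} (h : Ab3 p F A C) :
    ¬ F.IsEssential p (normalizerIn S A) := by
  intro hNe
  have hpp := hp.out
  have hAS := h.ess.1.1
  have hfA : Finite A := finite_of_le hAS
  set N := normalizerIn S A with hN
  have hNS : N ≤ S := inf_le_left
  have hAN : A ≤ N := le_normalizerIn hAS
  have hfN : Finite N := finite_of_le hNS
  have hcS : Nat.card S = p * Nat.card N := by rw [H.card, h.cN]; ring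
  have hNn : Nrm S N := nrm_of_card H.hS hNS hcS
  have hcent := h.ess.1.2 A (isConj_refl F hAS)
  have hZNA : ZS N ≤ A := by
    intro z hz
    exact hcent (mem_centralizerIn.2 ⟨hNS (ZS_le hz), fun x hx => (mem_ZS.1 hz).2 x (hAN hx)⟩)
  have hfW : Finite (ZS N) := finite_of_le (hZNA.trans hAS)
  obtain ⟨h', hZ', hD'⟩ := H.four hNe h.cN
  obtain ⟨g, hg, hgN⟩ := h'.exists_gen H.hS H.hF
  obtain ⟨L, hWL, hLN, hLc, -, hLg, hmv, -⟩ := h'.exists_torus_aux H.hS H.hF hg hgN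
  have hfL : Finite L := finite_of_le (hLN.trans hNS)
  have hcAW : Nat.card A = p * Nat.card (ZS N) := by rw [h.card, h.cW]; ring
  have hWn : Nrm S (ZS N) := (charIn_ZS N).nrm_of ZS_le hNn
  obtain ⟨x, hx, hxW⟩ : ∃ x ∈ A, x ∉ ZS N := by
    by_contra hcon
    push Not at hcon
    have h1 : Nat.card A ≤ Nat.card (ZS N) := Nat.card_mono (Set.toFinite _) hcon
    rw [hcAW] at h1
    have h3 : 0 < Nat.card (ZS N) := Nat.card_pos
    nlinarith [hpp.one_lt]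
  obtain ⟨β, hβ, hβx⟩ := hmv ⟨x, hAN hx⟩
  -- `β(A) = L`
  have hφ := restrict_mem ((mem_autGroup_iff F hNS β).1 hβ) hAN
  set φ := (N.subtype.comp β.toMonoidHom).comp (Subgroup.inclusion hAN) with hφd
  have hφe : ∀ a : A, φ a = (β ⟨a, hAN a.2⟩ : N) := fun a => rfl
  have hle : φ.range ≤ L := by
    rintro _ ⟨a, rfl⟩
    obtain ⟨j, hj⟩ := exists_zpow_mod hZNA (hWn.mono hAS) hcAW hx hxW a.2
    have e : (⟨a, hAN a.2⟩ : N) = ⟨x, hAN hx⟩ ^ j * ⟨(x ^ j)⁻¹ * a, hAN (hZNA hj)⟩ := by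
      apply Subtype.ext
      show (a : Ω) = x ^ j * ((x ^ j)⁻¹ * a)
      group
    rw [hφe, e, map_mul, map_zpow, Subgroup.coe_mul, Subgroup.coe_zpow]
    exact L.mul_mem (L.zpow_mem hβx j) (hWL (charIn_ZS N β _ hj))
  have hcon : F.IsConj A φ.range := isConj_range hφ
  have hrL : φ.range = L := by
    refine Subgroup.eq_of_le_of_card_ge hle ?_
    rw [hLc, ← isConj_card_eq hcon, hcAW]
  rw [hrL] at hcon
  -- `L` is normal in `S`
  have hK : aK S L (ZS N) hWn = S := by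
    refine eq_of_between (p := p) (Z := N) ?_ aK_le hcS ?_
    · intro n hn
      exact ⟨hNS hn, fun y hy => comm_mem_of_card_sq (p := p) (nrm_ZS N) ZS_le
        (by rw [h.cN, h.cW]; ring) hn (hLN hy)⟩
    · intro h1
      apply hgN
      rw [← h1]
      exact ⟨hg.1, fun y hy => (hLg y (hLN hy)).2 hy⟩
  have hLn : Nrm S L := by
    intro s hs y hy
    rw [← hK] at hs
    have e : s * y * s⁻¹ = ⁅s, y⁆ * y := by rw [commutatorElement_def]; group
    rw [e]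
    exact L.mul_mem (hWL (hs.2 y hy)) hy
  have h1 := h.ess.2.1.2 L hcon
  rw [normalizerIn_eq_of_nrm (hLN.trans hNS) hLn, h.cN, H.card] at h1
  exact absurd ((Nat.pow_le_pow_iff_right hpp.one_lt).1 h1) (by norm_num)

/-- Extension of automorphisms of `A`. -/
theorem Hyp.ab3_ext (H : Hyp p F) {A C : Subgroup Ω} (h : Ab3 p F A C) {γ : MulAut A}
    (hγ : γ ∈ F.autGroup A) (hn : ∀ δ ∈ autInducedBy S A, γ * δ * γ⁻¹ ∈ autInducedBy S A) :
    ∃ α ∈ F.autGroup (normalizerIn S A), ∃ β ∈ F.autGroup S,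
      (∀ (x : Ω) (hx : x ∈ normalizerIn S A) (hx' : x ∈ S),
        ((β ⟨x, hx'⟩ : S) : Ω) = (α ⟨x, hx⟩ : normalizerIn S A)) ∧
      ∀ (x : Ω) (hx : x ∈ A) (hx' : x ∈ S), ((β ⟨x, hx'⟩ : S) : Ω) = (γ ⟨x, hx⟩ : A) := by
  have hAS := h.ess.1.1
  have hNS : normalizerIn S A ≤ S := inf_le_left
  have hAN : A ≤ normalizerIn S A := le_normalizerIn hAS
  obtain ⟨α, hα, e₁⟩ := exists_aut_normalizerIn
    (isReceptive_of_isFullyNormalized H.hS H.hF h.ess.2.1) hγ hn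
  obtain ⟨β, hβ, e₂⟩ := H.ext_top_of_index (isCentric_of_le h.ess.1 hAN hNS) h.cN
    (H.ab3_not_essential h) hα
  exact ⟨α, hα, β, hβ, e₂, fun x hx hx' => by rw [e₂ x (hAN hx) hx', e₁ x hx (hAN hx)]⟩

theorem Hyp.ab3_extTop (H : Hyp p F) {A C : Subgroup Ω} (h : Ab3 p F A C) : ExtTop F A := by
  intro γ hγ hn
  obtain ⟨-, -, β, hβ, -, h2⟩ := H.ab3_ext h hγ hn
  exact ⟨β, hβ, h2⟩

end Cfsg.Agent.H785
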