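import Cfsg.Agent.H785.FifthC

/-!
# Abelian essential subgroups of order `p³` in a group of order `p⁵`: then `p = 3` (helper785)
-/

set_option autoImplicit false
set_option linter.unusedSectionVars false
set_option linter.unusedVariables false
set_option linter.style.haveILetI false

namespace Cfsg.Agent.H785

open Cfsg Cfsg.FusionSystem Cfsg.Agent.H802
open scoped commutatorElement

variable {Ω : Type*} [Group Ω] {S : Subgroup Ω} {p : ℕ} [hp : Fact p.Prime]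

theorem Wt.congr {τ : MulAut S} {U V : Subgroup Ω} [Finite U] {k k' : ℤ} (h : Wt τ U V k)
    (hVU : V ≤ U) (hV : Nrm U V) (hc : Nat.card U = p * Nat.card V) (hk : (p : ℤ) ∣ k - k') :
    Wt τ U V k' := by
  obtain ⟨j, hj⟩ := hk
  intro x hx
  have h1 := h x hx
  have h2 : (x : Ω) ^ (k - k') ∈ V := by
    rw [hj, zpow_mul, zpow_natCast]
    exact V.zpow_mem (pow_mem_of_card hV hVU hc hx) j
  have h3 := V.mul_mem h2 h1
  have e : (x : Ω) ^ (k - k') * (((x : Ω) ^ k)⁻¹ * (τ x : S)) = ((x : Ω) ^ k')⁻¹ * (τ x : S) := by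
    rw [← mul_assoc, ← zpow_neg, ← zpow_neg, ← zpow_add]
    congr 2
    ring
  rwa [e] at h3

/-- A minimal step inside a section on which a `p`-group acts. -/
theorem exists_next_in {P X Y : Subgroup Ω} [Finite P] [Finite X] (hP : IsPGroup p P)
    (hX : Nrm P X) (hY : Nrm P Y) (hXY : Nrm X Y) (hle : Y ≤ X)
    (hc : p ∣ Nat.card (X ⧸ Y.subgroupOf X)) :
    ∃ K : Subgroup Ω, Y ≤ K ∧ K ≤ X ∧ Nat.card K = p * Nat.card Y ∧
      ∀ k ∈ K, ∀ g ∈ P, ⁅k, g⁆ ∈ Y := by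
  have hn : (Y.subgroupOf X).Normal := hXY.normal
  set N := Y.subgroupOf X with hN
  have hinv : ∀ (g : P), ∀ x ∈ N, conjHom P X hX g x ∈ N := fun g x hx => hY g g.2 x hx
  obtain ⟨h, hho, hfix⟩ := exists_fixed_group hP (quotAct (conjHom P X hX) N hinv) hc
  set K₀ := (Subgroup.zpowers h).comap (QuotientGroup.mk' N) with hK₀
  refine ⟨K₀.map X.subtype, ?_, ?_, ?_, ?_⟩
  · intro y hy
    refine ⟨⟨y, hle hy⟩, ?_, rfl⟩
    have h0 : (QuotientGroup.mk' N) ⟨y, hle hy⟩ = 1 := (QuotientGroup.eq_one_iff _).2 hy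
    have h1 : (QuotientGroup.mk' N) ⟨y, hle hy⟩ ∈ Subgroup.zpowers h := by
      rw [h0]
      exact Subgroup.one_mem _
    exact h1
  · rintro _ ⟨k, -, rfl⟩
    exact k.2
  · have h1 : Nat.card (K₀.map X.subtype) = Nat.card K₀ :=
      Nat.card_congr (K₀.equivMapOfInjective _ X.subtype_injective).symm.toEquiv
    have h2 : Nat.card N = Nat.card Y := by
      rw [hN]
      exact Nat.card_congr (Subgroup.subgroupOfEquivOfLe hle).toEquiv
    rw [h1, hK₀, card_comap_mk, Nat.card_zpowers, hho, h2]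
  · rintro _ ⟨k, hk, rfl⟩ g hg
    obtain ⟨i, hi⟩ := Subgroup.mem_zpowers_iff.1 hk
    have h1 : quotAct (conjHom P X hX) N hinv ⟨g, hg⟩ (QuotientGroup.mk' N k) =
        QuotientGroup.mk' N k := by
      rw [← hi, map_zpow, hfix]
    have h2 : QuotientGroup.mk' N (conjHom P X hX ⟨g, hg⟩ k) = QuotientGroup.mk' N k := h1
    have h3 : QuotientGroup.mk' N (k * (conjHom P X hX ⟨g, hg⟩ k)⁻¹) = 1 := by
      rw [map_mul, map_inv, h2, mul_inv_cancel]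
    have h4 : (k * (conjHom P X hX ⟨g, hg⟩ k)⁻¹ : X) ∈ N := (QuotientGroup.eq_one_iff _).1 h3
    have h5 : ((k * (conjHom P X hX ⟨g, hg⟩ k)⁻¹ : X) : Ω) ∈ Y := h4
    rw [Subgroup.coe_mul, Subgroup.coe_inv, coe_conjHom] at h5
    have e : (k : Ω) * (g * k * g⁻¹)⁻¹ = ⁅(k : Ω), g⁆ := by
      rw [commutatorElement_def]
      group
    rw [e] at h5
    exact h5

variable [Finite S] {F : FusionSystem S}

theorem Ab3.not_nrm {A C : Subgroup Ω} (H : Hyp p F) (h : Ab3 p F A C) : ¬ Nrm S A := by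
  intro hn
  have h1 := normalizerIn_eq_of_nrm h.ess.1.1 hn
  have h2 := h.cN
  rw [h1, H.card] at h2
  exact absurd (Nat.pow_right_injective hp.out.two_le h2) (by norm_num)

theorem Ab3.center_le {A C : Subgroup Ω} (h : Ab3 p F A C) : ZS (normalizerIn S A) ≤ A := by
  have hAS := h.ess.1.1
  have hNS : normalizerIn S A ≤ S := inf_le_left
  intro z hz
  exact h.ess.1.2 A (isConj_refl F hAS) (mem_centralizerIn.2 ⟨hNS (ZS_le hz), fun x hx =>
    (mem_ZS.1 hz).2 x (le_normalizerIn hAS hx)⟩)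

/-- The subgroups `A₀ ≥ W ≥ D`. -/
theorem Hyp.exists_ns (H : Hyp p F) {A C : Subgroup Ω} (h : Ab3 p F A C) : ∃ A₀ : Subgroup Ω,
    Ns p S (normalizerIn S A) A₀ (ZS (normalizerIn S A))
      ⁅normalizerIn S A, normalizerIn S A⁆ := by
  have hpp := hp.out
  have hAS := h.ess.1.1
  have hfA : Finite A := finite_of_le hAS
  have hNA := h.not_nrm H
  have hZA := h.center_le
  have hcN := h.cN
  have hcW := h.cW
  have hcD := h.cD
  set N := normalizerIn S A with hN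
  have hNS : N ≤ S := inf_le_left
  have hAN : A ≤ N := le_normalizerIn hAS
  have hfN : Finite N := finite_of_le hNS
  have hcS : Nat.card S = p * Nat.card N := by rw [H.card, hcN]; ring
  have nN : Nrm S N := nrm_of_card H.hS hNS hcS
  set W := ZS N with hW
  have hWN : W ≤ N := ZS_le
  have hWS := hWN.trans hNS
  have hfW : Finite W := finite_of_le hWS
  have nW : Nrm S W := (charIn_ZS N).nrm_of hWN nN
  set D : Subgroup Ω := ⁅N, N⁆ with hD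
  obtain ⟨-, hDW⟩ := fourth_commutator hcN hcW
  have hDN : D ≤ N := hDW.trans hWN
  have nD : Nrm S D := (charIn_commutator N).nrm_of hDN nN
  set A₀ : Subgroup Ω := N ⊓ up S W nW with hA₀
  have hA₀N : A₀ ≤ N := inf_le_left
  have hfA₀ : Finite A₀ := finite_of_le (hA₀N.trans hNS)
  have hm : ∀ x, x ∈ A₀ ↔ x ∈ N ∧ ∀ s ∈ S, ⁅x, s⁆ ∈ W := by
    intro x
    rw [hA₀, Subgroup.mem_inf, mem_up]
    exact ⟨fun hx => ⟨hx.1, hx.2.2⟩, fun hx => ⟨hx.1, hNS hx.1, hx.2⟩⟩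
  have hWA₀ : W ≤ A₀ := le_inf hWN (le_up hWS)
  have hne : A₀ ≠ N := by
    intro h1
    obtain ⟨s, hs, x, hx, hxA⟩ := exists_conj_ne hAS hNA
    apply hxA
    have h2 : x ∈ A₀ := by rw [h1]; exact hAN hx
    have h3 := ((hm x).1 h2).2 s hs
    have e : s * x * s⁻¹ = ⁅x, s⁆⁻¹ * x := by rw [commutatorElement_def]; group
    rw [e]
    exact A.mul_mem (A.inv_mem (hZA h3)) hx
  have hcNW : Nat.card N = p ^ 2 * Nat.card W := by rw [hcN, hcW]; ring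
  have hcA₀ : Nat.card A₀ = p ^ 3 := by
    refine le_antisymm (card_lt_of_ne hcN hA₀N hne) ?_
    obtain ⟨K, h1, h2, h3, h4⟩ := exists_next_in (p := p) H.hS nN nW (nW.mono hNS) hWN (by
      have h1 := (W.subgroupOf N).card_mul_index
      rw [Nat.card_congr (Subgroup.subgroupOfEquivOfLe hWN).toEquiv, hcNW, mul_comm] at h1
      have h2 : Nat.card (N ⧸ W.subgroupOf N) = p ^ 2 :=
        Nat.eq_of_mul_eq_mul_right Nat.card_pos h1
      rw [h2]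
      exact dvd_pow_self p two_ne_zero)
    have h5 : K ≤ A₀ := fun k hk => (hm k).2 ⟨h2 hk, fun s hs => h4 k hk s hs⟩
    have h6 : Nat.card K ≤ Nat.card A₀ := Nat.card_mono (Set.toFinite _) h5
    rw [h3, hcW] at h6
    calc p ^ 3 = p * p ^ 2 := by ring
      _ ≤ _ := h6
  refine ⟨A₀, ⟨H.hS, hNS, hcS, nN, hA₀N, by rw [hcN, hcA₀]; ring, nrm_of_le_up hWA₀ inf_le_right,
    hWA₀, by rw [hcA₀, hcW]; ring, nW, hDW, by rw [hcW, hcD]; ring, nD, hcD, rfl, rfl, hm, ?_⟩⟩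
  by_contra hcon
  push Not at hcon
  exact hne (le_antisymm hA₀N fun x hx => (hm x).2 ⟨hx, fun s hs => comm_mem_symm (hcon s hs x hx)⟩)

/-- Tori and their weights. -/
theorem Hyp.ab3_torus (H : Hyp p F) {A C A₀ W D : Subgroup Ω} (h : Ab3 p F A C)
    (hN : Ns p S (normalizerIn S A) A₀ W D) {l l' : ℤ} (hl : (p : ℤ) ∣ l * l' - 1) :
    ∃ τ ∈ F.autGroup S, ∃ c d e f m : ℤ, Wt τ S (normalizerIn S A) c ∧
      Wt τ (normalizerIn S A) A₀ d ∧ (p : ℤ) ∣ c * d - e ∧ (p : ℤ) ∣ d * e - m ∧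
      ((∃ x ∈ S, ∃ y ∈ W, ⁅x, y⁆ ≠ 1) → (p : ℤ) ∣ c * f - m) ∧
      ((∃ x ∈ S, ∃ y ∈ A₀, ⁅x, y⁆ ∉ D) → (p : ℤ) ∣ c * e - f) ∧
      (p : ℤ) ∣ d - l' ∧ (p : ℤ) ∣ m - l ∧ (p : ℤ) ∣ f - 1 := by
  have hpp := hp.out
  have hAS := h.ess.1.1
  have hfA : Finite A := finite_of_le hAS
  have hnA := h.not_nrm H
  have hZA := h.center_le
  have hCD := h.CD
  have hext : ∀ {γ : MulAut A}, γ ∈ F.autGroup A →
      (∀ δ ∈ autInducedBy S A, γ * δ * γ⁻¹ ∈ autInducedBy S A) →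
      ∃ α ∈ F.autGroup (normalizerIn S A), ∃ β ∈ F.autGroup S,
      (∀ (x : Ω) (hx : x ∈ normalizerIn S A) (hx' : x ∈ S),
        ((β ⟨x, hx'⟩ : S) : Ω) = (α ⟨x, hx⟩ : normalizerIn S A)) ∧
      ∀ (x : Ω) (hx : x ∈ A) (hx' : x ∈ S), ((β ⟨x, hx'⟩ : S) : Ω) = (γ ⟨x, hx⟩ : A) :=
    fun hγ hn => H.ab3_ext h hγ hn
  obtain ⟨g, hg, hgA⟩ := h.sec.exists_gen H.hS H.hF
  obtain ⟨L, hCL, hLA, hLc, -, hLg, htor⟩ := h.sec.exists_torus H.hS H.hF hg hgA
  set N := normalizerIn S A with hNd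
  have hNS : N ≤ S := inf_le_left
  have hAN : A ≤ N := le_normalizerIn hAS
  have hfN : Finite N := finite_of_le hNS
  have hCc : Nat.card C = p := by
    have h1 := h.sec.cardQ
    rw [h.card] at h1
    exact Nat.eq_of_mul_eq_mul_left (pow_pos hpp.pos 2) (by rw [← h1]; ring)
  have hfL : Finite L := finite_of_le (hLA.trans hAS)
  have hfC : Finite C := finite_of_le (hCL.trans (hLA.trans hAS))
  have hcW := h.cW
  rw [← hN.eW] at hcW hZA
  rw [← hN.eD] at hCD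
  have hWL : W = L := by
    refine Subgroup.eq_of_le_of_card_ge (fun w hw => ?_) (by rw [hLc, hCc, hcW, sq])
    refine (hLg w (hZA hw)).1 ?_
    have hw' : w ∈ ZS N := by rw [← hN.eW]; exact hw
    rw [commutatorElement_eq_one_iff_mul_comm.2 ((mem_ZS.1 hw').2 g hg)]
    exact C.one_mem
  have hfA₀ : Finite A₀ := finite_of_le (hN.A₀N.trans hNS)
  have hfW : Finite W := finite_of_le (hN.WA₀.trans (hN.A₀N.trans hNS))
  have hfD : Finite D := finite_of_le (hN.DW.trans (hN.WA₀.trans (hN.A₀N.trans hNS)))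
  have hWS : W ≤ S := hN.WA₀.trans (hN.A₀N.trans hNS)
  have hDS : D ≤ S := hN.DW.trans hWS
  -- elements
  obtain ⟨x₁, hx₁, hx₁'⟩ : ∃ x ∈ A, x ∉ A₀ := by
    by_contra hcon
    push Not at hcon
    apply hnA
    have h1 : A = A₀ := Subgroup.eq_of_le_of_card_ge hcon (by
      rw [hN.cA₀, hcW, h.card]; exact (by ring : p * p ^ 2 = p ^ 3).le)
    rw [h1]
    exact hN.nA₀
  have hD1 : 1 < Nat.card D := by rw [hN.cD]; exact hpp.one_lt
  obtain ⟨x₂, hx₂, hx₂'⟩ := (Subgroup.one_lt_card_iff_ne_bot D).1 hD1 |> fun hb =>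
    (Subgroup.ne_bot_iff_exists_ne_one (H := D)).1 hb |> fun ⟨a, ha⟩ =>
      (⟨(a : Ω), a.2, fun h => ha (Subtype.ext h)⟩ : ∃ x ∈ D, x ≠ 1)
  have hC1 : 1 < Nat.card C := by rw [hCc]; exact hpp.one_lt
  obtain ⟨x₃, hx₃, hx₃'⟩ := (Subgroup.one_lt_card_iff_ne_bot C).1 hC1 |> fun hb =>
    (Subgroup.ne_bot_iff_exists_ne_one (H := C)).1 hb |> fun ⟨a, ha⟩ =>
      (⟨(a : Ω), a.2, fun h => ha (Subtype.ext h)⟩ : ∃ x ∈ C, x ≠ 1)
  obtain ⟨t, ht, htn, ht1, ht2, -⟩ := htor l l' hl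
  obtain ⟨α, hα, τ, hτ, hτα, hτt⟩ := hext (h.sec.tri_le ht) htn
  obtain ⟨c, d, e, f, m, hc, hd, he, hf, hm, r1, r2, r3, r4⟩ := hN.weights hτα
  refine ⟨τ, hτ, c, d, e, f, m, hc, hd, r1, r2, r3, r4, ?_, ?_, ?_⟩
  · -- d ≡ l'
    refine wt_eq_of_mem hNS hN.A₀N (hN.nA₀.mono hNS) hN.cN hd (hAN hx₁) hx₁' ?_
    rw [hτt x₁ hx₁]
    have := ht1 ⟨x₁, hx₁⟩
    rw [← hWL] at this
    exact hN.WA₀ this
  · -- m ≡ l
    have hx₂A : x₂ ∈ A := hZA (hN.DW hx₂)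
    have cD' : Nat.card D = p * Nat.card (⊥ : Subgroup Ω) := by
      rw [hN.cD, Subgroup.card_bot, mul_one]
    refine wt_eq_of_mem hDS bot_le (nrm_bot _) cD' hm hx₂ (by rwa [Subgroup.mem_bot]) ?_
    have h1 : (x₂ ^ l)⁻¹ * ((t ⟨x₂, hx₂A⟩ : A) : Ω) ∈ C := by
      refine ht2 ⟨x₂, hx₂A⟩ ?_
      rw [← hWL]
      exact hN.DW hx₂
    rw [← hτt x₂ hx₂A (hDS hx₂)] at h1
    have h2 : ((τ ⟨x₂, hDS hx₂⟩ : S) : Ω) ∈ D := by
      have hx₂N : x₂ ∈ N := hAN hx₂A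
      rw [hτα x₂ hx₂N, hN.eD]
      exact charIn_commutator N α ⟨x₂, hx₂N⟩ (by rw [← hN.eD]; exact hx₂)
    rw [Subgroup.mem_bot]
    exact hCD _ h1 (D.mul_mem (D.inv_mem (D.zpow_mem hx₂ l)) h2)
  · -- f ≡ 1
    have hx₃L : x₃ ∈ L := hCL hx₃
    have hx₃A : x₃ ∈ A := hLA hx₃L
    have hx₃W : x₃ ∈ W := by rw [hWL]; exact hx₃L
    refine wt_eq_of_mem hWS hN.DW (hN.nD.mono hWS) hN.cW hf hx₃W (fun hx => hx₃' (hCD _ hx₃ hx)) ?_
    rw [hτt x₃ hx₃A]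
    have h1 := (h.sec.mem_tri.1 ht).2.1 ⟨x₃, hx₃A⟩ hx₃
    have h2 : (x₃ ^ (1 : ℤ))⁻¹ * ((t ⟨x₃, hx₃A⟩ : A) : Ω) = 1 := by
      rw [zpow_one]
      rw [Subgroup.mem_bot] at h1
      exact h1
    rw [h2]
    exact D.one_mem

/-- An abelian essential subgroup of order `p³`: then `p = 3`. -/
theorem Hyp.ab3_facts (H : Hyp p F) {A C A₀ W D : Subgroup Ω} (h : Ab3 p F A C)
    (hN : Ns p S (normalizerIn S A) A₀ W D) :
    p = 3 ∧ (∀ x ∈ S, ∀ y ∈ A₀, ⁅x, y⁆ ∈ D) ∧ (∃ x ∈ S, ∃ y ∈ W, ⁅x, y⁆ ≠ 1) ∧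
      ∃ τ ∈ F.autGroup S, Wt τ S (normalizerIn S A) (-1) ∧ Wt τ (normalizerIn S A) A₀ (-1) := by
  have hpp := hp.out
  have hpz : Prime (p : ℤ) := Nat.prime_iff_prime_int.1 hpp
  have hNS : normalizerIn S A ≤ S := inf_le_left
  have hA₀S : A₀ ≤ S := hN.A₀N.trans hNS
  have hWS : W ≤ S := hN.WA₀.trans hA₀S
  have hfN : Finite (normalizerIn S A) := finite_of_le hNS
  have hfA₀ : Finite A₀ := finite_of_le hA₀S
  have hfW : Finite W := finite_of_le hWS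
  have hfD : Finite D := finite_of_le (hN.DW.trans hWS)
  have hcW := h.cW
  rw [← hN.eW] at hcW
  obtain ⟨τ, hτ, c, d, e, f, m, hc, hd, r1, r2, r3, r4, k1, k2, k3⟩ :=
    H.ab3_torus h hN (l := -1) (l' := -1) (by simp)
  have he1 : (p : ℤ) ∣ e - 1 := by
    have e1 : e - 1 = (d - -1) * e - (d * e - m) - (m - -1) := by ring
    rw [e1]
    exact dvd_sub (dvd_sub (Dvd.dvd.mul_right k1 _) r2) k2
  have hc1 : (p : ℤ) ∣ c - -1 := by
    have e1 : c - -1 = c * (d - -1) - (c * d - e) - (e - 1) := by ring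
    rw [e1]
    exact dvd_sub (dvd_sub (Dvd.dvd.mul_left k1 _) r1) he1
  have h2 : ¬ (p : ℤ) ∣ 2 := by
    intro h2
    have h3 : p ∣ 2 := by exact_mod_cast h2
    exact H.p2 ((Nat.prime_dvd_prime_iff_eq hpp Nat.prime_two).1 h3)
  have hstar : ∀ x ∈ S, ∀ y ∈ A₀, ⁅x, y⁆ ∈ D := by
    by_contra hcon
    push Not at hcon
    have h3 := r4 hcon
    apply h2
    have e1 : (2 : ℤ) = (c - -1) * e - (c * e - f) - (f - 1) - (e - 1) := by ring
    rw [e1]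
    exact dvd_sub (dvd_sub (dvd_sub (Dvd.dvd.mul_right hc1 _) h3) k3) he1
  have hW1 : ∃ x ∈ S, ∃ y ∈ W, ⁅x, y⁆ ≠ 1 := by
    by_contra hcon
    push Not at hcon
    obtain ⟨a, ha, haW⟩ : ∃ a ∈ A₀, a ∉ W := by
      by_contra hcon
      push Not at hcon
      have h1 : Nat.card A₀ ≤ Nat.card W := Nat.card_mono (Set.toFinite _) hcon
      rw [hN.cA₀] at h1
      have h3 : 0 < Nat.card W := Nat.card_pos
      nlinarith [hpp.one_lt]
    have h1 := card_le_comm (A := S) (B := D) (x := a) (fun s hs => comm_mem_symm (hstar s hs a ha))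
    have h3 : cz S a ≤ A₀ := by
      refine le_trans ?_ (H.cent_three hA₀S (by rw [hN.cA₀, hcW]; ring)
        (fun x hx y hy => hN.comm_A₀ hx hy))
      intro s hs
      rw [mem_cz] at hs
      refine mem_centralizerIn.2 ⟨hs.1, fun x hx => ?_⟩
      obtain ⟨j, hj⟩ := exists_zpow_mod hN.WA₀ (hN.nW.mono hA₀S) hN.cA₀ ha haW hx
      have e : x = a ^ j * ((a ^ j)⁻¹ * x) := by group
      have h4 : Commute s (a ^ j) := (show Commute s a from hs.2).zpow_right j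
      have h5 : Commute s ((a ^ j)⁻¹ * x) :=
        commutatorElement_eq_one_iff_mul_comm.1 (hcon s hs.1 _ hj)
      have h6 := h4.mul_right h5
      rw [← e] at h6
      exact h6.symm.eq
    have h4 : Nat.card (cz S a) ≤ Nat.card A₀ := Nat.card_mono (Set.toFinite _) h3
    rw [H.card, hN.cD] at h1
    rw [hN.cA₀, hcW] at h4
    have h5 : p ^ 5 ≤ p ^ 4 := h1.trans (le_trans (Nat.mul_le_mul le_rfl h4)
      (by ring_nf; exact le_rfl))
    exact absurd ((Nat.pow_le_pow_iff_right hpp.one_lt).1 h5) (by norm_num)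
  refine ⟨?_, hstar, hW1, τ, hτ, ?_, ?_⟩
  · obtain ⟨k, hk⟩ := hpp.odd_of_ne_two H.p2
    have hk' : (p : ℤ) = 2 * k + 1 := by exact_mod_cast hk
    obtain ⟨τ, hτ, c, d, e, f, m, -, -, r1, r2, r3, -, k1, k2, k3⟩ :=
      H.ab3_torus h hN (l := 2) (l' := (k : ℤ) + 1) (by
        have : (2 : ℤ) * ((k : ℤ) + 1) - 1 = (p : ℤ) := by rw [hk']; ring
        rw [this])
    have r3 := r3 hW1
    -- 2 d ≡ 1, c ≡ 2, e ≡ 4
    have a1 : (p : ℤ) ∣ 2 * d - 1 := by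
      have e1 : 2 * d - 1 = 2 * (d - ((k : ℤ) + 1)) + p := by rw [hk']; ring
      rw [e1]
      exact dvd_add (Dvd.dvd.mul_left k1 _) dvd_rfl
    have a2 : (p : ℤ) ∣ c - 2 := by
      have e1 : c - 2 = (c * f - m) + (m - 2) - c * (f - 1) := by ring
      rw [e1]
      exact dvd_sub (dvd_add r3 k2) (Dvd.dvd.mul_left k3 _)
    have a3 : (p : ℤ) ∣ e - 4 := by
      have e1 : e - 4 = 2 * (d * e - m) + 2 * (m - 2) - e * (2 * d - 1) := by ring
      rw [e1]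
      exact dvd_sub (dvd_add (Dvd.dvd.mul_left r2 _) (Dvd.dvd.mul_left k2 _))
        (Dvd.dvd.mul_left a1 _)
    have a4 : (p : ℤ) ∣ 3 := by
      have e1 : (3 : ℤ) = (c - 2) * d + (2 * d - 1) - (c * d - e) - (e - 4) := by ring
      rw [e1]
      exact dvd_sub (dvd_sub (dvd_add (Dvd.dvd.mul_right a2 _) a1) r1) a3
    have a5 : p ∣ 3 := by exact_mod_cast a4
    exact (Nat.prime_dvd_prime_iff_eq hpp Nat.prime_three).1 a5
  · exact hc.congr hNS hN.nN hN.cS hc1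
  · exact hd.congr hN.A₀N (hN.nA₀.mono hNS) hN.cN k1

end Cfsg.Agent.H785
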