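import Cfsg.Agent.H785.FifthM

/-!
# Nonabelian essential subgroups of order `p³`, essential subgroups of order `p²` (helper785)
-/

set_option autoImplicit false
set_option linter.unusedSectionVars false
set_option linter.unusedVariables false
set_option linter.style.haveILetI false

namespace Cfsg.Agent.H785

open Cfsg Cfsg.FusionSystem Cfsg.Agent.H802
open scoped commutatorElement

variable {Ω : Type*} [Group Ω] {S : Subgroup Ω} {p : ℕ} [hp : Fact p.Prime] [Finite S]
  {F : FusionSystem S}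

theorem mem_normalizer_of_conj {Q : Subgroup Ω} [Finite Q] {g : Ω} (h : ∀ x ∈ Q, g * x * g⁻¹ ∈ Q) :
    g ∈ Subgroup.normalizer (Q : Set Ω) := by
  have hmap : Q.map (MulAut.conj g).toMonoidHom = Q := by
    refine Subgroup.eq_of_le_of_card_ge ?_ ?_
    · rintro _ ⟨x, hx, rfl⟩
      exact h x hx
    · exact (Nat.card_congr (Q.equivMapOfInjective _ (MulAut.conj g).injective).toEquiv).le
  rw [Subgroup.mem_normalizer_iff]
  intro x
  refine ⟨h x, fun hx => ?_⟩
  rw [← hmap] at hx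
  obtain ⟨y, hy, hye⟩ := hx
  have : y = x := (MulAut.conj g).injective hye
  rw [← this]
  exact hy

theorem mem_normalizerIn_of_comm {Q : Subgroup Ω} (hQS : Q ≤ S) {g : Ω} (hg : g ∈ S)
    (h : ∀ x ∈ Q, ⁅g, x⁆ ∈ Q) : g ∈ normalizerIn S Q := by
  have hfQ : Finite Q := finite_of_le hQS
  refine ⟨hg, mem_normalizer_of_conj fun x hx => ?_⟩
  have e : g * x * g⁻¹ = ⁅g, x⁆ * x := by rw [commutatorElement_def]; group
  rw [e]
  exact Q.mul_mem (h x hx) hx

theorem normalizerIn_eq_of_nrm {N : Subgroup Ω} (hNS : N ≤ S) (hN : Nrm S N) :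
    normalizerIn S N = S := by
  have hfN : Finite N := finite_of_le hNS
  exact le_antisymm inf_le_left fun s hs => ⟨hs, mem_normalizer_of_conj (hN s hs)⟩

theorem isFullyNormalized_of_nrm (F : FusionSystem S) {N : Subgroup Ω} (hNS : N ≤ S)
    (hN : Nrm S N) : F.IsFullyNormalized N := by
  refine ⟨hNS, fun Q hQ => ?_⟩
  rw [normalizerIn_eq_of_nrm hNS hN]
  exact Nat.card_mono (Set.toFinite _) (inf_le_left : normalizerIn S Q ≤ S)

theorem nrm_of_card (hS : IsPGroup p S) {N : Subgroup Ω} (hNS : N ≤ S)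
    (hc : Nat.card S = p * Nat.card N) : Nrm S N := by
  have hfN : Finite N := finite_of_le hNS
  have hne : N ≠ S := by
    rintro rfl
    have h3 : 0 < Nat.card N := Nat.card_pos
    nlinarith [hp.out.one_lt]
  have h1 := card_lt_card_normalizerIn hS hNS hne
  have h2 : normalizerIn S N = S := by
    refine eq_of_between (p := p) (Z := N) (le_normalizerIn hNS) inf_le_left hc fun h => ?_
    rw [h] at h1
    exact lt_irrefl _ h1
  have h3 := nrm_normalizerIn S N
  rwa [h2] at h3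

theorem Hyp.ext_top_of_index (H : Hyp p F) {N : Subgroup Ω} (hc : F.IsCentric N)
    (hN : Nat.card N = p ^ 4) (hne : ¬ F.IsEssential p N) {α : MulAut N} (hα : α ∈ F.autGroup N) :
    ∃ β ∈ F.autGroup S, ∀ (x : Ω) (hx : x ∈ N) (hx' : x ∈ S),
      ((β ⟨x, hx'⟩ : S) : Ω) = (α ⟨x, hx⟩ : N) := by
  have hNS := hc.1
  have hcS : Nat.card S = p * Nat.card N := by rw [H.card, hN]; ring
  have hn := nrm_of_card H.hS hNS hcS
  have h1 := normalizerIn_eq_of_nrm hNS hn
  have h2 := ext_step H.hS H.hF (isFullyNormalized_of_nrm F hNS hn) hc hne (by rw [h1, hcS]) hα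
  rw [h1] at h2
  exact h2

/-- Recognition of groups of maximal class. -/
theorem Hyp.mc_of (H : Hyp p F) {X₂ X₃ : Subgroup Ω} (h1 : Nat.card (ZS S) = p)
    (hX₂ : X₂ ≤ S) (hX₃ : X₃ ≤ S) (c2 : Nat.card X₂ = p ^ 3) (c3 : Nat.card X₃ = p ^ 4)
    (h2 : z2 S ≤ X₂) (n2 : z2 S ≠ X₂) (h3 : z3 S ≤ X₃) (n3 : z3 S ≠ X₃) : MC p S := by
  have hpp := hp.out
  have hfX₂ : Finite X₂ := finite_of_le hX₂
  have hfX₃ : Finite X₃ := finite_of_le hX₃
  have hf2 : Finite (z2 S) := finite_of_le z2_le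
  have hf3 : Finite (z3 S) := finite_of_le z3_le
  have k2 : Nat.card (z2 S) = p ^ 2 := by
    refine le_antisymm (card_lt_of_ne c2 h2 n2) ?_
    obtain ⟨K, hK1, hK2, hK3⟩ := exists_next H.hS (nrm_ZS S) ZS_le (fun h => by
      rw [h, H.card] at h1
      have h4 : p ^ 1 < p ^ 5 := Nat.pow_lt_pow_right hpp.one_lt (by norm_num)
      rw [pow_one] at h4
      omega)
    have h4 : Nat.card K ≤ Nat.card (z2 S) := Nat.card_mono (Set.toFinite _) hK2
    rw [hK3, h1] at h4
    rw [sq]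
    exact h4
  refine ⟨H.hS, H.card, h1, k2, ?_, H.noab⟩
  refine le_antisymm (card_lt_of_ne c3 h3 n3) ?_
  obtain ⟨K, hK1, hK2, hK3⟩ := exists_next H.hS (nrm_z2 (S := S)) z2_le (fun h => by
    rw [h, H.card] at k2
    have h4 : p ^ 2 < p ^ 5 := Nat.pow_lt_pow_right hpp.one_lt (by norm_num)
    omega)
  have h4 : Nat.card K ≤ Nat.card (z3 S) := Nat.card_mono (Set.toFinite _) hK2
  rw [hK3, k2] at h4
  have e : p * p ^ 2 = p ^ 3 := by ring
  rwa [e] at h4

theorem nrm_of_between_z3 {E : Subgroup Ω} (h1 : z2 S ≤ E) (h2 : E ≤ z3 S) : Nrm S E :=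
  nrm_of_le_up h1 h2

/-- The centre of a nonabelian group of order `p³`. -/
theorem card_ZS_cube {E : Subgroup Ω} [Finite E] (hE : IsPGroup p E) (hc : Nat.card E = p ^ 3)
    (hna : ¬ ∀ x ∈ E, ∀ y ∈ E, x * y = y * x) : Nat.card (ZS E) = p := by
  have hpp := hp.out
  have hfZ : Finite (ZS E) := Finite.of_injective _ (Subgroup.inclusion_injective ZS_le)
  have hZc : ∀ w ∈ ZS E, ∀ x ∈ E, x * w = w * x := fun w hw => (mem_ZS.1 hw).2
  have h1 := Subgroup.card_dvd_of_le (ZS_le (S := E))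
  rw [hc] at h1
  obtain ⟨k, hk, hke⟩ := (Nat.dvd_prime_pow hpp).1 h1
  interval_cases k
  · exfalso
    have hnt : Nontrivial E := by
      rw [← Finite.one_lt_card_iff_nontrivial, hc]
      exact Nat.one_lt_pow (by norm_num) hpp.one_lt
    have h2 := hE.center_nontrivial
    rw [← Finite.one_lt_card_iff_nontrivial, ← card_ZS, hke] at h2
    simp at h2
  · rw [hke, pow_one]
  · exact absurd (fun x hx y hy => mul_comm_of_central (p := p) (ZS_le (S := E))
      (by rw [hc, hke]; ring) hZc hx hy) hna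
  · exact absurd (fun x hx y hy => by
      have h2 : ZS E = E := Subgroup.eq_of_le_of_card_ge ZS_le (by rw [hc, hke])
      rw [← h2] at hy
      exact hZc y hy x hx) hna

/-- There is no nonabelian essential subgroup of order `p³`. -/
theorem Hyp.three_nonab (H : Hyp p F) {E : Subgroup Ω} (hE : F.IsEssential p E)
    (hc : Nat.card E = p ^ 3) (hna : ¬ ∀ x ∈ E, ∀ y ∈ E, x * y = y * x) : False := by
  have hpp := hp.out
  have hES := hE.1.1
  have hfE : Finite E := finite_of_le hES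
  have hfZS : Finite (ZS S) := finite_of_le ZS_le
  have hfZE : Finite (ZS E) := finite_of_le ZS_le
  have hZE := card_ZS_cube (H.hS.to_le hES) hc hna
  have h : Sec p F E (ZS E) ⊥ :=
    { ess := hE
      ZQ := ZS_le
      YZ := bot_le
      invZ := fun α _ => charIn_ZS E α
      invY := fun α _ x hx => by
        rw [Subgroup.mem_bot] at hx ⊢
        have : x = 1 := Subtype.ext hx
        rw [this, map_one]
        rfl
      cardQ := by rw [hc, hZE]; ring
      cardZ := Or.inr (by rw [hZE, Subgroup.card_bot, mul_one])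
      cardY := Or.inl Subgroup.card_bot }
  have hZZ : ZS S = ZS E := by
    refine Subgroup.eq_of_le_of_card_ge (Hyp.ZS_le_of_centric hE.1) ?_
    rw [hZE]
    exact H.one_lt_card_ZS
  have hZS : Nat.card (ZS S) = p := by rw [hZZ, hZE]
  set N := normalizerIn S E with hN
  have hNS : N ≤ S := inf_le_left
  have hEN : E ≤ N := le_normalizerIn hES
  have hfN : Finite N := finite_of_le hNS
  have hNc : Nat.card N = p ^ 4 := by rw [hN, h.card_normalizer H.hS H.hF, hc]; ring
  have hnE : ¬ Nrm S E := by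
    intro hn
    have h1 := normalizerIn_eq_of_nrm hES hn
    rw [← hN] at h1
    rw [h1, H.card] at hNc
    exact absurd (Nat.pow_right_injective hpp.two_le hNc) (by norm_num)
  have h2 : z2 S ≤ E := by
    intro z hz
    refine h.mem_of_comm H.hS (z2_le hz) fun x hx => ?_
    rw [← hZZ]
    exact (mem_up.1 hz).2 x (hES hx)
  have n2 : z2 S ≠ E := fun h1 => hnE (h1 ▸ nrm_z2)
  have h3 : z3 S ≤ N := by
    intro z hz
    exact mem_normalizerIn_of_comm hES (z3_le hz) fun x hx => h2 ((mem_up.1 hz).2 x (hES hx))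
  have n3 : z3 S ≠ N := fun h1 => hnE (nrm_of_between_z3 h2 (by rw [h1]; exact hEN))
  have hMC := H.mc_of hZS hES hNS hc hNc h2 n2 h3 n3
  -- `N` is not essential
  have hNcen : F.IsCentric N := isCentric_of_le hE.1 hEN hNS
  have hZN : Nat.card (ZS N) = p := by
    have hfZN : Finite (ZS N) := finite_of_le ZS_le
    refine le_antisymm ?_ ?_
    · rw [← hZE]
      refine Nat.card_mono (Set.toFinite _) fun z hz => ?_
      replace hz := mem_ZS.1 hz
      have hzE : z ∈ E := h.cent (mem_centralizerIn.2 ⟨hNS hz.1, fun x hx => hz.2 x (hEN hx)⟩)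
      exact mem_ZS.2 ⟨hzE, fun x hx => hz.2 x (hEN hx)⟩
    · rw [← hZS]
      exact Nat.card_mono (Set.toFinite _) (Hyp.ZS_le_of_centric hNcen)
  have hNne := not_essential_of_center H.hS H.hF hNS hNc hZN
  -- the torus element
  obtain ⟨g, hg, hgE⟩ := h.exists_gen H.hS H.hF
  obtain ⟨L, -, -, -, -, -, htor⟩ := h.exists_torus H.hS H.hF hg hgE
  obtain ⟨t, ht, htn, -, -, htZ⟩ := htor (-1) (-1) (by simp)
  replace htZ := htZ rfl rfl
  obtain ⟨t₁, ht₁, ht₁e⟩ := exists_aut_normalizerIn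
    (isReceptive_of_isFullyNormalized H.hS H.hF hE.2.1) (h.tri_le ht) htn
  obtain ⟨τ, hτ, hτe⟩ := H.ext_top_of_index hNcen hNc hNne ht₁
  have hτE : ∀ x : E, ((τ ⟨x, hES x.2⟩ : S) : Ω) = (t x : E) := by
    intro x
    rw [hτe x (hEN x.2) (hES x.2), ht₁e x x.2 (hEN x.2)]
  obtain ⟨a, b, e, ha, -, he, -, hea, hna'⟩ := hMC.weights τ
  -- a ≡ -1
  obtain ⟨x₀, hx₀, hx₀G⟩ : ∃ x ∈ E, x ∉ gam S := by
    by_contra hcon
    push Not at hcon
    have h4 : z2 S ≤ ZS E := by
      intro z hz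
      exact mem_ZS.2 ⟨h2 hz, fun x hx => hMC.z2_cen hz (hcon x hx)⟩
    have h5 : Nat.card (z2 S) ≤ Nat.card (ZS E) := Nat.card_mono (Set.toFinite _) h4
    rw [hMC.c2, hZE] at h5
    nlinarith [hpp.one_lt]
  have hfS : Finite S := inferInstance
  have ha1 : (p : ℤ) ∣ a - (-1) := by
    refine wt_eq_of_mem le_rfl gam_le nrm_gam hMC.card_S ha (hES hx₀) hx₀G ?_
    rw [hτE ⟨x₀, hx₀⟩, zpow_neg_one, inv_inv]
    refine hMC.z2_le_gam (ZS_le_z2 ?_)
    rw [hZZ]
    exact htZ ⟨x₀, hx₀⟩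
  -- e ≡ 1
  have he1 : (p : ℤ) ∣ e - 1 := by
    obtain ⟨z, hz, hz1⟩ : ∃ z ∈ ZS S, z ≠ 1 := by
      by_contra hcon
      push Not at hcon
      have : ZS S = ⊥ := by
        rw [eq_bot_iff]
        exact fun z hz => Subgroup.mem_bot.2 (hcon z hz)
      rw [this, Subgroup.card_bot] at hZS
      exact hpp.one_lt.ne hZS
    refine wt_eq_of_mem ZS_le bot_le (nrm_bot _) (by rw [hZS, Subgroup.card_bot, mul_one]) he hz
      (by rwa [Subgroup.mem_bot]) ?_
    have hzE : z ∈ ZS E := by rw [← hZZ]; exact hz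
    have h4 := ht.2.1 ⟨z, ZS_le hzE⟩ hzE
    rw [zpow_one, hτE ⟨z, ZS_le hzE⟩]
    exact h4
  -- contradiction
  have hpz : Prime (p : ℤ) := Nat.prime_iff_prime_int.1 hpp
  have h5 : (p : ℤ) ∣ 2 := by
    have e1 : (2 : ℤ) = (a ^ 4 - a ^ 3 + a ^ 2 - a + 1) * (a - (-1)) + (e - a ^ 5) - (e - 1) := by
      ring
    rw [e1]
    exact dvd_sub (dvd_add (Dvd.dvd.mul_left ha1 _) hea) he1
  have h6 : p ∣ 2 := by exact_mod_cast h5
  exact H.p2 ((Nat.prime_dvd_prime_iff_eq hpp Nat.prime_two).1 h6)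

end Cfsg.Agent.H785
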