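import Cfsg.Agent.H785.FifthN

/-!
# `[Q, Aut_F(Q)] ≤ [S, Aut_F(S)] [S,S]` for `p` odd (helper785)
-/

set_option autoImplicit false
set_option linter.unusedSectionVars false
set_option linter.unusedVariables false
set_option linter.style.haveILetI false

namespace Cfsg.Agent.H785

open Cfsg Cfsg.FusionSystem Cfsg.Agent.H802
open scoped commutatorElement

variable {Ω : Type*} [Group Ω] {S : Subgroup Ω} {p : ℕ} [hp : Fact p.Prime] [Finite S]
  {F : FusionSystem S}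

/-- The elements of `Aut_F(Q)` normalizing `Aut_S(Q)` extend to `Aut_F(S)`. -/
def ExtTop (F : FusionSystem S) (Q : Subgroup Ω) : Prop :=
  ∀ γ ∈ F.autGroup Q, (∀ δ ∈ autInducedBy S Q, γ * δ * γ⁻¹ ∈ autInducedBy S Q) →
    ∃ α ∈ F.autGroup S, ∀ (x : Ω) (hx : x ∈ Q) (hx' : x ∈ S),
      ((α ⟨x, hx'⟩ : S) : Ω) = (γ ⟨x, hx⟩ : Q)

theorem nrm_of_commutator_le {R : Subgroup Ω} (hRS : R ≤ S) (hR : ⁅S, S⁆ ≤ R) : Nrm S R := by
  intro g hg r hr
  have e : g * r * g⁻¹ = ⁅g, r⁆ * r := by rw [commutatorElement_def]; group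
  rw [e]
  exact R.mul_mem (hR (Subgroup.commutator_mem_commutator hg (hRS hr))) hr

theorem Sec.exists_gen (hS : IsPGroup p S) (hF : F.IsSaturated p) {Q Z Y : Subgroup Ω}
    (h : Sec p F Q Z Y) : ∃ g ∈ normalizerIn S Q, g ∉ Q := by
  by_contra hcon
  push Not at hcon
  have h1 := card_lt_card_normalizerIn hS h.QS (ne_of_isEssential hS hF h.ess)
  have h2 : normalizerIn S Q = Q := le_antisymm hcon (le_normalizerIn h.QS)
  rw [h2] at h1
  exact lt_irrefl _ h1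

/-- If `R` contains `[S,S]`, `[S, Aut_F(S)]` and `Y`, then it contains `[Q, Aut_F(Q)]`. -/
theorem Sec.foc (hS : IsPGroup p S) (hF : F.IsSaturated p) (hp2 : p ≠ 2) {Q Z Y : Subgroup Ω}
    (h : Sec p F Q Z Y) {R : Subgroup Ω} (hRS : R ≤ S) (hR : ⁅S, S⁆ ≤ R)
    (hβ : ∀ β ∈ F.autGroup S, ∀ x : S, (x : Ω)⁻¹ * (β x : S) ∈ R) (hY : Y ≤ R)
    (hext : ExtTop F Q) : ∀ α ∈ F.autGroup Q, ∀ x : Q, (x : Ω)⁻¹ * (α x : Q) ∈ R := by
  have hpp := hp.out
  have hQS := h.QS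
  have hfQ : Finite Q := finite_of_le hQS
  have hRn : Nrm S R := nrm_of_commutator_le hRS hR
  obtain ⟨g, hg, hgQ⟩ := h.exists_gen hS hF
  obtain ⟨L, -, -, -, -, -, htor⟩ := h.exists_torus hS hF hg hgQ
  obtain ⟨t, ht, htn, -, -, htZ⟩ := htor (-1) (-1) (by simp)
  replace htZ := htZ rfl rfl
  obtain ⟨τ, hτ, hτe⟩ := hext t (h.tri_le ht) htn
  have htR : ∀ x : Q, (x : Ω)⁻¹ * (t x : Q) ∈ R := by
    intro x
    have h1 := hβ τ hτ ⟨x, hQS x.2⟩
    rwa [hτe x x.2 (hQS x.2)] at h1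
  -- step 1: elements of `tri`
  have key : ∀ k ∈ h.tri, ∀ x : Q, (x : Ω)⁻¹ * (k x : Q) ∈ R := by
    intro k hk
    -- k t k⁻¹ = c_q t
    have hcom : k * t * k⁻¹ * t⁻¹ ∈ Inn Q := by
      refine h.mem_inn_of_chain hS (h.tri.mul_mem (h.tri.mul_mem (h.tri.mul_mem hk ht)
        (h.tri.inv_mem hk)) (h.tri.inv_mem ht)) fun x => ?_
      set y := t⁻¹ x with hy
      have hxy : x = t y := by rw [hy, MulAut.apply_inv_self]
      have h1 : (k * t * k⁻¹ * t⁻¹) x = k (t (k⁻¹ y)) := by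
        rw [MulAut.mul_apply, MulAut.mul_apply, MulAut.mul_apply, ← hy]
      rw [h1]
      -- y * t y ∈ Z and y * k (t (k⁻¹ y)) ∈ Z
      have h2 : ((y * t y : Q) : Ω) ∈ Z := htZ y
      have h3 : ((y * k (t (k⁻¹ y)) : Q) : Ω) ∈ Z := by
        have h6 : k (k⁻¹ y * t (k⁻¹ y)) = y * k (t (k⁻¹ y)) := by
          rw [map_mul, MulAut.apply_inv_self]
        rw [← h6]
        exact h.invZ k (h.tri_le hk) (k⁻¹ y * t (k⁻¹ y)) (htZ (k⁻¹ y))
      have e : x⁻¹ * k (t (k⁻¹ y)) = (y * t y)⁻¹ * (y * k (t (k⁻¹ y))) := by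
        rw [hxy]
        group
      rw [e]
      exact Z.mul_mem (Z.inv_mem h2) h3
    obtain ⟨q, hq⟩ := hcom
    have hkt : ∀ y : Q, k (t (k⁻¹ y)) = q * t y * q⁻¹ := by
      intro y
      have h1 := congrArg (fun f : MulAut Q => f (t y)) hq
      have h2 : q * t y * q⁻¹ = (k * t * k⁻¹ * t⁻¹) (t y) := h1
      rw [h2, MulAut.mul_apply, MulAut.mul_apply, MulAut.mul_apply, MulAut.inv_apply_self]
    -- the kernel of `x ↦ x⁻¹ k(x)` modulo `R`
    let W : Subgroup Q :=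
      { carrier := {x | (x : Ω)⁻¹ * (k x : Q) ∈ R}
        one_mem' := by simp
        mul_mem' := by
          intro x y hx hy
          have e : (((x * y : Q) : Ω))⁻¹ * (k (x * y) : Q) =
              ((y : Ω)⁻¹ * ((x : Ω)⁻¹ * (k x : Q)) * ((y : Ω)⁻¹)⁻¹) * ((y : Ω)⁻¹ * (k y : Q)) := by
            rw [map_mul, Subgroup.coe_mul, Subgroup.coe_mul]
            group
          show (((x * y : Q) : Ω))⁻¹ * (k (x * y) : Q) ∈ R
          rw [e]
          exact R.mul_mem (hRn _ (S.inv_mem (hQS y.2)) _ hx) hy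
        inv_mem' := by
          intro x hx
          have e : (((x⁻¹ : Q) : Ω))⁻¹ * (k x⁻¹ : Q) =
              (x : Ω) * ((x : Ω)⁻¹ * (k x : Q))⁻¹ * (x : Ω)⁻¹ := by
            rw [map_inv, Subgroup.coe_inv, Subgroup.coe_inv]
            group
          show (((x⁻¹ : Q) : Ω))⁻¹ * (k x⁻¹ : Q) ∈ R
          rw [e]
          exact hRn _ (hQS x.2) _ (R.inv_mem hx) }
    have hW : ∀ x : Q, x ∈ W ↔ (x : Ω)⁻¹ * (k x : Q) ∈ R := fun x => Iff.rfl
    have hZW : ∀ z : Q, (z : Ω) ∈ Z → z ∈ W := by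
      intro z hz
      rw [hW]
      exact hY (hk.2.1 z hz)
    have htW : ∀ x : Q, t x * x⁻¹ ∈ W := by
      intro x
      rw [hW]
      have h1 : ((t x * x⁻¹ : Q) : Ω) ∈ R := by
        have h2 := hRn _ (hQS x.2) _ (htR x)
        have e : (x : Ω) * ((x : Ω)⁻¹ * (t x : Q)) * (x : Ω)⁻¹ = ((t x * x⁻¹ : Q) : Ω) := by
          rw [Subgroup.coe_mul, Subgroup.coe_inv]
          group
        rwa [e] at h2
      have h3 : ((k (t x * x⁻¹) : Q) : Ω) ∈ R := by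
        set y := k x with hy
        have hxy : x = k⁻¹ y := by rw [hy, MulAut.inv_apply_self]
        have h4 : k (t x * x⁻¹) = q * t y * q⁻¹ * y⁻¹ := by
          rw [map_mul, map_inv, ← hy, ← hkt, ← hxy]
        rw [h4]
        have e : ((q * t y * q⁻¹ * y⁻¹ : Q) : Ω) =
            ⁅(q : Ω), ((t y : Q) : Ω)⁆ * ((y : Ω) * ((y : Ω)⁻¹ * (t y : Q)) * (y : Ω)⁻¹) := by
          simp only [Subgroup.coe_mul, Subgroup.coe_inv, commutatorElement_def]
          group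
        rw [e]
        exact R.mul_mem (hR (Subgroup.commutator_mem_commutator (hQS q.2) (hQS (t y).2)))
          (hRn _ (hQS y.2) _ (htR y))
      exact R.mul_mem (R.inv_mem h1) h3
    have hsq : ∀ x : Q, x ^ 2 ∈ W := by
      intro x
      -- t x x⁻¹ = x⁻¹ (x t x) x⁻¹
      have h1 := htW x
      have h2 : (((x * (x * t x) * x⁻¹ : Q)) : Ω) ∈ Z := by
        have := h.nrmZ x x.2 _ (htZ x)
        rw [Subgroup.coe_mul, Subgroup.coe_mul, Subgroup.coe_mul, Subgroup.coe_inv]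
        exact this
      have h3 := hZW _ h2
      have e : x ^ 2 = (x * (x * t x) * x⁻¹) * (t x * x⁻¹)⁻¹ := by
        rw [sq]
        group
      rw [e]
      exact W.mul_mem h3 (W.inv_mem h1)
    have hWtop : ∀ x : Q, x ∈ W := by
      intro x
      obtain ⟨n, hn⟩ := hS.to_le hQS x
      have hodd : Odd (p ^ n) := (hpp.odd_of_ne_two hp2).pow
      obtain ⟨m, hm⟩ := hodd
      have e : x = (x ^ 2) ^ (m + 1) := by
        rw [← pow_mul]
        have : 2 * (m + 1) = p ^ n + 1 := by omega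
        rw [this, pow_succ, hn, one_mul]
      rw [e]
      exact W.pow_mem (hsq x) _
    exact fun x => (hW x).1 (hWtop x)
  -- step 2: Frattini
  intro α hα x
  have hSK : autInducedBy S Q ≤ h.tri := by
    intro δ hδ
    obtain ⟨n, hn⟩ := isPGroup_autInducedBy hS Q ⟨δ, hδ⟩
    exact h.mem_tri_of_pow (autInducedBy_le_autGroup F hQS hδ) (congrArg Subtype.val hn)
  obtain ⟨k, hk, hkn⟩ := frattini_tri hS hF h.ess.2.1 h.tri_le (fun a ha k hk => h.conj_tri ha hk)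
    hSK hα
  obtain ⟨β, hβ1, hβe⟩ := hext (k * α) (mul_mem (h.tri_le hk) hα) hkn
  have h1 := hβ β hβ1 ⟨x, hQS x.2⟩
  rw [hβe x x.2 (hQS x.2)] at h1
  have h2 := key k⁻¹ (h.tri.inv_mem hk) ((k * α) x)
  have h3 : k⁻¹ ((k * α) x) = α x := by rw [MulAut.mul_apply, MulAut.inv_apply_self]
  rw [h3] at h2
  have h4 := R.mul_mem h1 h2
  have e : (x : Ω)⁻¹ * (((k * α) x : Q) : Ω) * ((((k * α) x : Q) : Ω)⁻¹ * ((α x : Q) : Ω)) =
      (x : Ω)⁻¹ * ((α x : Q) : Ω) := by group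
  have h5 : ((k * α) ⟨(x : Ω), x.2⟩ : Q) = (k * α) x := rfl
  rw [h5] at h4
  rwa [e] at h4

end Cfsg.Agent.H785
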