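import Cfsg.Agent.H785.FifthP

/-!
# Strongly embedded subgroups and groups of order `p³` (helper785)

A group of automorphisms of an abelian group of order `p³` with Sylow `p`-subgroups of order `p²` has no strongly
`p`-embedded subgroup.
-/

set_option autoImplicit false
set_option linter.unusedSectionVars false
set_option linter.unusedVariables false
set_option linter.style.haveILetI false

namespace Cfsg.Agent.H785

open Cfsg Cfsg.FusionSystem Cfsg.Agent.H802
open scoped commutatorElement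

variable {p : ℕ} [hp : Fact p.Prime]

/-- Fixed points of a `p`-group acting on a group of order divisible by `p`. -/
theorem exists_fixed_group {P U : Type*} [Group P] [Finite P] [Group U] [Finite U]
    (hP : IsPGroup p P) (f : P →* MulAut U) (hU : p ∣ Nat.card U) :
    ∃ h : U, orderOf h = p ∧ ∀ g, f g h = h := by
  letI : MulAction P U := MulAction.compHom U f
  let Fx : Subgroup U :=
    { carrier := {x | ∀ g, f g x = x}
      one_mem' := fun g => map_one _
      mul_mem' := fun {x y} hx hy g => by rw [map_mul, hx g, hy g]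
      inv_mem' := fun {x} hx g => by rw [map_inv, hx g] }
  have h1 := hP.card_modEq_card_fixedPoints U
  have h2 : p ∣ Nat.card Fx := by
    have h3 : Nat.card Fx = Nat.card (MulAction.fixedPoints P U) := rfl
    rw [h3]
    have h4 : Nat.card (MulAction.fixedPoints P U) ≡ 0 [MOD p] := by
      refine h1.symm.trans ?_
      exact Nat.modEq_zero_iff_dvd.2 hU
    exact Nat.modEq_zero_iff_dvd.1 h4
  obtain ⟨h, hh⟩ := exists_prime_orderOf_dvd_card' p h2
  exact ⟨h, by rw [← hh]; exact Subgroup.orderOf_coe h, h.2⟩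

section Chain

variable {M : Type*} [CommGroup M]

/-- The stabilizer of the chain `M ≥ E ≥ D ≥ 1`. -/
def chainP (D E : Subgroup M) (hDE : D ≤ E) : Subgroup (MulAut M) where
  carrier := {k | (∀ x ∈ D, k x = x) ∧ (∀ x ∈ E, x⁻¹ * k x ∈ D) ∧ ∀ x, x⁻¹ * k x ∈ E}
  one_mem' := ⟨fun x _ => rfl, fun x _ => by simp, fun x => by simp⟩
  mul_mem' := by
    rintro k l ⟨hk1, hk2, hk3⟩ ⟨hl1, hl2, hl3⟩
    refine ⟨fun x hx => ?_, fun x hx => ?_, fun x => ?_⟩
    · rw [MulAut.mul_apply, hl1 x hx, hk1 x hx]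
    · have e : x⁻¹ * (k * l) x = (x⁻¹ * l x) * ((l x)⁻¹ * k (l x)) := by
        rw [MulAut.mul_apply]; group
      rw [e]
      have h1 : l x ∈ E := by
        have h2 := E.mul_mem hx (hDE (hl2 x hx))
        rwa [mul_inv_cancel_left] at h2
      exact D.mul_mem (hl2 x hx) (hk2 _ h1)
    · have e : x⁻¹ * (k * l) x = (x⁻¹ * l x) * ((l x)⁻¹ * k (l x)) := by
        rw [MulAut.mul_apply]; group
      rw [e]
      exact E.mul_mem (hl3 x) (hk3 _)
  inv_mem' := by
    rintro k ⟨hk1, hk2, hk3⟩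
    have hE : ∀ x ∈ E, k⁻¹ x ∈ E := by
      intro x hx
      have h1 := E.inv_mem (hk3 (k⁻¹ x))
      rw [MulAut.apply_inv_self, mul_inv_rev, inv_inv] at h1
      have h2 := E.mul_mem hx h1
      rwa [mul_inv_cancel_left] at h2
    refine ⟨fun x hx => ?_, fun x hx => ?_, fun x => ?_⟩
    · have h1 := congrArg (fun z => k⁻¹ z) (hk1 x hx)
      simp only [MulAut.inv_apply_self] at h1
      exact h1.symm
    · have h1 := D.inv_mem (hk2 _ (hE x hx))
      rwa [MulAut.apply_inv_self, mul_inv_rev, inv_inv] at h1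
    · have h1 := E.inv_mem (hk3 (k⁻¹ x))
      rwa [MulAut.apply_inv_self, mul_inv_rev, inv_inv] at h1

theorem isPGroup_chainP [Finite M] (hM : IsPGroup p M) (D E : Subgroup M) (hDE : D ≤ E) :
    IsPGroup p (chainP D E hDE) := by
  rintro ⟨κ, hκ1, hκ2, hκ3⟩
  let c : ℕ → Subgroup M := fun i => if i = 0 then ⊤ else if i = 1 then E else if i = 2 then D else ⊥
  have hE : ∀ x ∈ E, κ x ∈ E := by
    intro x hx
    have h2 := E.mul_mem hx (hκ3 x)
    rwa [mul_inv_cancel_left] at h2
  obtain ⟨k, hk⟩ := Cfsg.Agent.H759.exists_pow_eq_one_of_chain hM κ 3 c rfl rfl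
    (by
      intro i hi x hx
      interval_cases i
      · exact Subgroup.mem_top _
      · exact hE x hx
      · have hx' : x ∈ D := hx
        rw [hκ1 x hx']
        exact hx'
      · have hx' : x ∈ (⊥ : Subgroup M) := hx
        rw [Subgroup.mem_bot] at hx'
        rw [hx', map_one]
        exact Subgroup.one_mem _)
    (by
      intro i hi x hx
      interval_cases i
      · exact hκ3 x
      · exact hκ2 x hx
      · have hx' : x ∈ D := hx
        rw [hκ1 x hx', inv_mul_cancel]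
        exact Subgroup.one_mem _)
  exact ⟨k, Subtype.ext hk⟩

theorem mem_chainP {D E : Subgroup M} {hDE : D ≤ E} {k : MulAut M} : k ∈ chainP D E hDE ↔
    (∀ x ∈ D, k x = x) ∧ (∀ x ∈ E, x⁻¹ * k x ∈ D) ∧ ∀ x, x⁻¹ * k x ∈ E := Iff.rfl

/-- Two transvections, the centre of the first in the axis of the second, generate a `p`-group. -/
theorem exists_pgroup_of_com_le [Finite M] (hM : IsPGroup p M) {a b : MulAut M}
    (ha : com a ≤ fix a) (hb : com b ≤ fix b) (h : com a ≤ fix b) :
    ∃ B : Subgroup (MulAut M), IsPGroup p B ∧ a ∈ B ∧ b ∈ B := by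
  refine ⟨chainP (com a) (com a ⊔ com b) le_sup_left, isPGroup_chainP hM _ _ _, ?_, ?_⟩
  · refine ⟨fun x hx => mem_fix.1 (ha hx), fun x _ => del_mem_com a x,
      fun x => (le_sup_left : com a ≤ _) (del_mem_com a x)⟩
  · refine ⟨fun x hx => mem_fix.1 (h hx), fun x hx => ?_,
      fun x => (le_sup_right : com b ≤ _) (del_mem_com b x)⟩
    have h1 : com a ⊔ com b ≤ fix b := sup_le h hb
    rw [mem_fix.1 (h1 hx), inv_mul_cancel]
    exact Subgroup.one_mem _

end Chain

/-- **No strongly embedded subgroup.** -/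
theorem no_gl3 {M : Type*} [CommGroup M] [Finite M] (hMc : Nat.card M = p ^ 3)
    {G D T : Subgroup (MulAut M)} (hTD : T ≤ D) (hDG : D ≤ G) (hne : D ≠ G) (hTp : IsPGroup p T)
    (hTc : Nat.card T = p ^ 2)
    (hmax : ∀ B : Subgroup (MulAut M), B ≤ G → IsPGroup p B → Nat.card B ≤ Nat.card T)
    (SE : ∀ α ∈ G, α ∉ D → ∀ β ∈ T, β ≠ 1 → α * β * α⁻¹ ∉ T) : False := by
  have hpp := hp.out
  have hM : IsPGroup p M := IsPGroup.of_card hMc
  have hTG := hTD.trans hDG
  have SE' : ∀ α ∈ G, ∀ β ∈ T, β ≠ 1 → α * β * α⁻¹ ∈ T → α ∈ D := by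
    intro α hα β hβ hβ1 h1
    by_contra h2
    exact SE α hα h2 β hβ hβ1 h1
  -- Claim A
  have claimA : ∀ g ∈ G, g ∉ D → ∀ β₁ ∈ T, β₁ ≠ 1 → ∀ β₂ ∈ T, β₂ ≠ 1 →
      ∀ B : Subgroup (MulAut M), IsPGroup p B → β₁ ∈ B → g * β₂ * g⁻¹ ∈ B → False := by
    intro g hg hgD β₁ h1 h1' β₂ h2 h2' B hB hb1 hb2
    obtain ⟨h, hhG, hh⟩ := conj_into hTG hTp hmax (B := B ⊓ G) inf_le_right
      (hB.to_le inf_le_left)
    have h3 : h ∈ D := SE' h hhG β₁ h1 h1' (hh _ ⟨hb1, hTG h1⟩)
    have h4 := hh _ ⟨hb2, G.mul_mem (G.mul_mem hg (hTG h2)) (G.inv_mem hg)⟩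
    have e : h * (g * β₂ * g⁻¹) * h⁻¹ = (h * g) * β₂ * (h * g)⁻¹ := by group
    rw [e] at h4
    have h5 : h * g ∈ D := SE' _ (G.mul_mem hhG hg) β₂ h2 h2' h4
    have h6 := D.mul_mem (D.inv_mem h3) h5
    rw [inv_mul_cancel_left] at h6
    exact hgD h6
  -- the chain `Z₁ ≤ L`
  obtain ⟨z, hz, hzT⟩ := exists_fixed_group hTp T.subtype (by rw [hMc]; exact dvd_pow_self p (by norm_num))
  set Z := Subgroup.zpowers z with hZ
  have hZc : Nat.card Z = p := by rw [hZ, Nat.card_zpowers, hz]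
  have hZT : ∀ t ∈ T, ∀ x ∈ Z, t x = x := by
    intro t ht x hx
    obtain ⟨n, rfl⟩ := Subgroup.mem_zpowers_iff.1 hx
    rw [map_zpow]
    have : t z = z := hzT ⟨t, ht⟩
    rw [this]
  have hZn : Z.Normal := inferInstance
  have hquo : Nat.card (M ⧸ Z) = p ^ 2 := by
    have h1 := Z.card_mul_index
    rw [hZc, hMc, pow_succ'] at h1
    exact Nat.eq_of_mul_eq_mul_left hpp.pos h1
  have hinv : ∀ (g : T), ∀ x ∈ Z, T.subtype g x ∈ Z := fun g x hx => by
    have := hZT g g.2 x hx
    show (g : MulAut M) x ∈ Z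
    rw [this]
    exact hx
  obtain ⟨w, hw, hwT⟩ := exists_fixed_group hTp (quotAct T.subtype Z hinv)
    (by rw [hquo]; exact dvd_pow_self p (by norm_num))
  set L := (Subgroup.zpowers w).comap (QuotientGroup.mk' Z) with hL
  have hLc : Nat.card L = p ^ 2 := by
    rw [hL, card_comap_mk, Nat.card_zpowers, hw, hZc, sq]
  have hZL : Z ≤ L := by
    intro x hx
    have h0 : (QuotientGroup.mk' Z) x = 1 := (QuotientGroup.eq_one_iff _).2 hx
    have h1 : (QuotientGroup.mk' Z) x ∈ Subgroup.zpowers w := by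
      rw [h0]
      exact Subgroup.one_mem _
    exact h1
  have hLT : ∀ t ∈ T, ∀ x ∈ L, t x ∈ L := by
    intro t ht x hx
    have h1 : (QuotientGroup.mk' Z) (t x) = (QuotientGroup.mk' Z) x := by
      have h2 : (QuotientGroup.mk' Z) (t x) =
        quotAct T.subtype Z hinv ⟨t, ht⟩ ((QuotientGroup.mk' Z) x) := rfl
      rw [h2]
      obtain ⟨n, hn⟩ := Subgroup.mem_zpowers_iff.1 (show (QuotientGroup.mk' Z) x ∈ _ from hx)
      rw [← hn, map_zpow, hwT]
    show (QuotientGroup.mk' Z) (t x) ∈ Subgroup.zpowers w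
    rw [h1]
    exact hx
  have hLidx : L.index = p := by
    have h1 := L.card_mul_index
    rw [hLc, hMc, pow_succ] at h1
    exact Nat.eq_of_mul_eq_mul_left (pow_pos hpp.pos 2) h1
  have hTm : ∀ t ∈ T, ∀ x, x⁻¹ * t x ∈ L := by
    intro t ht x
    obtain ⟨k, hk⟩ := hTp ⟨t, ht⟩
    have hk' : t ^ p ^ k = 1 := congrArg Subtype.val hk
    exact Cfsg.Agent.H766.pAut_trivial_section t hk' (L := L) (K := ⊤) (hLT t ht)
      (fun x _ => Subgroup.mem_top _) (Or.inr (by rw [Subgroup.relIndex_top_right, hLidx])) x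
      (Subgroup.mem_top x)
  -- an element of `T` centralizing `L`
  let f : T →* MulAut L :=
    { toFun := fun t =>
        { toFun := fun x => ⟨(t : MulAut M) x, hLT t t.2 x x.2⟩
          invFun := fun x => ⟨((t⁻¹ : T) : MulAut M) x, hLT _ (t⁻¹).2 x x.2⟩
          left_inv := fun x => Subtype.ext (by
            show (t : MulAut M)⁻¹ ((t : MulAut M) x) = x
            rw [MulAut.inv_apply_self])
          right_inv := fun x => Subtype.ext (by
            show (t : MulAut M) ((t : MulAut M)⁻¹ x) = x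
            rw [MulAut.apply_inv_self])
          map_mul' := fun x y => Subtype.ext (by
            show (t : MulAut M) (x * y) = (t : MulAut M) x * (t : MulAut M) y
            rw [map_mul]) }
      map_one' := by
        ext x
        rfl
      map_mul' := fun s t => by
        ext x
        rfl }
  obtain ⟨t, htT, ht1, htL⟩ : ∃ t ∈ T, t ≠ 1 ∧ ∀ x ∈ L, t x = x := by
    have h1 := card_le_mul_ker hTp f hLc
    rw [hTc, sq] at h1
    have h2 : p ≤ Nat.card f.ker := Nat.le_of_mul_le_mul_left h1 hpp.pos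
    have h3 : Nontrivial f.ker := by
      rw [← Finite.one_lt_card_iff_nontrivial]
      exact lt_of_lt_of_le hpp.one_lt h2
    obtain ⟨⟨t, ht⟩, hne⟩ := exists_ne (1 : f.ker)
    refine ⟨t, t.2, fun h => hne (Subtype.ext (Subtype.ext h)), fun x hx => ?_⟩
    have h4 : f t = 1 := MonoidHom.mem_ker.1 ht
    have h5 := congrArg (fun a : MulAut L => ((a ⟨x, hx⟩ : L) : M)) h4
    exact h5
  have hfixt : fix t = L := by
    have h1 : L ≤ fix t := fun x hx => mem_fix.2 (htL x hx)
    have h2 : (fix t).index ∣ p := by rw [← hLidx]; exact Subgroup.index_dvd_of_le h1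
    rcases (Nat.dvd_prime hpp).1 h2 with h3 | h3
    · exfalso
      rw [Subgroup.index_eq_one] at h3
      apply ht1
      ext x
      have : x ∈ fix t := by rw [h3]; exact Subgroup.mem_top x
      exact mem_fix.1 this
    · refine (Subgroup.eq_of_le_of_card_ge h1 ?_).symm
      have h4 := (fix t).card_mul_index
      rw [h3, hMc, pow_succ] at h4
      rw [Nat.eq_of_mul_eq_mul_right hpp.pos h4, hLc]
  have hcomt : Nat.card (com t) = p := by
    have h1 := card_com_mul_card_fix t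
    rw [hfixt, hLc, hMc] at h1
    exact Nat.eq_of_mul_eq_mul_right (pow_pos hpp.pos 2) (by rw [h1]; ring)
  have hctL : com t ≤ L := by
    rintro _ ⟨x, rfl⟩
    exact hTm t htT x
  have hctf : com t ≤ fix t := by rw [hfixt]; exact hctL
  obtain ⟨g, hg, hgD⟩ : ∃ g ∈ G, g ∉ D := by
    by_contra hcon
    push Not at hcon
    exact hne (le_antisymm hDG hcon)
  set t' := g * t * g⁻¹ with ht'
  have hcomt' : Nat.card (com t') = p := by rw [ht', card_com_conj, hcomt]
  have hct'f : com t' ≤ fix t' := by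
    intro x hx
    rw [ht', mem_com_conj] at hx
    rw [ht', mem_fix_conj]
    exact hctf hx
  have hfixt' : Nat.card (fix t') = p ^ 2 := by
    have h1 := card_com_mul_card_fix t'
    rw [hcomt', hMc, pow_succ'] at h1
    exact Nat.eq_of_mul_eq_mul_left hpp.pos h1
  -- opposite
  have hopp : ∀ x ∈ com t', x ∈ L → x = 1 := by
    intro x hx hxL
    by_contra hx1
    have h1 : com t' ≤ fix t := by
      rw [hfixt]
      exact le_of_card_prime_of_mem hcomt' hx hx1 hxL
    obtain ⟨B, hB, h2, h3⟩ := exists_pgroup_of_com_le hM hct'f hctf h1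
    exact claimA g hg hgD t htT ht1 t htT ht1 B hB h3 h2
  obtain ⟨y, hy, hy1⟩ : ∃ y ∈ com t', y ≠ 1 := by
    by_contra hcon
    push Not at hcon
    have : com t' = ⊥ := by
      rw [eq_bot_iff]
      exact fun x hx => Subgroup.mem_bot.2 (hcon x hx)
    rw [this, Subgroup.card_bot] at hcomt'
    exact hpp.one_lt.ne hcomt'
  -- semiregularity
  have hsemi : ∀ x ∈ T, x y = y → x = 1 := by
    intro x hx hxy
    by_contra hx1
    have hxc : ∀ u ∈ com t', x u = u := by
      intro u hu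
      obtain ⟨n, rfl⟩ := exists_zpow_eq hcomt' hy hy1 hu
      rw [map_zpow, hxy]
    set E := com t' ⊔ Z with hE
    have hxE : ∀ u ∈ E, x u = u := by
      intro u hu
      obtain ⟨a, ha, b, hb, rfl⟩ := Subgroup.mem_sup.1 hu
      rw [map_mul, hxc a ha, hZT x hx b hb]
    have hEc : Nat.card E = p ^ 2 := by
      rw [hE, Two.card_sup, hcomt', hZc, sq]
      rw [eq_bot_iff]
      rintro u ⟨hu1, hu2⟩
      exact Subgroup.mem_bot.2 (hopp u hu1 (hZL hu2))
    have hEidx : E.index = p := by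
      have h1 := E.card_mul_index
      rw [hEc, hMc, pow_succ] at h1
      exact Nat.eq_of_mul_eq_mul_left (pow_pos hpp.pos 2) h1
    obtain ⟨k, hk⟩ := hTp ⟨x, hx⟩
    have hk' : x ^ p ^ k = 1 := congrArg Subtype.val hk
    have hxm : ∀ u, u⁻¹ * x u ∈ E := fun u =>
      Cfsg.Agent.H766.pAut_trivial_section x hk' (L := E) (K := ⊤)
        (fun v hv => by rw [hxE v hv]; exact hv)
        (fun v _ => Subgroup.mem_top _) (Or.inr (by rw [Subgroup.relIndex_top_right, hEidx])) u
        (Subgroup.mem_top u)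
    refine claimA g hg hgD x hx hx1 t htT ht1 (chainP (com t') E le_sup_left)
      (isPGroup_chainP hM _ _ _) ?_ ?_
    · exact ⟨hxc, fun u hu => by rw [hxE u hu, inv_mul_cancel]; exact Subgroup.one_mem _, hxm⟩
    · rw [← ht']
      exact ⟨fun u hu => mem_fix.1 (hct'f hu), fun u _ => del_mem_com t' u,
        fun u => (le_sup_left : com t' ≤ E) (del_mem_com t' u)⟩
  -- transitivity
  have hinj : Function.Injective (fun x : T => (⟨y⁻¹ * (x : MulAut M) y, hTm x x.2 y⟩ : L)) := by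
    intro a b hab
    have h1 : y⁻¹ * (a : MulAut M) y = y⁻¹ * (b : MulAut M) y := congrArg Subtype.val hab
    have h2 : (a : MulAut M) y = (b : MulAut M) y := mul_left_cancel h1
    have h3 : ((b⁻¹ * a : T) : MulAut M) y = y := by
      show (b : MulAut M)⁻¹ ((a : MulAut M) y) = y
      rw [h2, MulAut.inv_apply_self]
    have h4 := hsemi _ (b⁻¹ * a).2 h3
    have h5 : b⁻¹ * a = 1 := Subtype.ext h4
    exact (inv_mul_eq_one.1 h5).symm
  have hsurj : Function.Surjective (fun x : T => (⟨y⁻¹ * (x : MulAut M) y, hTm x x.2 y⟩ : L)) :=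
    ((Nat.bijective_iff_injective_and_card _).2 ⟨hinj, by rw [hTc, hLc]⟩).2
  -- a common fixed point
  obtain ⟨v, hvL, hvf, hv1⟩ : ∃ v ∈ L, v ∈ fix t' ∧ v ≠ 1 := by
    by_contra hcon
    push Not at hcon
    have h1 : L ⊓ fix t' = ⊥ := by
      rw [eq_bot_iff]
      rintro u ⟨hu1, hu2⟩
      exact Subgroup.mem_bot.2 (hcon u hu1 hu2)
    have h2 := Two.card_sup h1
    rw [hLc, hfixt'] at h2
    have h3 := Subgroup.card_le_card_group (L ⊔ fix t')
    rw [h2, hMc, ← pow_add] at h3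
    exact absurd ((Nat.pow_le_pow_iff_right hpp.one_lt).1 h3) (by norm_num)
  obtain ⟨⟨x, hxT⟩, hx⟩ := hsurj ⟨v, hvL⟩
  have hx' : y⁻¹ * x y = v := congrArg Subtype.val hx
  have hxy : x y = y * v := by rw [← hx', mul_inv_cancel_left]
  have hx1 : x ≠ 1 := by
    rintro rfl
    apply hv1
    rw [← hx', MulAut.one_apply, inv_mul_cancel]
  set t'' := x * t' * x⁻¹ with ht''
  have hcomt'' : Nat.card (com t'') = p := by rw [ht'', card_com_conj, hcomt']
  have hct''f : com t'' ≤ fix t'' := by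
    intro u hu
    rw [ht'', mem_com_conj] at hu
    rw [ht'', mem_fix_conj]
    exact hct'f hu
  have h1 : com t'' ≤ fix t' := by
    have h2 : x y ∈ com t'' := by
      rw [ht'', mem_com_conj, MulAut.inv_apply_self]
      exact hy
    have h3 : x y ≠ 1 := fun h => hy1 (x.injective (h.trans (map_one x).symm))
    refine le_of_card_prime_of_mem hcomt'' h2 h3 ?_
    rw [hxy]
    exact (fix t').mul_mem (hct'f hy) hvf
  obtain ⟨B, hB, h2, h3⟩ := exists_pgroup_of_com_le hM hct''f hct'f h1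
  obtain ⟨h, hhG, hh⟩ := conj_into hTG hTp hmax (B := B ⊓ G) inf_le_right (hB.to_le inf_le_left)
  have ht'G : t' ∈ G := G.mul_mem (G.mul_mem hg (hTG htT)) (G.inv_mem hg)
  have hxG := hTG hxT
  have h4 := hh t' ⟨h3, ht'G⟩
  have h5 := hh t'' ⟨h2, G.mul_mem (G.mul_mem hxG ht'G) (G.inv_mem hxG)⟩
  have e4 : h * t' * h⁻¹ = (h * g) * t * (h * g)⁻¹ := by rw [ht']; group
  have e5 : h * t'' * h⁻¹ = (h * x * g) * t * (h * x * g)⁻¹ := by rw [ht'', ht']; group
  rw [e4] at h4
  rw [e5] at h5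
  have h6 := SE' _ (G.mul_mem hhG hg) t htT ht1 h4
  have h7 := SE' _ (G.mul_mem (G.mul_mem hhG hxG) hg) t htT ht1 h5
  have h8 : h * x * h⁻¹ ∈ D := by
    have := D.mul_mem h7 (D.inv_mem h6)
    have e : h * x * g * (h * g)⁻¹ = h * x * h⁻¹ := by group
    rwa [e] at this
  obtain ⟨d, hd, hdd⟩ := conj_into hTD hTp (fun B hB hBp => hmax B (hB.trans hDG) hBp)
    (B := T.map (MulAut.conj h).toMonoidHom ⊓ D) inf_le_right ((hTp.map _).to_le inf_le_left)
  have h9 := hdd (h * x * h⁻¹) ⟨⟨x, hxT, rfl⟩, h8⟩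
  have e9 : d * (h * x * h⁻¹) * d⁻¹ = (d * h) * x * (d * h)⁻¹ := by group
  rw [e9] at h9
  have h10 := SE' _ (G.mul_mem (hDG hd) hhG) x hxT hx1 h9
  have h11 : h ∈ D := by
    have := D.mul_mem (D.inv_mem hd) h10
    rwa [inv_mul_cancel_left] at this
  have h12 := D.mul_mem (D.inv_mem h11) h6
  rw [inv_mul_cancel_left] at h12
  exact hgD h12

end Cfsg.Agent.H785
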