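import Cfsg.Agent.H785.FifthD

/-!
# Splitting off a quotient, and the focal subgroup (helper785)
-/

set_option autoImplicit false
set_option linter.unusedSectionVars false
set_option linter.unusedVariables false
set_option linter.style.haveILetI false

namespace Cfsg.Agent.H785

open Cfsg Cfsg.FusionSystem Cfsg.Agent.H802
open scoped commutatorElement

variable {Ω : Type*} [Group Ω] {S : Subgroup Ω} {p : ℕ} [hp : Fact p.Prime] [Finite S]
  {F : FusionSystem S}

/-- Commutators of `Aut_F(S)` act trivially on `S/[S,S]` when `S` has a characteristic chain with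
factors of order `p`. -/
theorem comm_inn (hS : IsPGroup p S) (hF : F.IsSaturated p) (n : ℕ) (c : ℕ → Subgroup Ω)
    (h0 : c 0 = S) (hn : c n = ⊥) (hle : ∀ i ≤ n, c i ≤ S) (hch : ∀ i ≤ n, CharIn S (c i))
    (hmono : ∀ i < n, c (i + 1) ≤ c i) (hcard : ∀ i < n, Nat.card (c i) = p * Nat.card (c (i + 1)))
    {α t : MulAut S} (hα : α ∈ F.autGroup S) (ht : t ∈ F.autGroup S) (x : S) :
    (x : Ω)⁻¹ * ((α * t * α⁻¹ * t⁻¹) x : S) ∈ ⁅S, S⁆ := by
  set κ := α * t * α⁻¹ * t⁻¹ with hκ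
  have hκF : κ ∈ F.autGroup S := mul_mem (mul_mem (mul_mem hα ht) (inv_mem hα)) (inv_mem ht)
  obtain ⟨k, hk⟩ := Cfsg.Agent.H759.exists_pow_eq_one_of_chain hS κ n
    (fun i => (c i).subgroupOf S) (by
      show (c 0).subgroupOf S = ⊤
      rw [h0, Subgroup.subgroupOf_self]) (by
      show (c n).subgroupOf S = ⊥
      rw [hn, Subgroup.bot_subgroupOf])
    (fun i hi x hx => hch i hi κ x hx) (by
      intro i hi x hx
      have hfc : Finite (c i) := finite_of_le (hle i hi.le)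
      have hx' : (x : Ω) ∈ c i := hx
      have h1 := comm_trivial (α := α) (β := t) (hle i hi.le) (hmono i hi)
        (((hch (i + 1) hi).nrm (hle (i + 1) hi)).mono (hle i hi.le)) (hcard i hi)
        (fun x => ((hch i hi.le).mem_iff α x).symm) (fun x => ((hch i hi.le).mem_iff t x).symm)
        (fun x hx => hch (i + 1) hi α x hx) (fun x hx => hch (i + 1) hi t x hx) x hx'
      exact h1)
  obtain ⟨g, hg⟩ := mem_inn_of_pow hS hF hκF hk
  have e : (x : Ω)⁻¹ * (κ x : S) = ⁅(x : Ω)⁻¹, (g : Ω)⁆ := by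
    rw [← hg, MulAut.conj_apply, commutatorElement_def, Subgroup.coe_mul, Subgroup.coe_mul,
      Subgroup.coe_inv]
    group
  rw [e]
  exact Subgroup.commutator_mem_commutator (S.inv_mem x.2) g.2

/-- **Splitting.** -/
theorem exists_split (hS : IsPGroup p S) (hp2 : p ≠ 2) {V W : Subgroup Ω} (hWS : W ≤ S)
    (hVW : V ≤ W) (hne : V ≠ W) (hSV : ⁅S, S⁆ ≤ V)
    (hV : ∀ α ∈ F.autGroup S, ∀ x : S, (x : Ω) ∈ V → ((α x : S) : Ω) ∈ V)
    {t : MulAut S} (ht : t ∈ F.autGroup S) (h1 : ∀ x : S, (x : Ω) * (t x : S) ∈ W)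
    (h2 : ∀ α ∈ F.autGroup S, ∀ w : S, (w : Ω) ∈ W → (w : Ω)⁻¹ * (α w : S) ∈ V)
    (h3 : ∀ α ∈ F.autGroup S, ∀ x : S, (x : Ω)⁻¹ * ((α * t * α⁻¹ * t⁻¹) x : S) ∈ V) :
    ∃ R : Subgroup Ω, R ≤ S ∧ R ≠ S ∧ ⁅S, S⁆ ≤ R ∧
      ∀ α ∈ F.autGroup S, ∀ x : S, (x : Ω)⁻¹ * (α x : S) ∈ R := by
  have hVS : V ≤ S := hVW.trans hWS
  have hVn : Nrm S V := nrm_of_commutator_le hVS hSV
  have hn : (V.subgroupOf S).Normal := hVn.normal
  set q := QuotientGroup.mk' (V.subgroupOf S) with hq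
  have hq1 : ∀ z : S, q z = 1 ↔ (z : Ω) ∈ V := fun z => QuotientGroup.eq_one_iff z
  have hcomm : ∀ x y : S, q x * q y = q y * q x := by
    intro x y
    rw [← commutatorElement_eq_one_iff_mul_comm, ← map_commutatorElement, hq1]
    exact hSV (Subgroup.commutator_mem_commutator x.2 y.2)
  let f : S →* (S ⧸ V.subgroupOf S) := MonoidHom.mk' (fun x => q x * q (t x)) (by
    intro x y
    rw [map_mul t, map_mul q, map_mul q]
    calc q x * q y * (q (t x) * q (t y)) = q x * (q y * q (t x)) * q (t y) := by group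
      _ = q x * (q (t x) * q y) * q (t y) := by rw [hcomm y (t x)]
      _ = _ := by group)
  have hf : ∀ x, f x = q x * q (t x) := fun x => rfl
  have hmR : ∀ x : S, (x : Ω) ∈ f.ker.map S.subtype ↔ f x = 1 := by
    intro x
    constructor
    · rintro ⟨y, hy, hyx⟩
      have : y = x := Subtype.ext hyx
      rw [← this]
      exact hy
    · intro hx
      exact ⟨x, hx, rfl⟩
  refine ⟨f.ker.map S.subtype, ?_, ?_, ?_, ?_⟩
  · rintro _ ⟨x, -, rfl⟩
    exact x.2
  · intro heq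
    apply hne
    refine le_antisymm hVW fun w hw => ?_
    have h4 : f ⟨w, hWS hw⟩ = 1 := by
      rw [← hmR, heq]
      exact hWS hw
    rw [hf] at h4
    have h5 : q (⟨w, hWS hw⟩⁻¹ * t ⟨w, hWS hw⟩) = 1 := by
      rw [hq1]
      exact h2 t ht ⟨w, hWS hw⟩ hw
    rw [map_mul, map_inv, inv_mul_eq_one] at h5
    rw [← h5, ← sq, ← map_pow] at h4
    obtain ⟨n, hn⟩ := hS ⟨w, hWS hw⟩
    obtain ⟨m, hm⟩ : Odd (p ^ n) := (hp.out.odd_of_ne_two hp2).pow
    have e : (⟨w, hWS hw⟩ : S) = (⟨w, hWS hw⟩ ^ 2) ^ (m + 1) := by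
      rw [← pow_mul]
      have : 2 * (m + 1) = p ^ n + 1 := by omega
      rw [this, pow_succ, hn, one_mul]
    have h6 : q ⟨w, hWS hw⟩ = 1 := by
      rw [e, map_pow, h4, one_pow]
    exact (hq1 _).1 h6
  · intro x hx
    have hxS : x ∈ S := hVS (hSV hx)
    refine (hmR ⟨x, hxS⟩).2 ?_
    rw [hf, (hq1 ⟨x, hxS⟩).2 (hSV hx), (hq1 _).2 (hV t ht ⟨x, hxS⟩ (hSV hx)), one_mul]
  · intro α hα x
    have h4 : q (α (t x)) = q (t (α x)) := by
      have h6 : (α * t * α⁻¹ * t⁻¹) (t (α x)) = α (t x) := by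
        rw [MulAut.mul_apply, MulAut.mul_apply, MulAut.mul_apply, MulAut.inv_apply_self,
          MulAut.inv_apply_self]
      have h7 : q ((t (α x))⁻¹ * (α * t * α⁻¹ * t⁻¹) (t (α x))) = 1 :=
        (hq1 _).2 (h3 α hα (t (α x)))
      rw [h6, map_mul, map_inv, inv_mul_eq_one] at h7
      exact h7.symm
    have h5 : f (α x) = f x := by
      rw [hf, hf, ← h4, ← map_mul, ← map_mul, ← map_mul]
      have h6 : q ((x * t x)⁻¹ * α (x * t x)) = 1 := (hq1 _).2 (h2 α hα (x * t x) (h1 x))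
      rw [map_mul, map_inv, inv_mul_eq_one] at h6
      exact h6.symm
    have h6 : f (x⁻¹ * α x) = 1 := by
      rw [map_mul, map_inv, h5, inv_mul_cancel]
    exact (hmR (x⁻¹ * α x)).2 h6

/-- Under the standing hypotheses, no proper subgroup contains `[S,S]` and `[S, Aut_F(S)]`. -/
theorem Hyp.no_split (H : Hyp p F) (hhyp : F.hyperfocalSubgroup p = S) {R : Subgroup Ω}
    (hRS : R ≤ S) (hne : R ≠ S) (hR : ⁅S, S⁆ ≤ R)
    (hβ : ∀ β ∈ F.autGroup S, ∀ x : S, (x : Ω)⁻¹ * (β x : S) ∈ R) : False := by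
  have hpp := hp.out
  apply hne
  refine le_antisymm hRS ?_
  rw [← hhyp]
  refine hyp_le_of_inv H.hS H.hF R hβ ?_
  intro Q hQ
  obtain ⟨k, hk, hke⟩ := H.card_le_four hQ
  have hfQ : Finite Q := finite_of_le hQ.1.1
  interval_cases k
  · -- order 1
    exfalso
    rw [pow_zero] at hke
    refine not_essential_of_flag H.hS H.hF (Q := Q) 0 (fun _ => ⊤) rfl ?_
      (fun i hi α hα x hx => Subgroup.mem_top _) (fun i hi => absurd hi (by omega)) hQ
    exact (Subgroup.eq_bot_of_card_eq _ (by rw [Subgroup.card_top, hke]))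
  · -- order p
    exfalso
    rw [pow_one] at hke
    refine not_essential_of_flag H.hS H.hF (Q := Q) 1 (fun i => if i = 0 then ⊤ else ⊥) rfl rfl
      ?_ ?_ hQ
    · intro i hi α hα x hx
      interval_cases i
      · exact Subgroup.mem_top _
      · have hx' : x ∈ (⊥ : Subgroup Q) := hx
        rw [Subgroup.mem_bot] at hx'
        rw [hx', map_one]
        exact Subgroup.one_mem _
    · intro i hi
      interval_cases i
      right
      show (⊥ : Subgroup Q).relIndex ⊤ = p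
      rw [Subgroup.relIndex_top_right, Subgroup.index_bot, hke]
  · -- order p²
    obtain ⟨-, h, hext, -⟩ := H.pearl hQ hke
    exact h.foc H.hS H.hF H.p2 hRS hR hβ bot_le hext
  · -- order p³
    by_cases hcomm : ∀ x ∈ Q, ∀ y ∈ Q, x * y = y * x
    · obtain ⟨C, h⟩ := H.exists_ab3 hQ hke hcomm
      exact h.sec.foc H.hS H.hF H.p2 hRS hR hβ bot_le (H.ab3_extTop h)
    · exact (H.three_nonab hQ hke hcomm).elim
  · -- order p⁴
    have h := (H.four hQ hke).1
    exact h.foc H.hS H.hF H.p2 hRS hR hβ ((Subgroup.commutator_mono hQ.1.1 hQ.1.1).trans hR)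
      (H.ext_four hQ hke)

end Cfsg.Agent.H785
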