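import Cfsg.Agent.H785.FifthH

/-!
# The end of the proof: `p = 3` (helper785)
-/

set_option autoImplicit false
set_option linter.unusedSectionVars false
set_option linter.unusedVariables false
set_option linter.style.haveILetI false

namespace Cfsg.Agent.H785

open Cfsg Cfsg.FusionSystem Cfsg.Agent.H802
open scoped commutatorElement

variable {Ω : Type*} [Group Ω] {S : Subgroup Ω} {p : ℕ} [hp : Fact p.Prime] [Finite S]
  {F : FusionSystem S}

theorem three_sq {a : ℤ} (h : ¬ (3 : ℤ) ∣ a) : (3 : ℤ) ∣ a ^ 2 - 1 := by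
  have h1 : a % 3 = 1 ∨ a % 3 = 2 := by omega
  rcases h1 with h1 | h1
  · obtain ⟨k, hk⟩ : ∃ k, a = 3 * k + 1 := ⟨a / 3, by omega⟩
    rw [hk]
    exact ⟨3 * k ^ 2 + 2 * k, by ring⟩
  · obtain ⟨k, hk⟩ : ∃ k, a = 3 * k + 2 := ⟨a / 3, by omega⟩
    rw [hk]
    exact ⟨3 * k ^ 2 + 4 * k + 1, by ring⟩

/-- Maximal class: no torus inverting `S/Γ` for `p = 3`. -/
theorem Hyp.mc_false (H : Hyp p F) (hhyp : F.hyperfocalSubgroup p = S) (h3 : p = 3) (h : MC p S)
    {τ : MulAut S} (hτ : τ ∈ F.autGroup S) (hw : ∀ a, Wt τ S (gam S) a → (p : ℤ) ∣ a - -1) :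
    False := by
  have hpp := hp.out
  have hfG : Finite (gam S) := finite_of_le gam_le
  have hf2 : Finite (z2 S) := finite_of_le z2_le
  have hf3 : Finite (z3 S) := finite_of_le z3_le
  have hfZ : Finite (ZS S) := finite_of_le ZS_le
  have k1 : Nat.card (gam S) = p * Nat.card (z3 S) := by rw [h.cG, h.c3]; ring
  have k2 : Nat.card (z3 S) = p * Nat.card (z2 S) := by rw [h.c3, h.c2]; ring
  have k3 : Nat.card (z2 S) = p * Nat.card (ZS S) := by rw [h.c2, h.c1]; ring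
  have k4 : Nat.card (ZS S) = p * Nat.card (⊥ : Subgroup Ω) := by
    rw [h.c1, Subgroup.card_bot, mul_one]
  have hSV : ⁅S, S⁆ ≤ z3 S := by
    rw [Subgroup.commutator_le]
    intro x hx y hy
    exact comm_mem_of_card_sq nrm_z3 z3_le (by rw [h.card, h.c3]; ring) hx hy
  have hτ1 : Wt τ S (gam S) (-1) := by
    obtain ⟨a, b, e, ha, -⟩ := h.weights τ
    exact ha.congr gam_le nrm_gam h.card_S (hw a ha)
  obtain ⟨R, hRS, hne, hR, hβ⟩ := exists_split (F := F) H.hS H.p2 gam_le h.z3_le_gam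
    (by
      intro heq
      have h1 := h.cG
      rw [← heq, h.c3] at h1
      exact absurd (Nat.pow_right_injective hpp.two_le h1) (by norm_num)) hSV
    (fun α hα x hx => charIn_z3 α x hx) hτ
    (fun x => by
      have := hτ1 x x.2
      rwa [zpow_neg_one, inv_inv] at this)
    (fun α hα w hw => by
      obtain ⟨a, b, e, ha, hb, he, hba, hea, hna⟩ := h.weights α
      have h1 : (p : ℤ) ∣ b - 1 := by
        have h2 : (p : ℤ) ∣ a ^ 2 - 1 := by
          rw [h3] at hna ⊢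
          exact three_sq hna
        have e1 : b - 1 = (b - a ^ 2) + (a ^ 2 - 1) := by ring
        rw [e1]
        exact dvd_add hba h2
      have h2 := hb.congr h.z3_le_gam (nrm_z3.mono gam_le) k1 h1 w hw
      rwa [zpow_one] at h2)
    (fun α hα x => hSV (comm_inn H.hS H.hF 5
      (fun i => if i = 0 then S else if i = 1 then gam S else if i = 2 then z3 S else
        if i = 3 then z2 S else if i = 4 then ZS S else ⊥) rfl rfl
      (by
        intro i hi
        interval_cases i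
        · exact le_rfl
        · exact gam_le
        · exact z3_le
        · exact z2_le
        · exact ZS_le
        · exact bot_le)
      (by
        intro i hi
        interval_cases i
        · exact fun α x _ => (α x).2
        · exact charIn_gam
        · exact charIn_z3
        · exact charIn_z2
        · exact charIn_ZS S
        · exact fun α x hx => aut_bot α x hx)
      (by
        intro i hi
        interval_cases i
        · exact gam_le
        · exact h.z3_le_gam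
        · exact z2_le_z3
        · exact ZS_le_z2
        · exact bot_le)
      (by
        intro i hi
        interval_cases i
        · exact h.card_S
        · exact k1
        · exact k2
        · exact k3
        · exact k4) hα hτ x))
  exact H.no_split hhyp hRS hne hR hβ

/-- The groups of order `p⁵` met in the case of an abelian essential subgroup of order `p³`. -/
structure MB (p : ℕ) (S : Subgroup Ω) : Prop where
  pg : IsPGroup p S
  card : Nat.card S = p ^ 5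
  c1 : Nat.card (ZS S) = p
  c2 : Nat.card (z2 S) = p ^ 3
  z2c : ∀ x ∈ z2 S, ∀ y ∈ z2 S, x * y = y * x
  cent : centralizerIn S (z2 S) ≤ z2 S
  ZD : ZS S ≤ ⁅S, S⁆

namespace MB

theorem D_le (h : MB p S) : ⁅S, S⁆ ≤ z2 S := by
  rw [Subgroup.commutator_le]
  intro x hx y hy
  exact comm_mem_of_card_sq nrm_z2 z2_le (by rw [h.card, h.c2]; ring) hx hy

theorem cardD (h : MB p S) : Nat.card (⁅S, S⁆ : Subgroup Ω) = p ^ 2 := by
  have hpp := hp.out
  have hfZ : Finite (ZS S) := finite_of_le ZS_le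
  have hn : ((ZS S).subgroupOf S).Normal := (nrm_ZS S).normal
  set N := (ZS S).subgroupOf S with hN
  have hcN : Nat.card N = p := by
    rw [← h.c1]
    exact Nat.card_congr (Subgroup.subgroupOfEquivOfLe ZS_le).toEquiv
  set q := QuotientGroup.mk' N with hq
  have hq1 : ∀ z : S, q z = 1 ↔ (z : Ω) ∈ ZS S := fun z => QuotientGroup.eq_one_iff z
  have hsurj : Function.Surjective q := QuotientGroup.mk'_surjective N
  have hG : Nat.card (⊤ : Subgroup (S ⧸ N)) = p ^ 4 := by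
    rw [Subgroup.card_top]
    have h1 := N.card_mul_index
    rw [hcN, h.card, pow_succ'] at h1
    exact Nat.eq_of_mul_eq_mul_left hpp.pos h1
  have hcen : (ZS (⊤ : Subgroup (S ⧸ N))).comap q = (z2 S).subgroupOf S := by
    ext z
    rw [Subgroup.mem_comap, mem_ZS, Subgroup.mem_subgroupOf, z2, mem_up]
    constructor
    · rintro ⟨-, hz⟩
      refine ⟨z.2, fun x hx => ?_⟩
      have h1 := hz (q ⟨x, hx⟩) (Subgroup.mem_top _)
      have h2 : q ⁅z, ⟨x, hx⟩⁆ = 1 := by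
        rw [map_commutatorElement, commutatorElement_eq_one_iff_mul_comm, h1]
      exact (hq1 _).1 h2
    · rintro ⟨-, hz⟩
      refine ⟨Subgroup.mem_top _, fun x _ => ?_⟩
      obtain ⟨y, rfl⟩ := hsurj x
      have h2 : q ⁅z, y⁆ = 1 := (hq1 _).2 (hz y y.2)
      rw [map_commutatorElement, commutatorElement_eq_one_iff_mul_comm] at h2
      exact h2.symm
  have hZc : Nat.card (ZS (⊤ : Subgroup (S ⧸ N))) = p ^ 2 := by
    have h1 := card_comap_mk N (ZS (⊤ : Subgroup (S ⧸ N)))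
    rw [← hq, hcen, hcN, Nat.card_congr (Subgroup.subgroupOfEquivOfLe z2_le).toEquiv, h.c2,
      pow_succ] at h1
    exact (Nat.eq_of_mul_eq_mul_right hpp.pos h1).symm
  obtain ⟨h1, -⟩ := fourth_commutator hG hZc
  let K : Subgroup S := ⁅(⊤ : Subgroup S), ⊤⁆
  have h2 : (⁅(⊤ : Subgroup (S ⧸ N)), ⊤⁆ : Subgroup (S ⧸ N)) = K.map q := by
    show _ = Subgroup.map q ⁅(⊤ : Subgroup S), ⊤⁆
    rw [Subgroup.map_commutator, ← MonoidHom.range_eq_map, MonoidHom.range_eq_top.2 hsurj]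
  have h4 : (⁅S, S⁆ : Subgroup Ω) = K.map S.subtype := by
    show _ = Subgroup.map S.subtype ⁅(⊤ : Subgroup S), ⊤⁆
    rw [Subgroup.map_commutator, ← MonoidHom.range_eq_map, Subgroup.range_subtype]
  have hNK : q.ker ≤ K := by
    intro z hz
    have hz' : (z : Ω) ∈ ZS S := (hq1 z).1 hz
    have h3 := h.ZD hz'
    rw [h4] at h3
    obtain ⟨y, hy, hyz⟩ := h3
    have : y = z := Subtype.ext hyz
    rw [← this]
    exact hy
  have h3 : Nat.card ((⁅(⊤ : Subgroup (S ⧸ N)), ⊤⁆ : Subgroup (S ⧸ N)).comap q) = p * p := by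
    rw [hq, card_comap_mk, h1, hcN]
  rw [h2, Subgroup.comap_map_eq, sup_eq_left.2 hNK] at h3
  rw [h4, sq, ← h3]
  exact (Nat.card_congr (K.equivMapOfInjective _ S.subtype_injective).toEquiv).symm

/-- The centralizer of the commutator subgroup. -/
def bet (S : Subgroup Ω) : Subgroup Ω := centralizerIn S ⁅S, S⁆

theorem bet_le : bet S ≤ S := centralizerIn_le

theorem D_le_S {S : Subgroup Ω} : (⁅S, S⁆ : Subgroup Ω) ≤ S :=
  Subgroup.commutator_le.2 fun x hx y hy =>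
    S.mul_mem (S.mul_mem (S.mul_mem hx hy) (S.inv_mem hx)) (S.inv_mem hy)

theorem nrmD (S : Subgroup Ω) : Nrm S ⁅S, S⁆ := (charIn_commutator S).nrm D_le_S

theorem nrm_bet : Nrm S (bet S) := nrm_centralizerIn (nrmD S)

theorem charIn_bet : CharIn S (bet S) := charIn_centralizerIn D_le_S (charIn_commutator S)

theorem z2_le_bet (h : MB p S) : z2 S ≤ bet S := fun w hw =>
  mem_centralizerIn.2 ⟨z2_le hw, fun x hx => h.z2c x (h.D_le hx) w hw⟩

theorem exists_SD (h : MB p S) : ∃ x ∈ S, ∃ y ∈ ⁅S, S⁆, ⁅x, y⁆ ≠ 1 := by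
  by_contra hcon
  push Not at hcon
  have hf : Finite (ZS S) := finite_of_le ZS_le
  have h1 : ⁅S, S⁆ ≤ ZS S := fun y hy => mem_ZS.2 ⟨D_le_S hy, fun x hx =>
    commutatorElement_eq_one_iff_mul_comm.1 (hcon x hx y hy)⟩
  have h2 : Nat.card (⁅S, S⁆ : Subgroup Ω) ≤ Nat.card (ZS S) := Nat.card_mono (Set.toFinite _) h1
  rw [h.cardD, h.c1] at h2
  nlinarith [hp.out.one_lt]

theorem cB (h : MB p S) : Nat.card (bet S) = p ^ 4 := by
  have hpp := hp.out
  have hfD : Finite (⁅S, S⁆ : Subgroup Ω) := finite_of_le D_le_S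
  refine le_antisymm (card_lt_of_ne h.card bet_le fun heq => ?_) ?_
  · obtain ⟨x, hx, y, hy, hxy⟩ := h.exists_SD
    apply hxy
    rw [commutatorElement_eq_one_iff_mul_comm]
    rw [← heq] at hx
    exact ((mem_centralizerIn.1 hx).2 y hy).symm
  · have h1 := card_le_centralizerIn h.pg (nrmD S) h.cardD
    rw [h.card, pow_succ'] at h1
    exact Nat.le_of_mul_le_mul_left h1 hpp.pos

theorem kS (h : MB p S) : Nat.card S = p * Nat.card (bet S) := by rw [h.card, h.cB]; ring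

theorem kB (h : MB p S) : Nat.card (bet S) = p * Nat.card (z2 S) := by rw [h.cB, h.c2]; ring

theorem k2 (h : MB p S) : Nat.card (z2 S) = p * Nat.card (⁅S, S⁆ : Subgroup Ω) := by
  rw [h.c2, h.cardD]; ring

theorem kD (h : MB p S) : Nat.card (⁅S, S⁆ : Subgroup Ω) = p * Nat.card (ZS S) := by
  rw [h.cardD, h.c1]; ring

theorem kZ (h : MB p S) : Nat.card (ZS S) = p * Nat.card (⊥ : Subgroup Ω) := by
  rw [h.c1, Subgroup.card_bot, mul_one]

theorem lt_of_card {U V : Subgroup Ω} [Finite V] (hc : Nat.card U = p * Nat.card V)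
    (h : U ≤ V) : False := by
  have h2 : Nat.card U ≤ Nat.card V := Nat.card_mono (Set.toFinite _) h
  rw [hc] at h2
  have h3 : 0 < Nat.card V := Nat.card_pos
  nlinarith [hp.out.one_lt]

/-- `Aut(S)` acts on `Z₂(S)/[S,S]` by squares. -/
theorem weights (h : MB p S) (α : MulAut S) : ∃ a c : ℤ, Wt α (z2 S) ⁅S, S⁆ c ∧
    (p : ℤ) ∣ c - a ^ 2 ∧ ¬ (p : ℤ) ∣ a := by
  have hfB : Finite (bet S) := finite_of_le bet_le
  have hf2 : Finite (z2 S) := finite_of_le z2_le
  have hfD : Finite (⁅S, S⁆ : Subgroup Ω) := finite_of_le D_le_S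
  have hfZ : Finite (ZS S) := finite_of_le ZS_le
  have nD2 : Nrm (z2 S) ⁅S, S⁆ := (nrmD S).mono z2_le
  have nZD : Nrm (⁅S, S⁆ : Subgroup Ω) (ZS S) := (nrm_ZS S).mono D_le_S
  obtain ⟨a, ha⟩ := exists_wt (τ := α) le_rfl bet_le nrm_bet h.kS (fun x _ => (α x).2)
    (charIn_bet α)
  obtain ⟨b, hb⟩ := exists_wt (τ := α) bet_le h.z2_le_bet (nrm_z2.mono bet_le) h.kB (charIn_bet α)
    (charIn_z2 α)
  obtain ⟨c, hc⟩ := exists_wt (τ := α) z2_le h.D_le nD2 h.k2 (charIn_z2 α)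
    (charIn_commutator S α)
  obtain ⟨f, hf⟩ := exists_wt (τ := α) D_le_S h.ZD nZD h.kD (charIn_commutator S α)
    (charIn_ZS S α)
  obtain ⟨g, hg⟩ := exists_wt (τ := α) ZS_le bot_le (nrm_bot _) h.kZ (charIn_ZS S α)
    (fun x hx => aut_bot α x hx)
  have hna := wt_not_dvd le_rfl bet_le nrm_bet h.kS charIn_bet ha
  have hnb := wt_not_dvd bet_le h.z2_le_bet (nrm_z2.mono bet_le) h.kB charIn_z2 hb
  have one : ∀ {x y : Ω}, x * y = y * x → ⁅x, y⁆ ∈ (⊥ : Subgroup Ω) := fun h => by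
    rw [Subgroup.mem_bot]
    exact commutatorElement_eq_one_iff_mul_comm.2 h
  have e2 : ∀ z ∈ z2 S, ∀ s ∈ S, ⁅z, s⁆ ∈ ZS S := fun z hz s hs => (mem_up.1 hz).2 s hs
  have e2' : ∀ s ∈ S, ∀ z ∈ z2 S, ⁅s, z⁆ ∈ ZS S := fun s hs z hz => comm_mem_symm (e2 z hz s hs)
  have e1 : ∀ z ∈ ZS S, ∀ s ∈ S, ⁅z, s⁆ ∈ (⊥ : Subgroup Ω) := fun z hz s hs =>
    one ((mem_ZS.1 hz).2 s hs).symm
  have e1' : ∀ s ∈ S, ∀ z ∈ ZS S, ⁅s, z⁆ ∈ (⊥ : Subgroup Ω) := fun s hs z hz =>
    one ((mem_ZS.1 hz).2 s hs)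
  have eB : ∀ u ∈ bet S, ∀ y ∈ ⁅S, S⁆, ⁅u, y⁆ ∈ (⊥ : Subgroup Ω) := fun u hu y hy =>
    one ((mem_centralizerIn.1 hu).2 y hy).symm
  -- `[B,B] ≤ Z`
  have eBB : ∀ u ∈ bet S, ∀ y ∈ bet S, ⁅u, y⁆ ∈ ZS S := by
    obtain ⟨b₀, hb₀, hb₀'⟩ : ∃ b ∈ bet S, b ∉ z2 S := by
      by_contra hcon
      push Not at hcon
      exact lt_of_card h.kB hcon
    intro u hu y hy
    obtain ⟨i, hi⟩ := exists_zpow_mod h.z2_le_bet (nrm_z2.mono bet_le) h.kB hb₀ hb₀' hu
    obtain ⟨j, hj⟩ := exists_zpow_mod h.z2_le_bet (nrm_z2.mono bet_le) h.kB hb₀ hb₀' hy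
    have hn : ((ZS S).subgroupOf S).Normal := (nrm_ZS S).normal
    set q := QuotientGroup.mk' ((ZS S).subgroupOf S) with hq
    have hq1 : ∀ z : S, q z = 1 ↔ (z : Ω) ∈ ZS S := fun z => QuotientGroup.eq_one_iff z
    set B₀ : S := ⟨b₀, bet_le hb₀⟩ with hB₀
    set U : S := ⟨u, bet_le hu⟩ with hU
    set Y : S := ⟨y, bet_le hy⟩ with hY
    set u' : S := (B₀ ^ i)⁻¹ * U with hu'
    set y' : S := (B₀ ^ j)⁻¹ * Y with hy'
    have hu2 : (u' : Ω) ∈ z2 S := hi
    have hy2 : (y' : Ω) ∈ z2 S := hj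
    have hcom : ∀ z w : S, ⁅(z : Ω), (w : Ω)⁆ ∈ ZS S → Commute (q z) (q w) := by
      intro z w h
      rw [← commutatorElement_eq_one_iff_commute, ← map_commutatorElement, hq1]
      exact h
    have eU : U = B₀ ^ i * u' := by rw [hu']; group
    have eY : Y = B₀ ^ j * y' := by rw [hy']; group
    clear_value u' y'
    have c1 : Commute (q U) (q Y) := by
      rw [eU, eY, map_mul, map_mul, map_zpow, map_zpow]
      have d1 : Commute (q B₀) (q y') := hcom _ _ (e2' _ B₀.2 _ hy2)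
      have d2 : Commute (q u') (q B₀) := hcom _ _ (e2 _ hu2 _ B₀.2)
      have d3 : Commute (q u') (q y') := hcom _ _ (e2 _ hu2 _ y'.2)
      exact (((Commute.refl (q B₀)).zpow_zpow i j).mul_right (d1.zpow_left i)).mul_left
        ((d2.zpow_right j).mul_right d3)
    rw [← commutatorElement_eq_one_iff_commute, ← map_commutatorElement, hq1] at c1
    exact c1
  -- the three rules
  have R1 : (p : ℤ) ∣ a * b - f := by
    obtain ⟨x, hx, y, hy, hxy⟩ : ∃ x ∈ S, ∃ y ∈ bet S, ⁅x, y⁆ ∉ ZS S := by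
      by_contra hcon
      push Not at hcon
      exact lt_of_card h.kB fun y hy => mem_up.2 ⟨bet_le hy, fun s hs =>
        comm_mem_symm (hcon s hs y hy)⟩
    exact Wt.rule (nrm_ZS S) ha hb hf le_rfl bet_le h.z2_le_bet eBB e2'
      (fun z hz s hs => e2 z (h.D_le hz) s hs) (fun z hz => pow_mem_of_card nZD h.ZD h.kD hz)
      hx hy (Subgroup.commutator_mem_commutator hx (bet_le hy)) hxy
  have R2 : (p : ℤ) ∣ a * f - g := by
    obtain ⟨x, hx, y, hy, hxy⟩ := h.exists_SD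
    exact Wt.rule (nrm_bot S) ha hf hg le_rfl D_le_S h.ZD eB e1' e1
      (fun z hz => pow_mem_of_card (nrm_bot _) bot_le h.kZ hz) hx hy (e2' x hx y (h.D_le hy))
      (by rw [Subgroup.mem_bot]; exact hxy)
  have R3 : (p : ℤ) ∣ b * c - g := by
    obtain ⟨x, hx, y, hy, hxy⟩ : ∃ x ∈ bet S, ∃ y ∈ z2 S, ⁅x, y⁆ ≠ 1 := by
      by_contra hcon
      push Not at hcon
      exact lt_of_card h.kB fun x hx => h.cent (mem_centralizerIn.2 ⟨bet_le hx, fun y hy =>
        (commutatorElement_eq_one_iff_mul_comm.1 (hcon x hx y hy)).symm⟩)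
    exact Wt.rule (nrm_bot S) hb hc hg bet_le z2_le h.D_le
      (fun u hu y hy => one (h.z2c u hu y hy)) eB e1
      (fun z hz => pow_mem_of_card (nrm_bot _) bot_le h.kZ hz) hx hy (e2' x (bet_le hx) y hy)
      (by rw [Subgroup.mem_bot]; exact hxy)
  refine ⟨a, c, hc, ?_, hna⟩
  have hpz : Prime (p : ℤ) := Nat.prime_iff_prime_int.1 hp.out
  have h1 : (p : ℤ) ∣ b * (c - a ^ 2) := by
    have e1 : b * (c - a ^ 2) = (b * c - g) - (a * f - g) - a * (a * b - f) := by ring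
    rw [e1]
    exact dvd_sub (dvd_sub R3 R2) (Dvd.dvd.mul_left R1 _)
  exact (hpz.dvd_or_dvd h1).resolve_left hnb

end MB

/-- An automorphism inverting `S/N` and `N/U`, where `S/U` is abelian, has a cube inverting
`S/U`. -/
theorem cube_inv {N U : Subgroup Ω} (hU : Nrm S U) (hSU : ∀ x ∈ S, ∀ y ∈ S, ⁅x, y⁆ ∈ U)
    (hUS : U ≤ S) (h3 : ∀ x ∈ N, x ^ 3 ∈ U) {τ : MulAut S} (hτU : CharIn S U)
    (h1 : Wt τ S N (-1)) (h2 : Wt τ N U (-1)) (x : S) : (x : Ω) * ((τ ^ 3) x : S) ∈ U := by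
  have hn : (U.subgroupOf S).Normal := hU.normal
  set q := QuotientGroup.mk' (U.subgroupOf S) with hq
  have hq1 : ∀ z : S, q z = 1 ↔ (z : Ω) ∈ U := fun z => QuotientGroup.eq_one_iff z
  have hcomm : ∀ x y : S, Commute (q x) (q y) := by
    intro x y
    rw [← commutatorElement_eq_one_iff_commute, ← map_commutatorElement, hq1]
    exact hSU x x.2 y y.2
  obtain ⟨n, hn'⟩ : ∃ n : S, n = x * τ x := ⟨_, rfl⟩
  have hnN : (n : Ω) ∈ N := by
    have := h1 x x.2
    rw [zpow_neg_one, inv_inv] at this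
    rw [hn']
    exact this
  have hinv : ∀ m : S, (m : Ω) ∈ N → q (τ m) = (q m)⁻¹ := by
    intro m hm
    have h4 := h2 m hm
    rw [zpow_neg_one, inv_inv] at h4
    have h5 : q (m * τ m) = 1 := (hq1 _).2 h4
    rw [map_mul] at h5
    exact (eq_inv_of_mul_eq_one_right h5)
  have hq2 : ∀ m m' : S, q m = q m' → q (τ m) = q (τ m') := by
    intro m m' h
    have h5 : q (m⁻¹ * m') = 1 := by rw [map_mul, map_inv, h, inv_mul_cancel]
    have h6 : q (τ (m⁻¹ * m')) = 1 := (hq1 _).2 (hτU τ _ ((hq1 _).1 h5))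
    rw [map_mul, map_inv, map_mul, map_inv, inv_mul_eq_one] at h6
    exact h6
  -- q(τ x) = q(x)⁻¹ q(n)
  have s1 : q (τ x) = q (x⁻¹ * n) := by rw [hn']; congr 1; group
  have s2 : q (τ (τ x)) = q (x * n⁻¹ * n⁻¹) := by
    rw [hq2 _ _ s1, map_mul τ, map_inv τ, map_mul q, map_inv q, hinv n hnN, s1, map_mul, map_mul,
      map_mul, map_inv, map_inv, mul_inv_rev, inv_inv]
    have := (hcomm n x)
    rw [(this.inv_left).eq]
  have s3 : q (τ (τ (τ x))) = q (x⁻¹ * n * n * n) := by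
    rw [hq2 _ _ s2, map_mul τ, map_mul τ, map_inv τ, map_mul q, map_mul q, map_inv q, hinv n hnN,
      s1, map_mul q, map_inv q, inv_inv, map_mul, map_mul, map_mul, map_inv]
  have s4 : q (x * (τ ^ 3) x) = q (n ^ 3) := by
    have e : (τ ^ 3) x = τ (τ (τ x)) := by
      rw [pow_succ, pow_succ, pow_one, MulAut.mul_apply, MulAut.mul_apply]
    rw [e, map_mul, s3, ← map_mul]
    congr 1
    rw [pow_succ, pow_succ, pow_one]
    group
  have s5 : q (n ^ 3) = 1 := (hq1 _).2 (h3 _ hnN)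
  rw [s5] at s4
  exact (hq1 _).1 s4

end Cfsg.Agent.H785
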