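import Cfsg.Agent.H785.FifthI

/-!
# The end of the proof (helper785)
-/

set_option autoImplicit false
set_option linter.unusedSectionVars false
set_option linter.unusedVariables false
set_option linter.style.haveILetI false

namespace Cfsg.Agent.H785

open Cfsg Cfsg.FusionSystem Cfsg.Agent.H802
open scoped commutatorElement

variable {Ω : Type*} [Group Ω] {S : Subgroup Ω} {p : ℕ} [hp : Fact p.Prime] [Finite S]
  {F : FusionSystem S}

/-- No abelian essential subgroup of order `p³`. -/
theorem Hyp.ab3_false (H : Hyp p F) (hhyp : F.hyperfocalSubgroup p = S) {A C : Subgroup Ω}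
    (h : Ab3 p F A C) : False := by
  have hpp := hp.out
  obtain ⟨A₀, hN⟩ := H.exists_ns h
  obtain ⟨h3, hstar, ⟨x₀, hx₀, y₀, hy₀, hxy₀⟩, τ, hτ, w1, w2⟩ := H.ab3_facts h hN
  have hAS := h.ess.1.1
  have hNS : normalizerIn S A ≤ S := inf_le_left
  have hAN : A ≤ normalizerIn S A := le_normalizerIn hAS
  have hA₀S : A₀ ≤ S := hN.A₀N.trans hNS
  have hWS : ZS (normalizerIn S A) ≤ S := ZS_le.trans hNS
  have hDS := hN.DW.trans hWS
  have hfA : Finite A := finite_of_le hAS
  have hfN : Finite (normalizerIn S A) := finite_of_le hNS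
  have hfA₀ : Finite A₀ := finite_of_le hA₀S
  have hfW : Finite (ZS (normalizerIn S A)) := finite_of_le hWS
  have hfZ : Finite (ZS S) := finite_of_le ZS_le
  have hcA₀ : Nat.card A₀ = p ^ 3 := by rw [hN.cA₀, h.cW]; ring
  -- the centre
  have hZW : ZS S ≤ ZS (normalizerIn S A) :=
    Hyp.ZS_le_of_centric (isCentric_of_le h.ess.1 hAN hNS)
  have hZne : ZS S ≠ ZS (normalizerIn S A) := by
    intro heq
    rw [← heq] at hy₀
    exact hxy₀ (commutatorElement_eq_one_iff_mul_comm.2 ((mem_ZS.1 hy₀).2 x₀ hx₀))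
  have hZc := card_lt_of_ne (n := 1) h.cW hZW hZne
  rw [pow_one] at hZc
  have hDZ := central_of_card H.hS hN.nD hDS hN.cD
  have hZ : (⁅normalizerIn S A, normalizerIn S A⁆ : Subgroup Ω) = ZS S :=
    Subgroup.eq_of_le_of_card_ge hDZ (by rw [hN.cD]; exact hZc)
  -- the second centre
  have hz2 : z2 S = A₀ := by
    apply le_antisymm
    · intro z hz
      have hz' := mem_up.1 hz
      refine (hN.mA₀ z).2 ⟨mem_normalizerIn_of_comm hAS hz'.1 fun x hx => ?_, fun s hs =>
        hZW (hz'.2 s hs)⟩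
      exact h.center_le (hZW (hz'.2 x (hAS hx)))
    · intro y hy
      refine mem_up.2 ⟨hA₀S hy, fun s hs => ?_⟩
      rw [← hZ]
      exact comm_mem_symm (hstar s hs y hy)
  have hMB : MB p S := by
    refine ⟨H.hS, H.card, by rw [← hZ]; exact hN.cD, by rw [hz2]; exact hcA₀, ?_, ?_, ?_⟩
    · rw [hz2]
      exact fun x hx y hy => hN.comm_A₀ hx hy
    · rw [hz2]
      exact H.cent_three hA₀S hcA₀ (fun x hx y hy => hN.comm_A₀ hx hy)
    · rw [← hZ]
      exact Subgroup.commutator_mono hNS hNS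
  have hfB : Finite (MB.bet S) := finite_of_le MB.bet_le
  have hf2 : Finite (z2 S) := finite_of_le z2_le
  have hfD : Finite (⁅S, S⁆ : Subgroup Ω) := finite_of_le MB.D_le_S
  have hSz : ∀ x ∈ S, ∀ y ∈ S, ⁅x, y⁆ ∈ z2 S := fun x hx y hy =>
    comm_mem_of_card_sq nrm_z2 z2_le (by rw [H.card, hMB.c2]; ring) hx hy
  have hcube : ∀ x ∈ normalizerIn S A, x ^ 3 ∈ z2 S := by
    intro x hx
    have h1 : Nat.card (normalizerIn S A) = p * Nat.card (z2 S) := by rw [hz2]; exact hN.cN
    have h2 := pow_mem_of_card (nrm_z2.mono hNS) (by rw [hz2]; exact hN.A₀N) h1 hx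
    rwa [h3] at h2
  obtain ⟨R, hRS, hne, hR, hβ⟩ := exists_split (F := F) H.hS H.p2 z2_le hMB.D_le
    (by
      intro heq
      have h1 := hMB.c2
      rw [← heq, hMB.cardD] at h1
      exact absurd (Nat.pow_right_injective hpp.two_le h1) (by norm_num)) le_rfl
    (fun α hα x hx => charIn_commutator S α x hx) (pow_mem hτ 3)
    (fun x => cube_inv nrm_z2 hSz z2_le hcube charIn_z2 w1 (by rw [hz2]; exact w2) x)
    (fun α hα w hw => by
      obtain ⟨a, c, hc, hca, hna⟩ := hMB.weights α
      have h1 : (p : ℤ) ∣ c - 1 := by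
        have h2 : (p : ℤ) ∣ a ^ 2 - 1 := by
          rw [h3] at hna ⊢
          exact three_sq hna
        have e1 : c - 1 = (c - a ^ 2) + (a ^ 2 - 1) := by ring
        rw [e1]
        exact dvd_add hca h2
      have h2 := hc.congr hMB.D_le ((MB.nrmD S).mono z2_le) hMB.k2 h1 w hw
      rwa [zpow_one] at h2)
    (fun α hα x => comm_inn H.hS H.hF 5
      (fun i => if i = 0 then S else if i = 1 then MB.bet S else if i = 2 then z2 S else
        if i = 3 then ⁅S, S⁆ else if i = 4 then ZS S else ⊥) rfl rfl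
      (by
        intro i hi
        interval_cases i
        · exact le_rfl
        · exact MB.bet_le
        · exact z2_le
        · exact MB.D_le_S
        · exact ZS_le
        · exact bot_le)
      (by
        intro i hi
        interval_cases i
        · exact fun α x _ => (α x).2
        · exact MB.charIn_bet
        · exact charIn_z2
        · exact charIn_commutator S
        · exact charIn_ZS S
        · exact fun α x hx => aut_bot α x hx)
      (by
        intro i hi
        interval_cases i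
        · exact MB.bet_le
        · exact hMB.z2_le_bet
        · exact hMB.D_le
        · exact hMB.ZD
        · exact bot_le)
      (by
        intro i hi
        interval_cases i
        · exact hMB.kS
        · exact hMB.kB
        · exact hMB.k2
        · exact hMB.kD
        · exact hMB.kZ) hα (pow_mem hτ 3) x)
  exact H.no_split hhyp hRS hne hR hβ

/-- Essential subgroups have order at least `p²`. -/
theorem Hyp.two_le (H : Hyp p F) {Q : Subgroup Ω} (hQ : F.IsEssential p Q) :
    ∃ k, 2 ≤ k ∧ k ≤ 4 ∧ Nat.card Q = p ^ k := by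
  obtain ⟨k, hk, hke⟩ := H.card_le_four hQ
  refine ⟨k, ?_, hk, hke⟩
  have hfQ : Finite Q := finite_of_le hQ.1.1
  by_contra hcon
  have hk2 : k < 2 := by omega
  interval_cases k
  · rw [pow_zero] at hke
    refine not_essential_of_flag H.hS H.hF (Q := Q) 0 (fun _ => ⊤) rfl ?_
      (fun i hi α hα x hx => Subgroup.mem_top _) (fun i hi => absurd hi (by omega)) hQ
    exact (Subgroup.eq_bot_of_card_eq _ (by rw [Subgroup.card_top, hke]))
  · rw [pow_one] at hke
    refine not_essential_of_flag H.hS H.hF (Q := Q) 1 (fun i => if i = 0 then ⊤ else ⊥) rfl rfl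
      ?_ ?_ hQ
    · intro i hi α hα x hx
      interval_cases i
      · exact Subgroup.mem_top _
      · have hx' : x ∈ (⊥ : Subgroup Q) := hx
        rw [Subgroup.mem_bot] at hx'
        rw [hx', map_one]
        exact Subgroup.one_mem _
    · intro i hi
      interval_cases i
      right
      show (⊥ : Subgroup Q).relIndex ⊤ = p
      rw [Subgroup.relIndex_top_right, Subgroup.index_bot, hke]

theorem Hyp.false_of (H : Hyp p F) (hhyp : F.hyperfocalSubgroup p = S) (hp7 : p ≠ 7) : False := by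
  have hpp := hp.out
  obtain ⟨Q, hQ, hQc⟩ := H.exists_small
  obtain ⟨k, hk2, hk, hke⟩ := H.two_le hQ
  interval_cases k
  · have h3 := H.pearl_prime hQ hke hp7
    obtain ⟨hMC, -, -, htor⟩ := H.pearl hQ hke
    obtain ⟨τ, hτ, h1, -⟩ := htor (-1) (-1) (by simp)
    exact H.mc_false hhyp h3 hMC hτ h1
  · by_cases hcomm : ∀ x ∈ Q, ∀ y ∈ Q, x * y = y * x
    · obtain ⟨C, h⟩ := H.exists_ab3 hQ hke hcomm
      exact H.ab3_false hhyp h
    · exact H.three_nonab hQ hke hcomm
  · rw [hke] at hQc
    exact absurd ((Nat.pow_le_pow_iff_right hpp.one_lt).1 hQc) (by norm_num)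

/-- **Main theorem.** -/
theorem exists_abelian_of_fifth (hS : IsPGroup p S) (hF : F.IsSaturated p) (hp2 : p ≠ 2)
    (hp7 : p ≠ 7) (hcard : Nat.card S = p ^ 5) (hcore : F.core = ⊥)
    (hhyp : F.hyperfocalSubgroup p = S) :
    ∃ A : Subgroup Ω, A ≤ S ∧ IsMulCommutative A ∧ (A.subgroupOf S).index = p := by
  have hpp := hp.out
  by_contra hcon
  push Not at hcon
  have key : ∀ A : Subgroup Ω, A ≤ S → (∀ x ∈ A, ∀ y ∈ A, x * y = y * x) →
      Nat.card A ≠ p ^ 4 := by
    intro A hA hcomm hc
    refine hcon A hA ⟨⟨fun x y => Subtype.ext (hcomm x x.2 y y.2)⟩⟩ ?_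
    have h1 := (A.subgroupOf S).card_mul_index
    rw [Nat.card_congr (Subgroup.subgroupOfEquivOfLe hA).toEquiv, hc, hcard, pow_succ] at h1
    exact Nat.eq_of_mul_eq_mul_left (pow_pos hpp.pos 4) h1
  refine Hyp.false_of (F := F) ⟨hS, hF, hp2, hcard, hcore, ?_⟩ hhyp hp7
  intro A hA hcomm
  by_contra hlt
  push Not at hlt
  have hfA : Finite A := finite_of_le hA
  have h1 := Subgroup.card_dvd_of_le hA
  rw [hcard] at h1
  obtain ⟨k, hk, hke⟩ := (Nat.dvd_prime_pow hpp).1 h1
  have h2 : p ^ 4 ∣ Nat.card A := by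
    rw [hke] at hlt ⊢
    exact pow_dvd_pow p ((Nat.pow_le_pow_iff_right hpp.one_lt).1 hlt)
  obtain ⟨K, hK⟩ := Sylow.exists_subgroup_card_pow_prime p h2
  refine key (K.map A.subtype) ?_ ?_ ?_
  · rintro _ ⟨x, -, rfl⟩
    exact hA x.2
  · rintro _ ⟨x, -, rfl⟩ _ ⟨y, -, rfl⟩
    exact hcomm x x.2 y y.2
  · rw [← hK]
    exact (Nat.card_congr (K.equivMapOfInjective _ A.subtype_injective).toEquiv).symm

end Cfsg.Agent.H785
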