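import Cfsg.Agent.H785.FifthR

/-!
# Groups of order `p⁵` of maximal class: weights of automorphisms (helper785)
-/

set_option autoImplicit false
set_option linter.unusedSectionVars false
set_option linter.unusedVariables false
set_option linter.style.haveILetI false

namespace Cfsg.Agent.H785

open Cfsg Cfsg.FusionSystem Cfsg.Agent.H802
open scoped commutatorElement

variable {Ω : Type*} [Group Ω] {S : Subgroup Ω} {p : ℕ} [hp : Fact p.Prime]

/-- Weights on sections of order `p` are prime to `p`. -/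
theorem wt_not_dvd {τ : MulAut S} {U V : Subgroup Ω} [Finite U] (hUS : U ≤ S) (hVU : V ≤ U)
    (hV : Nrm U V) (hc : Nat.card U = p * Nat.card V) (hτV : CharIn S V) {k : ℤ}
    (h : Wt τ U V k) : ¬ (p : ℤ) ∣ k := by
  rintro ⟨m, rfl⟩
  have hfV : Finite V := Finite.of_injective _ (Subgroup.inclusion_injective hVU)
  obtain ⟨x, hx, hxV⟩ : ∃ x ∈ U, x ∉ V := by
    by_contra hcon
    push Not at hcon
    have h1 : U = V := le_antisymm hcon hVU
    rw [h1] at hc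
    have h2 : 0 < Nat.card V := Nat.card_pos
    nlinarith [hp.out.one_lt]
  have h1 := h ⟨x, hUS hx⟩ hx
  have h2 : x ^ ((p : ℤ) * m) ∈ V := by
    rw [zpow_mul, zpow_natCast]
    exact V.zpow_mem (pow_mem_of_card hV hVU hc hx) m
  have h3 := V.mul_mem h2 h1
  rw [mul_inv_cancel_left] at h3
  exact hxV ((hτV.mem_iff τ ⟨x, hUS hx⟩).1 h3)

/-- Uniqueness of weights, from one element. -/
theorem wt_eq_of_mem {τ : MulAut S} {U V : Subgroup Ω} [Finite U] (hUS : U ≤ S) (hVU : V ≤ U)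
    (hV : Nrm U V) (hc : Nat.card U = p * Nat.card V) {k l : ℤ} (h : Wt τ U V k) {x : Ω} (hx : x ∈ U)
    (hxV : x ∉ V) (hl : (x ^ l)⁻¹ * (τ ⟨x, hUS hx⟩ : S) ∈ V) : (p : ℤ) ∣ k - l := by
  have hn : (V.subgroupOf U).Normal := hV.normal
  have h1 := h ⟨x, hUS hx⟩ hx
  have h2 := V.mul_mem h1 (V.inv_mem hl)
  have e : ((x ^ k)⁻¹ * (τ ⟨x, hUS hx⟩ : S)) * ((x ^ l)⁻¹ * (τ ⟨x, hUS hx⟩ : S))⁻¹ =
      x ^ (l - k) := by
    rw [zpow_sub]
    have : Commute (x ^ k)⁻¹ (x ^ l) :=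
      ((Commute.refl x).zpow_zpow k l).inv_left
    rw [mul_inv_rev, inv_inv, ← mul_assoc, mul_inv_cancel_right, this.eq]
  rw [e] at h2
  -- order of `x` modulo `V` is `p`
  set q := QuotientGroup.mk' (V.subgroupOf U) with hq
  have hq1 : ∀ z : U, q z = 1 ↔ (z : Ω) ∈ V := fun z => QuotientGroup.eq_one_iff z
  have h3 : q ⟨x, hx⟩ ≠ 1 := by
    rw [Ne, hq1]
    exact hxV
  have h4 : (q ⟨x, hx⟩) ^ p = 1 := by
    rw [← card_quot hVU hc]
    exact pow_card_eq_one'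
  have h5 := orderOf_eq_prime h4 h3
  have h6 : (q ⟨x, hx⟩) ^ (l - k) = 1 := by
    rw [← map_zpow, hq1]
    exact h2
  have h7 := orderOf_dvd_iff_zpow_eq_one.2 h6
  rw [h5] at h7
  have e2 : k - l = -(l - k) := by ring
  rw [e2]
  exact (dvd_neg).2 h7

/-- The second centre. -/
def z2 (S : Subgroup Ω) : Subgroup Ω := up S (ZS S) (nrm_ZS S)

theorem nrm_z2 : Nrm S (z2 S) := nrm_up ZS_le

theorem z2_le : z2 S ≤ S := up_le

/-- The third centre. -/
def z3 (S : Subgroup Ω) : Subgroup Ω := up S (z2 S) nrm_z2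

theorem nrm_z3 : Nrm S (z3 S) := nrm_up z2_le

theorem z3_le : z3 S ≤ S := up_le

/-- The centralizer of the second centre. -/
def gam (S : Subgroup Ω) : Subgroup Ω := centralizerIn S (z2 S)

theorem gam_le : gam S ≤ S := centralizerIn_le

theorem nrm_gam : Nrm S (gam S) := nrm_centralizerIn nrm_z2

theorem ZS_le_z2 : ZS S ≤ z2 S := le_up ZS_le

theorem z2_le_z3 : z2 S ≤ z3 S := le_up z2_le

theorem charIn_z2 : CharIn S (z2 S) := charIn_up (charIn_ZS S)

theorem charIn_z3 : CharIn S (z3 S) := charIn_up charIn_z2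

theorem charIn_gam : CharIn S (gam S) := charIn_centralizerIn z2_le charIn_z2

/-- The groups of order `p⁵` of maximal class without abelian subgroup of index `p`. -/
structure MC (p : ℕ) (S : Subgroup Ω) : Prop where
  pg : IsPGroup p S
  card : Nat.card S = p ^ 5
  c1 : Nat.card (ZS S) = p
  c2 : Nat.card (z2 S) = p ^ 2
  c3 : Nat.card (z3 S) = p ^ 3
  noab : ∀ A : Subgroup Ω, A ≤ S → (∀ x ∈ A, ∀ y ∈ A, x * y = y * x) → Nat.card A < p ^ 4

namespace MC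

variable [Finite S]

theorem cG (h : MC p S) : Nat.card (gam S) = p ^ 4 := by
  have hpp := hp.out
  have hf2 : Finite (z2 S) := finite_of_le z2_le
  have hfZ : Finite (ZS S) := finite_of_le ZS_le
  refine le_antisymm (card_lt_of_ne h.card gam_le fun heq => ?_) ?_
  · have h1 : z2 S ≤ ZS S := by
      intro w hw
      rw [mem_ZS]
      refine ⟨z2_le hw, fun x hx => ?_⟩
      rw [← heq] at hx
      exact ((mem_centralizerIn.1 hx).2 w hw).symm
    have h2 : Nat.card (z2 S) ≤ Nat.card (ZS S) := Nat.card_mono (Set.toFinite _) h1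
    rw [h.c1, h.c2] at h2
    nlinarith [hpp.one_lt]
  · have h1 := card_le_centralizerIn h.pg nrm_z2 h.c2
    rw [h.card, pow_succ'] at h1
    exact Nat.le_of_mul_le_mul_left h1 hpp.pos

theorem card_S (h : MC p S) : Nat.card S = p * Nat.card (gam S) := by rw [h.card, h.cG]; ring

theorem z2_le_gam (h : MC p S) : z2 S ≤ gam S := by
  intro w hw
  refine mem_centralizerIn.2 ⟨z2_le hw, fun x hx => ?_⟩
  exact congrArg Subtype.val (mul_comm_of_card_sq h.c2 (⟨x, hx⟩ : z2 S) ⟨w, hw⟩)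

theorem gam_comm (h : MC p S) {x y : Ω} (hx : x ∈ gam S) (hy : y ∈ gam S) : ⁅x, y⁆ ∈ z2 S := by
  have hfG : Finite (gam S) := finite_of_le gam_le
  exact comm_mem_of_card_sq (nrm_z2.mono gam_le) h.z2_le_gam (by rw [h.cG, h.c2]; ring) hx hy

theorem z3_le_gam (h : MC p S) : z3 S ≤ gam S := by
  have hpp := hp.out
  have hfG : Finite (gam S) := finite_of_le gam_le
  have hf3 : Finite (z3 S) := finite_of_le z3_le
  intro x hx
  by_contra hxG
  have h1 : gam S ≤ z3 S := by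
    intro g hg
    refine mem_up.2 ⟨gam_le hg, fun s hs => ?_⟩
    obtain ⟨j, hj⟩ := exists_zpow_mod gam_le nrm_gam h.card_S (z3_le hx) hxG hs
    set g' := (x ^ j)⁻¹ * s with hg'
    have e : ⁅g, s⁆ = ⁅g, x ^ j⁆ * (x ^ j * ⁅g, g'⁆ * (x ^ j)⁻¹) := by
      have : s = x ^ j * g' := by rw [hg']; group
      rw [this]
      simp only [commutatorElement_def]
      group
    rw [e]
    have hxj : x ^ j ∈ z3 S := (z3 S).zpow_mem hx j
    refine (z2 S).mul_mem ?_ (nrm_z2 _ (z3_le hxj) _ (h.gam_comm hg hj))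
    rw [← commutatorElement_inv]
    exact (z2 S).inv_mem ((mem_up.1 hxj).2 g (gam_le hg))
  have h2 : Nat.card (gam S) ≤ Nat.card (z3 S) := Nat.card_mono (Set.toFinite _) h1
  rw [h.cG, h.c3] at h2
  exact absurd ((Nat.pow_le_pow_iff_right hpp.one_lt).1 h2) (by norm_num)

theorem z2_cen (h : MC p S) {w x : Ω} (hw : w ∈ z2 S) (hx : x ∈ gam S) : x * w = w * x :=
  ((mem_centralizerIn.1 hx).2 w hw).symm

theorem z3_comm (h : MC p S) {x y : Ω} (hx : x ∈ z3 S) (hy : y ∈ z3 S) : x * y = y * x := by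
  have hf3 : Finite (z3 S) := finite_of_le z3_le
  exact mul_comm_of_central (p := p) z2_le_z3 (by rw [h.c3, h.c2]; ring)
    (fun w hw x hx => h.z2_cen hw (h.z3_le_gam hx)) hx hy

theorem one_comm {x y : Ω} (h : x * y = y * x) : ⁅x, y⁆ = 1 :=
  commutatorElement_eq_one_iff_mul_comm.2 h

/-- `[Γ, Z₃] ≤ Z₁`. -/
theorem r4 (h : MC p S) {x y : Ω} (hx : x ∈ gam S) (hy : y ∈ z3 S) : ⁅x, y⁆ ∈ ZS S := by
  have hf3 : Finite (z3 S) := finite_of_le z3_le
  have hc : ⁅x, y⁆ ∈ z2 S := by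
    rw [← commutatorElement_inv]
    exact (z2 S).inv_mem ((mem_up.1 hy).2 x (gam_le hx))
  rw [mem_ZS]
  refine ⟨z2_le hc, fun s hs => ?_⟩
  set m := ⁅s, x⁆ with hm
  set l := ⁅s, y⁆ with hl
  have hmz : m ∈ z3 S := by
    rw [hm]
    exact comm_mem_of_index' h.pg nrm_gam nrm_z3 h.z3_le_gam gam_le
      (Or.inr (by rw [h.cG, h.c3]; ring)) hx hs
  have hlz : l ∈ z2 S := by
    rw [hl, ← commutatorElement_inv]
    exact (z2 S).inv_mem ((mem_up.1 hy).2 s hs)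
  have hmg := h.z3_le_gam hmz
  have hyg := h.z3_le_gam hy
  have e1 : s * ⁅x, y⁆ * s⁻¹ = ⁅m * x, l * y⁆ := by
    rw [hm, hl]
    simp only [commutatorElement_def]
    group
  have c1 : (m * x) * l = l * (m * x) := h.z2_cen hlz ((gam S).mul_mem hmg hx)
  have c2 : ⁅x, y⁆ * m = m * ⁅x, y⁆ := (h.z2_cen hc hmg).symm
  have c3 : m * y = y * m := h.z3_comm hmz hy
  have e2 : ⁅m * x, l * y⁆ = ⁅x, y⁆ := by
    calc ⁅m * x, l * y⁆ = (m * x) * l * y * (m * x)⁻¹ * (l * y)⁻¹ := by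
          rw [commutatorElement_def]; group
      _ = l * (m * x) * y * (m * x)⁻¹ * (l * y)⁻¹ := by rw [c1]
      _ = l * (m * ⁅x, y⁆ * m⁻¹ * ⁅m, y⁆) * l⁻¹ := by
          simp only [commutatorElement_def]; group
      _ = l * (⁅x, y⁆ * m * m⁻¹ * ⁅m, y⁆) * l⁻¹ := by rw [c2]
      _ = l * ⁅x, y⁆ * l⁻¹ := by rw [one_comm c3]; group
      _ = ⁅x, y⁆ := by
          have c4 : l * ⁅x, y⁆ = ⁅x, y⁆ * l := h.z2_cen hc (h.z2_le_gam hlz)
          rw [c4, mul_inv_cancel_right]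
  rw [e2] at e1
  exact mul_inv_eq_iff_eq_mul.1 e1

theorem exists_r1 (h : MC p S) : ∃ x ∈ S, ∃ y ∈ gam S, ⁅x, y⁆ ∉ z2 S := by
  have hf3 : Finite (z3 S) := finite_of_le z3_le
  by_contra hcon
  push Not at hcon
  have h1 : gam S ≤ z3 S := by
    intro g hg
    refine mem_up.2 ⟨gam_le hg, fun s hs => ?_⟩
    rw [← commutatorElement_inv]
    exact (z2 S).inv_mem (hcon s hs g hg)
  have h2 : Nat.card (gam S) ≤ Nat.card (z3 S) := Nat.card_mono (Set.toFinite _) h1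
  rw [h.cG, h.c3] at h2
  exact absurd ((Nat.pow_le_pow_iff_right hp.out.one_lt).1 h2) (by norm_num)

theorem exists_r2 (h : MC p S) : ∃ x ∈ S, ∃ y ∈ z3 S, ⁅x, y⁆ ∉ ZS S := by
  have hf2 : Finite (z2 S) := finite_of_le z2_le
  by_contra hcon
  push Not at hcon
  have h1 : z3 S ≤ z2 S := by
    intro g hg
    refine mem_up.2 ⟨z3_le hg, fun s hs => ?_⟩
    rw [← commutatorElement_inv]
    exact (ZS S).inv_mem (hcon s hs g hg)
  have h2 : Nat.card (z3 S) ≤ Nat.card (z2 S) := Nat.card_mono (Set.toFinite _) h1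
  rw [h.c2, h.c3] at h2
  exact absurd ((Nat.pow_le_pow_iff_right hp.out.one_lt).1 h2) (by norm_num)

theorem exists_r3 (h : MC p S) : ∃ x ∈ S, ∃ y ∈ z2 S, ⁅x, y⁆ ≠ 1 := by
  have hf2 : Finite (ZS S) := finite_of_le ZS_le
  by_contra hcon
  push Not at hcon
  have h1 : z2 S ≤ ZS S := by
    intro g hg
    exact mem_ZS.2 ⟨z2_le hg, fun s hs => commutatorElement_eq_one_iff_mul_comm.1 (hcon s hs g hg)⟩
  have h2 : Nat.card (z2 S) ≤ Nat.card (ZS S) := Nat.card_mono (Set.toFinite _) h1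
  rw [h.c2, h.c1] at h2
  nlinarith [hp.out.one_lt]

theorem exists_r4 (h : MC p S) : ∃ x ∈ gam S, ∃ y ∈ z3 S, ⁅x, y⁆ ≠ 1 := by
  have hfG : Finite (gam S) := finite_of_le gam_le
  by_contra hcon
  push Not at hcon
  have h1 := h.noab (gam S) gam_le (fun x hx y hy =>
    mul_comm_of_central (p := p) h.z3_le_gam (by rw [h.cG, h.c3]; ring)
      (fun w hw x hx => commutatorElement_eq_one_iff_mul_comm.1 (hcon x hx w hw)) hx hy)
  rw [h.cG] at h1
  exact lt_irrefl _ h1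

/-- **Weights.** -/
theorem weights (h : MC p S) (α : MulAut S) : ∃ a b e : ℤ, Wt α S (gam S) a ∧
    Wt α (gam S) (z3 S) b ∧ Wt α (ZS S) ⊥ e ∧ (p : ℤ) ∣ b - a ^ 2 ∧ (p : ℤ) ∣ e - a ^ 5 ∧
    ¬ (p : ℤ) ∣ a := by
  have hfG : Finite (gam S) := finite_of_le gam_le
  have hf2 : Finite (z2 S) := finite_of_le z2_le
  have hf3 : Finite (z3 S) := finite_of_le z3_le
  have hfZ : Finite (ZS S) := finite_of_le ZS_le
  have k1 : Nat.card (gam S) = p * Nat.card (z3 S) := by rw [h.cG, h.c3]; ring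
  have k2 : Nat.card (z3 S) = p * Nat.card (z2 S) := by rw [h.c3, h.c2]; ring
  have k3 : Nat.card (z2 S) = p * Nat.card (ZS S) := by rw [h.c2, h.c1]; ring
  have k4 : Nat.card (ZS S) = p * Nat.card (⊥ : Subgroup Ω) := by
    rw [h.c1, Subgroup.card_bot, mul_one]
  obtain ⟨a, ha⟩ := exists_wt (τ := α) le_rfl gam_le nrm_gam h.card_S (fun x _ => (α x).2)
    (charIn_gam α)
  obtain ⟨b, hb⟩ := exists_wt (τ := α) gam_le h.z3_le_gam (nrm_z3.mono gam_le) k1 (charIn_gam α)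
    (charIn_z3 α)
  obtain ⟨c, hc⟩ := exists_wt (τ := α) z3_le z2_le_z3 (nrm_z2.mono z3_le) k2 (charIn_z3 α)
    (charIn_z2 α)
  obtain ⟨d, hd⟩ := exists_wt (τ := α) z2_le ZS_le_z2 ((nrm_ZS S).mono z2_le) k3 (charIn_z2 α)
    (charIn_ZS S α)
  obtain ⟨e, he⟩ := exists_wt (τ := α) ZS_le bot_le (nrm_bot _) k4 (charIn_ZS S α)
    (fun x hx => by
      rw [Subgroup.mem_bot] at hx ⊢
      have : x = 1 := Subtype.ext hx
      rw [this, map_one]
      rfl)
  have hna := wt_not_dvd le_rfl gam_le nrm_gam h.card_S charIn_gam ha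
  have hnb := wt_not_dvd gam_le h.z3_le_gam (nrm_z3.mono gam_le) k1 charIn_z3 hb
  have hz3 : ∀ x ∈ S, ∀ v ∈ z3 S, ⁅x, v⁆ ∈ z2 S := fun x hx v hv => by
    rw [← commutatorElement_inv]
    exact (z2 S).inv_mem ((mem_up.1 hv).2 x hx)
  have hz2 : ∀ x ∈ S, ∀ v ∈ z2 S, ⁅x, v⁆ ∈ ZS S := fun x hx v hv => by
    rw [← commutatorElement_inv]
    exact (ZS S).inv_mem ((mem_up.1 hv).2 x hx)
  have hz1 : ∀ x ∈ S, ∀ v ∈ ZS S, ⁅x, v⁆ ∈ (⊥ : Subgroup Ω) := fun x hx v hv => by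
    rw [Subgroup.mem_bot]
    exact one_comm ((mem_ZS.1 hv).2 x hx)
  -- the four rules
  have R1 : (p : ℤ) ∣ a * b - c := by
    obtain ⟨x, hx, y, hy, hxy⟩ := h.exists_r1
    exact Wt.rule nrm_z2 ha hb hc le_rfl gam_le h.z3_le_gam (fun u hu y hy => h.gam_comm hu hy)
      hz3 (fun z hz s hs => (mem_up.1 hz).2 s hs)
      (fun z hz => pow_mem_of_card (nrm_z2.mono z3_le) z2_le_z3 k2 hz) hx hy
      (comm_mem_of_index' h.pg nrm_gam nrm_z3 h.z3_le_gam gam_le (Or.inr k1) hy hx) hxy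
  have R2 : (p : ℤ) ∣ a * c - d := by
    obtain ⟨x, hx, y, hy, hxy⟩ := h.exists_r2
    exact Wt.rule (nrm_ZS S) ha hc hd le_rfl z3_le z2_le_z3 (fun u hu y hy => h.r4 hu hy)
      hz2 (fun z hz s hs => (mem_up.1 hz).2 s hs)
      (fun z hz => pow_mem_of_card ((nrm_ZS S).mono z2_le) ZS_le_z2 k3 hz) hx hy
      (hz3 x hx y hy) hxy
  have R3 : (p : ℤ) ∣ a * d - e := by
    obtain ⟨x, hx, y, hy, hxy⟩ := h.exists_r3
    exact Wt.rule (nrm_bot S) ha hd he le_rfl z2_le ZS_le_z2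
      (fun u hu y hy => by rw [Subgroup.mem_bot]; exact one_comm (h.z2_cen hy hu))
      hz1 (fun z hz s hs => by
        rw [Subgroup.mem_bot]
        exact one_comm ((mem_ZS.1 hz).2 s hs).symm)
      (fun z hz => pow_mem_of_card (nrm_bot _) bot_le k4 hz) hx hy (hz2 x hx y hy)
      (by rw [Subgroup.mem_bot]; exact hxy)
  have R4 : (p : ℤ) ∣ b * c - e := by
    obtain ⟨x, hx, y, hy, hxy⟩ := h.exists_r4
    exact Wt.rule (nrm_bot S) hb hc he gam_le z3_le z2_le_z3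
      (fun u hu y hy => by rw [Subgroup.mem_bot]; exact one_comm (h.z3_comm hu hy))
      (fun x hx v hv => by rw [Subgroup.mem_bot]; exact one_comm (h.z2_cen hv hx))
      (fun z hz s hs => by
        rw [Subgroup.mem_bot]
        exact one_comm ((mem_ZS.1 hz).2 s hs).symm)
      (fun z hz => pow_mem_of_card (nrm_bot _) bot_le k4 hz) hx hy (h.r4 hx hy)
      (by rw [Subgroup.mem_bot]; exact hxy)
  have hpz : Prime (p : ℤ) := Nat.prime_iff_prime_int.1 hp.out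
  have hba : (p : ℤ) ∣ b - a ^ 2 := by
    have h1 : (p : ℤ) ∣ a * b * (b - a ^ 2) := by
      have e1 : a * b * (b - a ^ 2) = b * (a * b - c) + (b * c - e) - (a * d - e) -
          a * (a * c - d) - a * (a * (a * b - c)) := by ring
      rw [e1]
      exact dvd_sub (dvd_sub (dvd_sub (dvd_add (Dvd.dvd.mul_left R1 _) R4) R3)
        (Dvd.dvd.mul_left R2 _)) (Dvd.dvd.mul_left (Dvd.dvd.mul_left R1 _) _)
    rcases hpz.dvd_or_dvd h1 with h2 | h2
    · rcases hpz.dvd_or_dvd h2 with h3 | h3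
      · exact absurd h3 hna
      · exact absurd h3 hnb
    · exact h2
  refine ⟨a, b, e, ha, hb, he, hba, ?_, hna⟩
  have e1 : e - a ^ 5 = a ^ 3 * (b - a ^ 2) - (a * d - e) - a * (a * c - d) -
      a * (a * (a * b - c)) := by ring
  rw [e1]
  exact dvd_sub (dvd_sub (dvd_sub (Dvd.dvd.mul_left hba _) R3) (Dvd.dvd.mul_left R2 _))
    (Dvd.dvd.mul_left (Dvd.dvd.mul_left R1 _) _)

end MC

end Cfsg.Agent.H785
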