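import Cfsg.Agent.H785.FifthT

/-!
# Extending automorphisms of non-essential subgroups; the focal subgroup (helper785)
-/

set_option autoImplicit false
set_option linter.unusedSectionVars false
set_option linter.unusedVariables false
set_option linter.style.haveILetI false

namespace Cfsg.Agent.H785

open Cfsg Cfsg.FusionSystem Cfsg.Agent.H802
open scoped commutatorElement

/-- Sylow's theorem inside `D`. -/
theorem conj_into {G : Type*} [Group G] [Finite G] {p : ℕ} [Fact p.Prime] {T D : Subgroup G}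
    (hTD : T ≤ D) (hT : IsPGroup p T)
    (hmax : ∀ B : Subgroup G, B ≤ D → IsPGroup p B → Nat.card B ≤ Nat.card T) {B : Subgroup G}
    (hB : B ≤ D) (hBp : IsPGroup p B) : ∃ h ∈ D, ∀ b ∈ B, h * b * h⁻¹ ∈ T := by
  have h1 : IsPGroup p (T.subgroupOf D) := hT.comap_of_injective _ D.subtype_injective
  have h2 : IsPGroup p (B.subgroupOf D) := hBp.comap_of_injective _ D.subtype_injective
  obtain ⟨P, hP⟩ := h1.exists_le_sylow
  obtain ⟨P', hP'⟩ := h2.exists_le_sylow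
  have h3 : (P : Subgroup D) = T.subgroupOf D := by
    refine (Subgroup.eq_of_le_of_card_ge hP ?_).symm
    have h4 := hmax ((P : Subgroup D).map D.subtype) (by
      rintro _ ⟨x, -, rfl⟩
      exact x.2) (P.isPGroup'.map _)
    rw [Nat.card_congr ((P : Subgroup D).equivMapOfInjective _ D.subtype_injective).symm.toEquiv] at h4
    rwa [Nat.card_congr (Subgroup.subgroupOfEquivOfLe hTD).toEquiv]
  obtain ⟨g, hg⟩ := MulAction.exists_smul_eq D P' P
  refine ⟨g, g.2, fun b hb => ?_⟩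
  have h4 : (⟨b, hB hb⟩ : D) ∈ (P' : Subgroup D) := hP' hb
  have h5 : g * ⟨b, hB hb⟩ * g⁻¹ ∈ (P : Subgroup D) := by
    rw [← hg, Sylow.coe_subgroup_smul]
    exact ⟨_, h4, rfl⟩
  rw [h3] at h5
  exact h5

variable {Ω : Type*} [Group Ω] {S : Subgroup Ω} {p : ℕ} [hp : Fact p.Prime] [Finite S]
  {F : FusionSystem S}

theorem nrm_normalizerIn (S Q : Subgroup Ω) : Nrm (normalizerIn S Q) Q :=
  fun _ hg x hx => (Subgroup.mem_normalizer_iff.1 hg.2 x).1 hx

/-- `Aut_S(Q) = ⟨s⟩ Inn(Q)` when `|N_S(Q) : Q| = p`. -/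
theorem exists_zpow_mul_of_card {Q : Subgroup Ω} (hQS : Q ≤ S)
    (hc : Nat.card (normalizerIn S Q) = p * Nat.card Q) {g : Ω}
    (hg : g ∈ normalizerIn S Q) (hgQ : g ∉ Q) {s : MulAut Q} (hs : ∀ x : Q, ((s x : Q) : Ω) = g * x * g⁻¹)
    {δ : MulAut Q} (hδ : δ ∈ autInducedBy S Q) : ∃ j : ℤ, ∃ ι ∈ Inn Q, δ = s ^ j * ι := by
  have hNS : normalizerIn S Q ≤ S := inf_le_left
  have hfN : Finite (normalizerIn S Q) := finite_of_le hNS
  obtain ⟨n, hn, hne⟩ := (mem_autInducedBy_iff S Q δ).1 hδ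
  have hnN : n ∈ normalizerIn S Q := ⟨hn, mem_normalizer_of_aut hne⟩
  obtain ⟨j, hj⟩ := exists_zpow_mod (le_normalizerIn hQS) (nrm_normalizerIn S Q) hc hg hgQ hnN
  refine ⟨j, MulAut.conj ⟨_, hj⟩, ⟨_, rfl⟩, ?_⟩
  have h1 : s = conjHom (normalizerIn S Q) Q (nrm_normalizerIn S Q) ⟨g, hg⟩ := by
    ext x
    exact hs x
  have h2 : δ = conjHom (normalizerIn S Q) Q (nrm_normalizerIn S Q) ⟨n, hnN⟩ := by
    ext x
    exact hne x
  rw [h1, h2, ← map_zpow]
  ext x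
  rw [MulAut.mul_apply, coe_conjHom, coe_conjHom]
  show n * x * n⁻¹ = ((⟨g, hg⟩ ^ j : normalizerIn S Q) : Ω) *
    (((g ^ j)⁻¹ * n) * x * ((g ^ j)⁻¹ * n)⁻¹) * ((⟨g, hg⟩ ^ j : normalizerIn S Q) : Ω)⁻¹
  rw [Subgroup.coe_zpow]
  group

theorem conj_mem_of_card {Q : Subgroup Ω} (hQS : Q ≤ S)
    (hc : Nat.card (normalizerIn S Q) = p * Nat.card Q) {g : Ω}
    (hg : g ∈ normalizerIn S Q) (hgQ : g ∉ Q) {s : MulAut Q} (hs : ∀ x : Q, ((s x : Q) : Ω) = g * x * g⁻¹)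
    {α : MulAut Q} (hα : α * s * α⁻¹ ∈ autInducedBy S Q) :
    ∀ δ ∈ autInducedBy S Q, α * δ * α⁻¹ ∈ autInducedBy S Q := by
  intro δ hδ
  obtain ⟨j, ι, hι, rfl⟩ := exists_zpow_mul_of_card hQS hc hg hgQ hs hδ
  have e : α * (s ^ j * ι) * α⁻¹ = (α * s * α⁻¹) ^ j * (α * ι * α⁻¹) := by
    rw [conj_zpow]
    group
  rw [e]
  exact Subgroup.mul_mem _ (Subgroup.zpow_mem _ hα j)
    (inn_le_autInducedBy hQS ((innNormal Q).conj_mem ι hι α))

/-- If `α` extends to `ψ : R → S`, then `α c_g α⁻¹ = c_{ψ(g)}` for `g ∈ N_R(Q)`. -/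
theorem conj_mem_of_ext {Q R : Subgroup Ω} (hQR : Q ≤ R) {α : MulAut Q} {ψ : R →* Ω}
    (hψ : ψ ∈ F.Hom R) (he : ∀ x : Q, ψ ⟨x, hQR x.2⟩ = (α x : Q)) {g : Ω} (hg : g ∈ R)
    {β : MulAut Q} (hβ : ∀ x : Q, ((β x : Q) : Ω) = g * x * g⁻¹) :
    α * β * α⁻¹ ∈ autInducedBy S Q := by
  refine conj_mem_autInducedBy (hom_apply_mem hψ ⟨g, hg⟩) fun x => ?_
  rw [MulAut.mul_apply, MulAut.mul_apply]
  have h1 : ((α (β (α⁻¹ x)) : Q) : Ω) = ψ ⟨_, hQR (β (α⁻¹ x)).2⟩ := (he _).symm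
  have h2 : (⟨_, hQR (β (α⁻¹ x)).2⟩ : R) = ⟨g, hg⟩ * ⟨_, hQR (α⁻¹ x).2⟩ * ⟨g, hg⟩⁻¹ :=
    Subtype.ext (hβ _)
  have h3 : ψ ⟨_, hQR (α⁻¹ x).2⟩ = x := by
    rw [he]
    have : α (α⁻¹ x) = x := α.apply_symm_apply x
    rw [this]
  rw [h1, h2, map_mul, map_mul, map_inv, h3]

/-- **Extension step.** If `X` is fully normalized and centric, not essential, `|N_S(X) : X| = p`, then every element
of `Aut_F(X)` extends to an element of `Aut_F(N_S(X))`. -/
theorem ext_step (hS : IsPGroup p S) (hF : F.IsSaturated p) {X : Subgroup Ω}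
    (hXn : F.IsFullyNormalized X) (hXc : F.IsCentric X) (hne : ¬ F.IsEssential p X)
    (hc : Nat.card (normalizerIn S X) = p * Nat.card X) {α : MulAut X} (hα : α ∈ F.autGroup X) :
    ∃ β ∈ F.autGroup (normalizerIn S X), ∀ (x : Ω) (hx : x ∈ X) (hx' : x ∈ normalizerIn S X),
      ((β ⟨x, hx'⟩ : normalizerIn S X) : Ω) = (α ⟨x, hx⟩ : X) := by
  have hXS := hXn.1
  have hfX : Finite X := finite_of_le hXS
  have hneS : X ≠ S := by
    rintro rfl
    have h1 : normalizerIn X X ≤ X := inf_le_left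
    have h2 : Nat.card (normalizerIn X X) ≤ Nat.card X := Nat.card_mono (Set.toFinite _) h1
    rw [hc] at h2
    have h3 : 0 < Nat.card X := Nat.card_pos
    nlinarith [hp.out.one_lt]
  have hr := isReceptive_of_isFullyNormalized hS hF hXn
  let D : Subgroup (MulAut X) :=
    { carrier := {α | (∀ δ ∈ autInducedBy S X, α * δ * α⁻¹ ∈ autInducedBy S X) ∧
        ∀ δ ∈ autInducedBy S X, α⁻¹ * δ * α ∈ autInducedBy S X}
      one_mem' := ⟨fun δ hδ => by simpa using hδ, fun δ hδ => by simpa using hδ⟩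
      mul_mem' := by
        rintro a b ⟨ha, ha'⟩ ⟨hb, hb'⟩
        refine ⟨fun δ hδ => ?_, fun δ hδ => ?_⟩
        · have := ha _ (hb δ hδ)
          have e : a * (b * δ * b⁻¹) * a⁻¹ = a * b * δ * (a * b)⁻¹ := by group
          rwa [e] at this
        · have := hb' _ (ha' δ hδ)
          have e : b⁻¹ * (a⁻¹ * δ * a) * b = (a * b)⁻¹ * δ * (a * b) := by group
          rwa [e] at this
      inv_mem' := by
        rintro a ⟨ha, ha'⟩
        refine ⟨fun δ hδ => ?_, fun δ hδ => ?_⟩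
        · rw [inv_inv]
          exact ha' δ hδ
        · rw [inv_inv]
          exact ha δ hδ }
  have hD : ∀ α ∈ F.autGroup X, Extends F X α → α ∈ D := by
    rintro α hα ⟨R, hXR, hcard, ψ, hψ, he⟩
    have hRS := hom_le hψ
    have hneR : X ≠ R := by
      rintro rfl
      exact lt_irrefl _ hcard
    obtain ⟨g, hg, hgX⟩ := SetLike.exists_of_lt (lt_inf_normalizer hS hXR hRS hneR)
    obtain ⟨β, hβ⟩ := exists_conjAut hg.2
    have hgN : g ∈ normalizerIn S X := ⟨hRS hg.1, hg.2⟩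
    have h1 := conj_mem_of_ext hXR hψ he hg.1 hβ
    have h2 := conj_mem_of_card hXS hc hgN hgX hβ h1
    refine ⟨h2, fun δ hδ => ?_⟩
    -- conjugation by `α` is a bijection of the finite set
    have hfin : Finite (autInducedBy S X) := inferInstance
    have hinj : Function.Injective (fun δ : autInducedBy S X =>
        (⟨α * δ * α⁻¹, h2 δ δ.2⟩ : autInducedBy S X)) := by
      intro a b hab
      have h3 : α * (a : MulAut X) * α⁻¹ = α * b * α⁻¹ := congrArg Subtype.val hab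
      exact Subtype.ext (mul_left_cancel (mul_right_cancel h3))
    obtain ⟨ε, hε⟩ := Finite.surjective_of_injective hinj ⟨δ, hδ⟩
    have h3 : α * (ε : MulAut X) * α⁻¹ = δ := congrArg Subtype.val hε
    rw [← h3]
    have e : α⁻¹ * (α * (ε : MulAut X) * α⁻¹) * α = ε := by group
    rw [e]
    exact ε.2
  have hle : F.autGroup X ≤ D := by
    by_contra hnot
    exact hne (isEssential_of_not_le hS hF hXn hXc hneS D hD hnot)
  exact exists_aut_normalizerIn hr hα (hle hα).1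

/-- Frattini argument for a normal subgroup of `Aut_F(Q)` containing `Aut_S(Q)`. -/
theorem frattini_tri (hS : IsPGroup p S) (hF : F.IsSaturated p) {Q : Subgroup Ω}
    (hQn : F.IsFullyNormalized Q) {K : Subgroup (MulAut Q)} (hKA : K ≤ F.autGroup Q)
    (hK : ∀ a ∈ F.autGroup Q, ∀ k ∈ K, a * k * a⁻¹ ∈ K) (hSK : autInducedBy S Q ≤ K)
    {α : MulAut Q} (hα : α ∈ F.autGroup Q) :
    ∃ k ∈ K, ∀ δ ∈ autInducedBy S Q, (k * α) * δ * (k * α)⁻¹ ∈ autInducedBy S Q := by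
  have hQS := hQn.1
  have hfQ : Finite Q := finite_of_le hQS
  have hfa := isFullyAutomized_of_isFullyNormalized hS hF hQn
  have hTp : IsPGroup p (autInducedBy S Q) := isPGroup_autInducedBy hS Q
  obtain ⟨n, hn⟩ := IsPGroup.iff_card.1 hTp
  obtain ⟨k, hk, hke⟩ := conj_into hSK hTp (fun B hB hBp => by
    rw [hn]
    exact card_le_of_pgroup hS hfa hn B (hB.trans hKA) hBp)
    (B := (autInducedBy S Q).map (MulAut.conj α).toMonoidHom) (by
      rintro _ ⟨δ, hδ, rfl⟩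
      exact hK α hα δ (hSK hδ)) (hTp.map _)
  refine ⟨k, hk, fun δ hδ => ?_⟩
  have h1 := hke _ ⟨δ, hδ, rfl⟩
  have e : k * (MulAut.conj α).toMonoidHom δ * k⁻¹ = (k * α) * δ * (k * α)⁻¹ := by
    show k * (α * δ * α⁻¹) * k⁻¹ = _
    group
  rwa [e] at h1

end Cfsg.Agent.H785
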