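import Cfsg.Agent.H785.FifthE

/-!
# Essential subgroups of order `p²` in a group of order `p⁵` (helper785)
-/

set_option autoImplicit false
set_option linter.unusedSectionVars false
set_option linter.unusedVariables false
set_option linter.style.haveILetI false

namespace Cfsg.Agent.H785

open Cfsg Cfsg.FusionSystem Cfsg.Agent.H802
open scoped commutatorElement

variable {Ω : Type*} [Group Ω] {S : Subgroup Ω} {p : ℕ} [hp : Fact p.Prime] [Finite S]
  {F : FusionSystem S}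

theorem aut_bot {E : Subgroup Ω} (α : MulAut E) (x : E) (hx : (x : Ω) ∈ (⊥ : Subgroup Ω)) :
    ((α x : E) : Ω) ∈ (⊥ : Subgroup Ω) := by
  rw [Subgroup.mem_bot] at hx ⊢
  have : x = 1 := Subtype.ext hx
  rw [this, map_one]
  rfl

/-- Essential subgroups of order `p²`. -/
theorem Hyp.pearl (H : Hyp p F) {E : Subgroup Ω} (hE : F.IsEssential p E)
    (hc : Nat.card E = p ^ 2) : MC p S ∧ Sec p F E ⊥ ⊥ ∧ ExtTop F E ∧
      ∀ l l' : ℤ, (p : ℤ) ∣ l * l' - 1 → ∃ τ ∈ F.autGroup S,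
        (∀ a, Wt τ S (gam S) a → (p : ℤ) ∣ a - l') ∧ ∀ e, Wt τ (ZS S) ⊥ e → (p : ℤ) ∣ e - l := by
  have hpp := hp.out
  have hES := hE.1.1
  have hfE : Finite E := finite_of_le hES
  have hfZS : Finite (ZS S) := finite_of_le ZS_le
  have h : Sec p F E ⊥ ⊥ :=
    { ess := hE
      ZQ := bot_le
      YZ := le_rfl
      invZ := fun α _ x hx => aut_bot α x hx
      invY := fun α _ x hx => aut_bot α x hx
      cardQ := by rw [hc, Subgroup.card_bot, mul_one]
      cardZ := Or.inl rfl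
      cardY := Or.inl Subgroup.card_bot }
  set N₁ := normalizerIn S E with hN₁
  have hN₁S : N₁ ≤ S := inf_le_left
  have hEN : E ≤ N₁ := le_normalizerIn hES
  have hfN₁ : Finite N₁ := finite_of_le hN₁S
  have hN₁c : Nat.card N₁ = p ^ 3 := by rw [hN₁, h.card_normalizer H.hS H.hF, hc]; ring
  have hnE : ¬ Nrm S E := by
    intro hn
    have h1 := normalizerIn_eq_of_nrm hES hn
    rw [← hN₁] at h1
    rw [h1, H.card] at hN₁c
    exact absurd (Nat.pow_right_injective hpp.two_le hN₁c) (by norm_num)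
  have hZE : ZS S ≤ E := (Hyp.ZS_le_of_centric hE.1).trans ZS_le
  have hZS : Nat.card (ZS S) = p := by
    refine le_antisymm ?_ H.one_lt_card_ZS
    have h1 := card_lt_of_ne (n := 1) hc hZE (fun h1 => hnE (h1 ▸ nrm_ZS S))
    rwa [pow_one] at h1
  obtain ⟨g, hg, hgE⟩ := h.exists_gen H.hS H.hF
  have hgS : g ∈ S := hN₁S hg
  obtain ⟨L, -, hLE, hLc, -, hLg, htor⟩ := h.exists_torus H.hS H.hF hg hgE
  have hfL : Finite L := finite_of_le hLE
  have hLZ : ZS S = L := by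
    refine Subgroup.eq_of_le_of_card_ge ?_ (by rw [hLc, hZS, Subgroup.card_bot, mul_one])
    intro z hz
    refine (hLg z (hZE hz)).1 ?_
    rw [Subgroup.mem_bot, commutatorElement_eq_one_iff_mul_comm]
    exact (mem_ZS.1 hz).2 g hgS
  -- elements commuting with `E` and `g` lie in `ZS S`
  have hcen : ∀ z ∈ S, (∀ x ∈ E, x * z = z * x) → g * z = z * g → z ∈ ZS S := by
    intro z hz h1 h2
    have hzE : z ∈ E := h.cent (mem_centralizerIn.2 ⟨hz, h1⟩)
    rw [hLZ]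
    refine (hLg z hzE).1 ?_
    rw [Subgroup.mem_bot, commutatorElement_eq_one_iff_mul_comm]
    exact h2
  have hN₁na : ¬ ∀ x ∈ N₁, ∀ y ∈ N₁, x * y = y * x := by
    intro hcomm
    exact hgE (h.cent (mem_centralizerIn.2 ⟨hgS, fun x hx => hcomm x (hEN hx) g hg⟩))
  have hZN₁ : ZS S ≤ N₁ := hZE.trans hEN
  have h2 : z2 S ≤ N₁ := by
    intro z hz
    exact mem_normalizerIn_of_comm hES (z2_le hz) fun x hx => hZE ((mem_up.1 hz).2 x (hES hx))
  have n2 : z2 S ≠ N₁ := by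
    intro h1
    exact hnE (nrm_of_le_up (h := nrm_ZS S) hZE (by
      have h3 : E ≤ z2 S := by rw [h1]; exact hEN
      exact h3))
  have hnN₁ : ¬ Nrm S N₁ := by
    intro hn
    have h1 := card_le_aK H.hS hn (nrm_ZS S) ((nrm_ZS S).mono hN₁S) hZN₁
      (by rw [hN₁c, hZS]; ring)
    have h3 : aK S N₁ (ZS S) (nrm_ZS S) ≤ N₁ := by
      intro x hx
      exact mem_normalizerIn_of_comm hES hx.1 fun y hy => hZE (hx.2 y (hEN hy))
    have h4 : Nat.card (aK S N₁ (ZS S) (nrm_ZS S)) ≤ Nat.card N₁ :=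
      Nat.card_mono (Set.toFinite _) h3
    rw [hN₁c] at h4
    have h5 := h1.trans (Nat.mul_le_mul le_rfl h4)
    rw [H.card, ← pow_succ'] at h5
    exact absurd ((Nat.pow_le_pow_iff_right hpp.one_lt).1 h5) (by norm_num)
  set N₂ := normalizerIn S N₁ with hN₂
  have hN₂S : N₂ ≤ S := inf_le_left
  have hN₁N₂ : N₁ ≤ N₂ := le_normalizerIn hN₁S
  have hfN₂ : Finite N₂ := finite_of_le hN₂S
  have hN₁ne : N₁ ≠ S := fun h1 => hnN₁ (h1 ▸ Nrm.self S)
  have hN₂c : Nat.card N₂ = p ^ 4 := by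
    refine le_antisymm (card_lt_of_ne H.card hN₂S fun h1 => ?_) ?_
    · have h3 := nrm_normalizerIn S N₁
      rw [← hN₂, h1] at h3
      exact hnN₁ h3
    · have h1 := card_lt_card_normalizerIn H.hS hN₁S hN₁ne
      have h3 := Subgroup.card_dvd_of_le hN₂S
      rw [H.card] at h3
      obtain ⟨k, hk, hke⟩ := (Nat.dvd_prime_pow hpp).1 h3
      rw [hN₁c, ← hN₂, hke] at h1
      rw [hke]
      have := (Nat.pow_lt_pow_iff_right hpp.one_lt).1 h1
      exact Nat.pow_le_pow_right hpp.pos (by omega)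
  have h3 : z3 S ≤ N₂ := by
    intro z hz
    exact mem_normalizerIn_of_comm hN₁S (z3_le hz) fun x hx => h2 ((mem_up.1 hz).2 x (hN₁S hx))
  have n3 : z3 S ≠ N₂ := fun h1 => hnN₁ (nrm_of_between_z3 h2 (by rw [h1]; exact hN₁N₂))
  have hMC := H.mc_of hZS hN₁S hN₂S hN₁c hN₂c h2 n2 h3 n3
  -- `N₁` is fully normalized, centric, not essential
  have hN₁cen : F.IsCentric N₁ := isCentric_of_le hE.1 hEN hN₁S
  have hN₂cen : F.IsCentric N₂ := isCentric_of_le hN₁cen hN₁N₂ hN₂S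
  have hN₁ess : ¬ F.IsEssential p N₁ := fun h1 => H.three_nonab h1 hN₁c hN₁na
  have hN₁n : F.IsFullyNormalized N₁ := by
    refine ⟨hN₁S, fun Q' hQ' => ?_⟩
    rw [← hN₂, hN₂c]
    by_contra hlt
    push Not at hlt
    have hQ'S := isConj_le_right hQ'
    have hfQ' : Finite Q' := finite_of_le hQ'S
    have hQ'c : Nat.card Q' = p ^ 3 := by rw [← isConj_card_eq hQ', hN₁c]
    have hfull : normalizerIn S Q' = S := by
      by_contra hne
      have h4 := card_lt_of_ne (Y := normalizerIn S Q') H.card inf_le_left hne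
      exact absurd (lt_of_lt_of_le hlt h4) (lt_irrefl _)
    have hQ'n : Nrm S Q' := by
      have := nrm_normalizerIn S Q'
      rwa [hfull] at this
    obtain ⟨φ, hφ, hr⟩ := hQ'
    have hinj := F.injective_of_mem hφ
    have hres := restrict_mem hφ hEN
    set E' := (φ.comp (Subgroup.inclusion hEN)).range with hE'
    have hconj : F.IsConj E E' := isConj_range hres
    have hE'S : E' ≤ S := isConj_le_right hconj
    have h5 := hE.2.1.2 E' hconj
    rw [← hN₁, hN₁c] at h5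
    have hQ'na : ¬ ∀ x ∈ Q', ∀ y ∈ Q', x * y = y * x := by
      intro hcomm
      apply hN₁na
      intro x hx y hy
      have h6 := hcomm (φ ⟨x, hx⟩) (by rw [← hr]; exact ⟨_, rfl⟩) (φ ⟨y, hy⟩)
        (by rw [← hr]; exact ⟨_, rfl⟩)
      rw [← map_mul, ← map_mul] at h6
      exact congrArg Subtype.val (hinj h6)
    have hZQ'c := card_ZS_cube (H.hS.to_le hQ'S) hQ'c hQ'na
    have hE'Q' : E' ≤ Q' := by
      rintro _ ⟨x, rfl⟩
      rw [← hr]
      exact ⟨_, rfl⟩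
    have hZQ' : ZS Q' ≤ E' := by
      intro z hz
      have hzQ := ZS_le hz
      rw [← hr] at hzQ
      obtain ⟨n, rfl⟩ := hzQ
      have h6 : ∀ x : N₁, x * n = n * x := by
        intro x
        apply hinj
        rw [map_mul, map_mul]
        exact (mem_ZS.1 hz).2 _ (by rw [← hr]; exact ⟨_, rfl⟩)
      have h7 : (n : Ω) ∈ ZS S := hcen n (hN₁S n.2)
        (fun x hx => congrArg Subtype.val (h6 ⟨x, hEN hx⟩)) (congrArg Subtype.val (h6 ⟨g, hg⟩))
      exact ⟨⟨n, hZE h7⟩, rfl⟩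
    have h8 := card_le_aK H.hS hQ'n ((charIn_ZS Q').nrm_of ZS_le hQ'n) (nrm_ZS Q') ZS_le
      (by rw [hQ'c, hZQ'c]; ring)
    have h9 : aK S Q' (ZS Q') ((charIn_ZS Q').nrm_of ZS_le hQ'n) ≤ normalizerIn S E' := by
      intro x hx
      exact mem_normalizerIn_of_comm hE'S hx.1 fun y hy => hZQ' (hx.2 y (hE'Q' hy))
    have hfNE' : Finite (normalizerIn S E') := finite_of_le inf_le_left
    have h10 := Nat.card_mono (Set.toFinite _) h9
    have h11 := h8.trans (Nat.mul_le_mul le_rfl (h10.trans h5))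
    rw [H.card, ← pow_succ'] at h11
    exact absurd ((Nat.pow_le_pow_iff_right hpp.one_lt).1 h11) (by norm_num)
  -- `N₂` is not essential
  have hZN₂ : Nat.card (ZS N₂) = p := by
    have hfZ : Finite (ZS N₂) := finite_of_le ZS_le
    rw [← hZS]
    refine le_antisymm (Nat.card_mono (Set.toFinite _) fun z hz => ?_)
      (Nat.card_mono (Set.toFinite _) (Hyp.ZS_le_of_centric hN₂cen))
    replace hz := mem_ZS.1 hz
    exact hcen z (hN₂S hz.1) (fun x hx => hz.2 x (hN₁N₂ (hEN hx))) (hz.2 g (hN₁N₂ hg))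
  have hN₂ess := not_essential_of_center H.hS H.hF hN₂S hN₂c hZN₂
  have hN₂card : Nat.card (normalizerIn S N₁) = p * Nat.card N₁ := by
    rw [← hN₂, hN₂c, hN₁c]; ring
  have hext : ExtTop F E := by
    intro γ hγ hn
    obtain ⟨α₁, hα₁, e₁⟩ := exists_aut_normalizerIn
      (isReceptive_of_isFullyNormalized H.hS H.hF hE.2.1) hγ hn
    obtain ⟨α₂, hα₂, e₂⟩ := ext_step H.hS H.hF hN₁n hN₁cen hN₁ess hN₂card hα₁
    obtain ⟨β, hβ, e₃⟩ := H.ext_top_of_index hN₂cen hN₂c hN₂ess hα₂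
    refine ⟨β, hβ, fun x hx hx' => ?_⟩
    rw [e₃ x (hN₁N₂ (hEN hx)) hx', e₂ x (hEN hx) (hN₁N₂ (hEN hx)), e₁ x hx (hEN hx)]
  refine ⟨hMC, h, hext, fun l l' hl => ?_⟩
  obtain ⟨t, ht, htn, htL', htL, -⟩ := htor l l' hl
  obtain ⟨τ, hτ, hτe⟩ := hext t (h.tri_le ht) htn
  refine ⟨τ, hτ, fun a ha => ?_, fun e he => ?_⟩
  · obtain ⟨x₀, hx₀, hx₀G⟩ : ∃ x ∈ E, x ∉ gam S := by
      by_contra hcon
      push Not at hcon
      -- then `E` centralizes `z2`, so `z2 ≤ E`, and `z2 = E` is normal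
      have h4 : z2 S ≤ E := by
        intro z hz
        exact h.cent (mem_centralizerIn.2 ⟨z2_le hz, fun x hx => hMC.z2_cen hz (hcon x hx)⟩)
      have h5 : z2 S = E := Subgroup.eq_of_le_of_card_ge h4 (by rw [hc, hMC.c2])
      exact hnE (h5 ▸ nrm_z2)
    refine wt_eq_of_mem le_rfl gam_le nrm_gam hMC.card_S ha (hES hx₀) hx₀G ?_
    rw [hτe x₀ hx₀ (hES hx₀)]
    refine hMC.z2_le_gam (ZS_le_z2 ?_)
    rw [hLZ]
    exact htL' ⟨x₀, hx₀⟩
  · obtain ⟨z, hz, hz1⟩ : ∃ z ∈ ZS S, z ≠ 1 := by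
      by_contra hcon
      push Not at hcon
      have : ZS S = ⊥ := by
        rw [eq_bot_iff]
        exact fun z hz => Subgroup.mem_bot.2 (hcon z hz)
      rw [this, Subgroup.card_bot] at hZS
      exact hpp.one_lt.ne hZS
    refine wt_eq_of_mem ZS_le bot_le (nrm_bot _) (by rw [hZS, Subgroup.card_bot, mul_one]) he hz
      (by rwa [Subgroup.mem_bot]) ?_
    rw [hτe z (hZE hz) (ZS_le hz)]
    exact htL ⟨z, hZE hz⟩ (by rw [← hLZ]; exact hz)

/-- Essential subgroups of order `p²` occur only for `p = 3, 7`. -/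
theorem Hyp.pearl_prime (H : Hyp p F) {E : Subgroup Ω} (hE : F.IsEssential p E)
    (hc : Nat.card E = p ^ 2) (hp7 : p ≠ 7) : p = 3 := by
  have hpp := hp.out
  obtain ⟨hMC, h, hext, htor⟩ := H.pearl hE hc
  have hodd : Odd p := hpp.odd_of_ne_two H.p2
  obtain ⟨m, hm⟩ := hodd
  obtain ⟨τ, hτ, h1, h2⟩ := htor 2 ((m : ℤ) + 1) (by
    have : (2 : ℤ) * ((m : ℤ) + 1) - 1 = (p : ℤ) := by
      have : (p : ℤ) = 2 * m + 1 := by exact_mod_cast hm
      rw [this]; ring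
    rw [this])
  obtain ⟨a, b, e, ha, -, he, -, hea, -⟩ := hMC.weights τ
  have h3 := h1 a ha
  have h4 := h2 e he
  have h5 : (p : ℤ) ∣ 2 * a - 1 := by
    have e1 : (2 : ℤ) * a - 1 = 2 * (a - ((m : ℤ) + 1)) + (2 * ((m : ℤ) + 1) - 1) := by ring
    have e2 : (2 : ℤ) * ((m : ℤ) + 1) - 1 = (p : ℤ) := by
      have : (p : ℤ) = 2 * m + 1 := by exact_mod_cast hm
      rw [this]; ring
    rw [e1, e2]
    exact dvd_add (Dvd.dvd.mul_left h3 _) dvd_rfl
  have h6 : (p : ℤ) ∣ 63 := by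
    have e1 : (63 : ℤ) = 32 * (e - a ^ 5) - 32 * (e - 2) + 
        (16 * a ^ 4 + 8 * a ^ 3 + 4 * a ^ 2 + 2 * a + 1) * (2 * a - 1) := by ring
    rw [e1]
    exact dvd_add (dvd_sub (Dvd.dvd.mul_left hea _) (Dvd.dvd.mul_left h4 _))
      (Dvd.dvd.mul_left h5 _)
  have h7 : p ∣ 63 := by exact_mod_cast h6
  have h8 : p ∣ 3 ^ 2 * 7 := by simpa using h7
  rcases (Nat.Prime.dvd_mul hpp).1 h8 with h9 | h9
  · have := hpp.dvd_of_dvd_pow h9
    exact (Nat.prime_dvd_prime_iff_eq hpp Nat.prime_three).1 this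
  · exact absurd ((Nat.prime_dvd_prime_iff_eq hpp (by norm_num)).1 h9) hp7

end Cfsg.Agent.H785
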