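import Cfsg.Agent.H785.FifthF

/-!
# Subgroups of order `p⁴` (helper785)
-/

set_option autoImplicit false
set_option linter.unusedSectionVars false
set_option linter.unusedVariables false
set_option linter.style.haveILetI false

namespace Cfsg.Agent.H785

open Cfsg Cfsg.FusionSystem Cfsg.Agent.H802
open scoped commutatorElement

variable {Ω : Type*} [Group Ω] {p : ℕ} [hp : Fact p.Prime]

/-- The centralizer of `x` in `A`. -/
def cz (A : Subgroup Ω) (x : Ω) : Subgroup Ω := A ⊓ Subgroup.centralizer {x}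

theorem mem_cz {A : Subgroup Ω} {x c : Ω} : c ∈ cz A x ↔ c ∈ A ∧ c * x = x * c := by
  rw [cz, Subgroup.mem_inf, Subgroup.mem_centralizer_singleton_iff]

theorem cz_le {A : Subgroup Ω} {x : Ω} : cz A x ≤ A := inf_le_left

/-- Counting commutators with `x`. -/
theorem card_le_comm {A B : Subgroup Ω} [Finite A] [Finite B] {x : Ω} (h : ∀ a ∈ A, ⁅x, a⁆ ∈ B) :
    Nat.card A ≤ Nat.card B * Nat.card (cz A x) := by
  have h2 : Nat.card ((cz A x).subgroupOf A) = Nat.card (cz A x) :=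
    Nat.card_congr (Subgroup.subgroupOfEquivOfLe cz_le).toEquiv
  have hKm : ∀ a : A, a ∈ (cz A x).subgroupOf A ↔ (a : Ω) ∈ cz A x := fun a => Iff.rfl
  generalize (cz A x).subgroupOf A = K at h2 hKm
  have h1 := K.card_mul_index
  have h3 : K.index ≤ Nat.card B := by
    refine Nat.card_le_card_of_injective (fun q : A ⧸ K => (⟨⁅x, (q.out : Ω)⁆, h _ q.out.2⟩ : B)) ?_
    intro q q' hqq
    have h4 : ⁅x, (q.out : Ω)⁆ = ⁅x, (q'.out : Ω)⁆ := congrArg Subtype.val hqq
    rw [← QuotientGroup.out_eq' q, ← QuotientGroup.out_eq' q', QuotientGroup.eq, hKm, mem_cz]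
    refine ⟨(q.out⁻¹ * q'.out).2, ?_⟩
    rw [commutatorElement_def, commutatorElement_def] at h4
    show ((q.out : Ω))⁻¹ * q'.out * x = x * (((q.out : Ω))⁻¹ * q'.out)
    set a := (q.out : Ω)
    set b := (q'.out : Ω)
    have h5 : a * x⁻¹ * a⁻¹ = b * x⁻¹ * b⁻¹ := by
      have : x⁻¹ * (x * a * x⁻¹ * a⁻¹) = x⁻¹ * (x * b * x⁻¹ * b⁻¹) := by rw [h4]
      simpa [mul_assoc] using this
    have h6 : a * x * a⁻¹ = b * x * b⁻¹ := by
      have := congrArg (fun z => z⁻¹) h5
      simpa [mul_assoc] using this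
    calc a⁻¹ * b * x = a⁻¹ * (b * x * b⁻¹) * b := by group
      _ = a⁻¹ * (a * x * a⁻¹) * b := by rw [h6]
      _ = x * (a⁻¹ * b) := by group
  rw [← h1, h2, mul_comm]
  exact Nat.mul_le_mul h3 le_rfl

/-- `X/Y` of order `p²` is abelian. -/
theorem comm_mem_of_card_sq {X Y : Subgroup Ω} [Finite X] (hn : Nrm X Y) (hYX : Y ≤ X)
    (hc : Nat.card X = p ^ 2 * Nat.card Y) {x y : Ω} (hx : x ∈ X) (hy : y ∈ X) : ⁅x, y⁆ ∈ Y := by
  have hfY : Finite Y := Finite.of_injective _ (Subgroup.inclusion_injective hYX)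
  have hnn : (Y.subgroupOf X).Normal := hn.normal
  have hU : Nat.card (X ⧸ Y.subgroupOf X) = p ^ 2 := by
    have h1 := (Y.subgroupOf X).card_mul_index
    rw [Nat.card_congr (Subgroup.subgroupOfEquivOfLe hYX).toEquiv, hc, mul_comm] at h1
    exact Nat.eq_of_mul_eq_mul_right Nat.card_pos h1
  have h1 := mul_comm_of_card_sq hU (QuotientGroup.mk' _ ⟨x, hx⟩) (QuotientGroup.mk' _ ⟨y, hy⟩)
  have h2 : QuotientGroup.mk' (Y.subgroupOf X) ⁅(⟨x, hx⟩ : X), (⟨y, hy⟩ : X)⁆ = 1 := by
    rw [map_commutatorElement, commutatorElement_eq_one_iff_mul_comm]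
    exact h1
  have h3 : (⁅(⟨x, hx⟩ : X), (⟨y, hy⟩ : X)⁆ : X) ∈ Y.subgroupOf X := (QuotientGroup.eq_one_iff _).1 h2
  exact h3

/-- A central subgroup of index `p`. -/
theorem mul_comm_of_central {X W : Subgroup Ω} [Finite X] (hWX : W ≤ X)
    (hc : Nat.card X = p * Nat.card W) (hcen : ∀ w ∈ W, ∀ x ∈ X, x * w = w * x) {x y : Ω}
    (hx : x ∈ X) (hy : y ∈ X) : x * y = y * x := by
  by_cases hxW : x ∈ W
  · exact (hcen x hxW y hy).symm
  · have hn : Nrm X W := by
      intro g hg w hw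
      rw [hcen w hw g hg, mul_inv_cancel_right]
      exact hw
    obtain ⟨j, hj⟩ := exists_zpow_mod hWX hn hc hx hxW hy
    have h1 := hcen _ hj x hx
    have e : y = x ^ j * ((x ^ j)⁻¹ * y) := by group
    have h2 : Commute x (x ^ j * ((x ^ j)⁻¹ * y)) :=
      ((Commute.refl x).zpow_right j).mul_right h1
    rw [← e] at h2
    exact h2

theorem pow_mem_of_card {X Y : Subgroup Ω} [Finite X] (hn : Nrm X Y) (hYX : Y ≤ X)
    (hc : Nat.card X = p * Nat.card Y) {x : Ω} (hx : x ∈ X) : x ^ p ∈ Y := by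
  have hnn : (Y.subgroupOf X).Normal := hn.normal
  have h1 : (QuotientGroup.mk' (Y.subgroupOf X) ⟨x, hx⟩) ^ p = 1 := by
    rw [← card_quot hYX hc]
    exact pow_card_eq_one'
  rw [← map_pow] at h1
  have h2 : (⟨x, hx⟩ ^ p : X) ∈ Y.subgroupOf X := (QuotientGroup.eq_one_iff _).1 h1
  exact h2

theorem centralizerIn_eq_aK (P X : Subgroup Ω) : centralizerIn P X = aK P X ⊥ (nrm_bot P) := by
  ext g
  rw [mem_centralizerIn, mem_aK]
  refine and_congr_right fun _ => forall₂_congr fun x _ => ?_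
  rw [Subgroup.mem_bot, commutatorElement_eq_one_iff_mul_comm, eq_comm]

theorem card_le_centralizerIn {P X : Subgroup Ω} [Finite P] [Finite X] (hP : IsPGroup p P)
    (hX : Nrm P X) (hc : Nat.card X = p ^ 2) :
    Nat.card P ≤ p * Nat.card (centralizerIn P X) := by
  rw [centralizerIn_eq_aK]
  exact card_le_aK hP hX (nrm_bot P) (nrm_bot X) bot_le (by rw [hc, Subgroup.card_bot, mul_one])

theorem centralizerIn_le {P X : Subgroup Ω} : centralizerIn P X ≤ P := inf_le_left

/-- Subgroup orders in a `p`-group. -/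
theorem card_between {X Y : Subgroup Ω} [Finite X] {n m : ℕ} (hX : Nat.card X = p ^ n) (hYX : Y ≤ X)
    (h1 : p ^ m ≤ Nat.card Y) (h2 : Nat.card Y < p ^ (m + 1)) : Nat.card Y = p ^ m := by
  have h3 := Subgroup.card_dvd_of_le hYX
  rw [hX] at h3
  obtain ⟨k, hk, hke⟩ := (Nat.dvd_prime_pow hp.out).1 h3
  rw [hke] at h1 h2 ⊢
  have h4 := (Nat.pow_le_pow_iff_right hp.out.one_lt).1 h1
  have h5 := (Nat.pow_lt_pow_iff_right hp.out.one_lt).1 h2
  congr 1
  omega

theorem card_lt_of_ne {X Y : Subgroup Ω} [Finite X] {n : ℕ} (hX : Nat.card X = p ^ (n + 1))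
    (hYX : Y ≤ X) (hne : Y ≠ X) : Nat.card Y ≤ p ^ n := by
  have h3 := Subgroup.card_dvd_of_le hYX
  rw [hX] at h3
  obtain ⟨k, hk, hke⟩ := (Nat.dvd_prime_pow hp.out).1 h3
  rw [hke]
  refine Nat.pow_le_pow_right hp.out.pos ?_
  by_contra hcon
  have h4 : k = n + 1 := by omega
  exact hne (Subgroup.eq_of_le_of_card_ge hYX (by rw [hX, hke, h4]))

theorem nrm_ZS (X : Subgroup Ω) : Nrm X (ZS X) := (charIn_ZS X).nrm ZS_le

/-- The structure of a group of order `p⁴` with centre of order `p`. -/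
theorem fourth_center {X : Subgroup Ω} [Finite X] (hXp : IsPGroup p X) (hX : Nat.card X = p ^ 4)
    (hZ : Nat.card (ZS X) = p) : Nat.card (up X (ZS X) (nrm_ZS X)) = p ^ 2 ∧
      Nat.card (centralizerIn X (up X (ZS X) (nrm_ZS X))) = p ^ 3 ∧
      up X (ZS X) (nrm_ZS X) ≤ centralizerIn X (up X (ZS X) (nrm_ZS X)) := by
  have hpp := hp.out
  have hp0 := hpp.pos
  have hp1 := hpp.one_lt
  have hfin : ∀ Y : Subgroup Ω, Y ≤ X → Finite Y := fun Y hY =>
    Finite.of_injective _ (Subgroup.inclusion_injective hY)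
  have hfZ := hfin _ (ZS_le (S := X))
  have hneZ : ZS X ≠ X := by
    intro h
    rw [h, hX] at hZ
    have h1 : p ^ 1 < p ^ 4 := Nat.pow_lt_pow_right hp1 (by norm_num)
    rw [pow_one] at h1
    omega
  obtain ⟨W, hZW, hWu, hWc⟩ := exists_next hXp (nrm_ZS X) ZS_le hneZ
  rw [hZ] at hWc
  have hWc' : Nat.card W = p ^ 2 := by rw [hWc, sq]
  have hWX : W ≤ X := hWu.trans up_le
  have hfW := hfin W hWX
  have hWn : Nrm X W := nrm_of_le_up hZW hWu
  set C := centralizerIn X W with hC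
  have hCX : C ≤ X := centralizerIn_le
  have hfC := hfin C hCX
  have hWcomm : ∀ x ∈ W, ∀ y ∈ W, x * y = y * x := by
    intro x hx y hy
    exact congrArg Subtype.val (mul_comm_of_card_sq hWc' (⟨x, hx⟩ : W) ⟨y, hy⟩)
  have hWC : W ≤ C := fun w hw => mem_centralizerIn.2 ⟨hWX hw, fun x hx => hWcomm x hx w hw⟩
  have hneC : C ≠ X := by
    intro h
    have h1 : W ≤ ZS X := by
      intro w hw
      rw [mem_ZS]
      refine ⟨hWX hw, fun x hx => ?_⟩
      rw [← h] at hx
      exact ((mem_centralizerIn.1 hx).2 w hw).symm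
    have h2 := Nat.card_mono (Set.toFinite _) h1
    have h3 : Nat.card W ≤ Nat.card (ZS X) := h2
    rw [hZ, hWc'] at h3
    nlinarith
  have hCle : Nat.card C ≤ p ^ 3 := card_lt_of_ne hX hCX hneC
  have hCc : Nat.card C = p ^ 3 := by
    refine le_antisymm hCle ?_
    have h1 := card_le_centralizerIn hXp hWn hWc'
    rw [hX, pow_succ', ← hC] at h1
    exact Nat.le_of_mul_le_mul_left h1 hp0
  have hCcomm : ∀ x ∈ C, ∀ y ∈ C, x * y = y * x := by
    intro x hx y hy
    refine mul_comm_of_central hWC (p := p) (by rw [hCc, hWc']; ring) (fun w hw x hx => ?_) hx hy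
    exact ((mem_centralizerIn.1 hx).2 w hw).symm
  have hXC : Nat.card X = p * Nat.card C := by rw [hX, hCc]; ring
  have hCn : Nrm X C := nrm_centralizerIn hWn
  -- centralizers of elements outside `C`
  have hcen : ∀ x ∈ X, x ∉ C → cz C x ≤ ZS X := by
    intro x hx hxC c hcz
    obtain ⟨hc, hcx⟩ := mem_cz.1 hcz
    rw [mem_ZS]
    refine ⟨hCX hc, fun y hy => ?_⟩
    obtain ⟨j, hj⟩ := exists_zpow_mod hCX hCn hXC hx hxC hy
    have e : y = x ^ j * ((x ^ j)⁻¹ * y) := by group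
    have h1 : Commute c (x ^ j) := (show Commute c x from hcx).zpow_right j
    have h2 : Commute c ((x ^ j)⁻¹ * y) := hCcomm c hc _ hj
    have h3 := h1.mul_right h2
    rw [← e] at h3
    exact h3.symm
  set U := up X (ZS X) (nrm_ZS X) with hU
  have hUX : U ≤ X := up_le
  have hfU := hfin U hUX
  have hUC : U ≤ C := by
    intro x hx
    by_contra hxC
    have h1 := card_le_comm (A := C) (B := ZS X) (x := x) (fun a ha => hx.2 a (hCX ha))
    have h2 : Nat.card (cz C x) ≤ Nat.card (ZS X) :=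
      Nat.card_mono (Set.toFinite _) (hcen x (hUX hx) hxC)
    rw [hZ] at h2
    rw [hCc, hZ] at h1
    have h3 : p ^ 3 ≤ p * p := h1.trans (Nat.mul_le_mul le_rfl h2)
    have h4 : p ^ 2 < p ^ 3 := Nat.pow_lt_pow_right hp1 (by norm_num)
    rw [sq] at h4
    omega
  obtain ⟨x₁, hx₁, hx₁C⟩ : ∃ x ∈ X, x ∉ C := by
    by_contra hcon
    push Not at hcon
    exact hneC (le_antisymm hCX hcon)
  have hUle : Nat.card U ≤ p ^ 2 := by
    have h1 := card_le_comm (A := U) (B := ZS X) (x := x₁)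
      (fun a ha => by
        rw [← commutatorElement_inv]
        exact (ZS X).inv_mem (ha.2 x₁ hx₁))
    have h2 : Nat.card (cz U x₁) ≤ Nat.card (ZS X) :=
      Nat.card_mono (Set.toFinite _) (fun c hc => hcen x₁ hx₁ hx₁C
        (mem_cz.2 ⟨hUC (mem_cz.1 hc).1, (mem_cz.1 hc).2⟩))
    rw [hZ] at h1 h2
    rw [sq]
    exact h1.trans (Nat.mul_le_mul le_rfl h2)
  have hWU : W = U := Subgroup.eq_of_le_of_card_ge hWu (by rw [hWc']; exact hUle)
  rw [← hWU]
  exact ⟨hWc', hCc, hWC⟩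

/-- The structure of a group of order `p⁴` with centre of order `p²`. -/
theorem fourth_commutator {X : Subgroup Ω} [Finite X] (hX : Nat.card X = p ^ 4)
    (hZ : Nat.card (ZS X) = p ^ 2) : Nat.card (⁅X, X⁆ : Subgroup Ω) = p ∧ ⁅X, X⁆ ≤ ZS X := by
  have hpp := hp.out
  have hp0 := hpp.pos
  have hp1 := hpp.one_lt
  have hfin : ∀ Y : Subgroup Ω, Y ≤ X → Finite Y := fun Y hY =>
    Finite.of_injective _ (Subgroup.inclusion_injective hY)
  have hfZ := hfin _ (ZS_le (S := X))
  have hXZ : Nat.card X = p ^ 2 * Nat.card (ZS X) := by rw [hX, hZ]; ring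
  have hcomm : ∀ x ∈ X, ∀ y ∈ X, ⁅x, y⁆ ∈ ZS X := fun x hx y hy =>
    comm_mem_of_card_sq (nrm_ZS X) ZS_le hXZ hx hy
  have hle : ⁅X, X⁆ ≤ ZS X := Subgroup.commutator_le.2 hcomm
  obtain ⟨a, ha, haZ⟩ : ∃ a ∈ X, a ∉ ZS X := by
    by_contra hcon
    push Not at hcon
    have h1 : ZS X = X := le_antisymm ZS_le hcon
    rw [h1, hX] at hZ
    have h2 : p ^ 2 < p ^ 4 := Nat.pow_lt_pow_right hp1 (by norm_num)
    omega
  set A := cz X a with hA
  have hAX : A ≤ X := cz_le
  have hfA := hfin A hAX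
  have hZA : ZS X ≤ A := by
    intro z hz
    exact mem_cz.2 ⟨ZS_le hz, ((mem_ZS.1 hz).2 a ha).symm⟩
  have haA : a ∈ A := mem_cz.2 ⟨ha, rfl⟩
  have hAne : A ≠ X := by
    intro h
    apply haZ
    rw [mem_ZS]
    refine ⟨ha, fun x hx => ?_⟩
    rw [← h] at hx
    exact (mem_cz.1 hx).2
  have hAc : Nat.card A = p ^ 3 := by
    refine le_antisymm (card_lt_of_ne hX hAX hAne) ?_
    have h1 : Nat.card (ZS X) < Nat.card A := by
      refine lt_of_le_of_ne (Nat.card_mono (Set.toFinite _) hZA) fun h => ?_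
      have := Subgroup.eq_of_le_of_card_ge hZA h.ge
      rw [← this] at haA
      exact haZ haA
    rw [hZ] at h1
    obtain ⟨k, hk, hke⟩ := (Nat.dvd_prime_pow hpp).1 (hX ▸ Subgroup.card_dvd_of_le hAX)
    rw [hke] at h1 ⊢
    have h2 := (Nat.pow_lt_pow_iff_right hp1).1 h1
    exact Nat.pow_le_pow_right hp0 (by omega)
  obtain ⟨b, hb, hbA⟩ : ∃ b ∈ X, b ∉ A := by
    by_contra hcon
    push Not at hcon
    exact hAne (le_antisymm hAX hcon)
  have hd1 : ⁅a, b⁆ ≠ 1 := by
    intro h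
    rw [commutatorElement_eq_one_iff_mul_comm] at h
    exact hbA (mem_cz.2 ⟨hb, h.symm⟩)
  have hdZ := hcomm a ha b hb
  have hdc : ∀ y ∈ X, y * ⁅a, b⁆ = ⁅a, b⁆ * y := (mem_ZS.1 hdZ).2
  have hap : a ^ p ∈ ZS X := by
    have hAn : Nrm A (ZS X) := (nrm_ZS X).mono hAX
    exact pow_mem_of_card hAn hZA (by rw [hAc, hZ]; ring) haA
  have hdp : ⁅a, b⁆ ^ p = 1 := by
    have h1 : ⁅a ^ (p : ℤ), b⁆ = ⁅a, b⁆ ^ (p : ℤ) := comm_zpow_left (hdc a ha).symm p
    rw [zpow_natCast, zpow_natCast] at h1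
    rw [← h1, commutatorElement_eq_one_iff_mul_comm]
    exact ((mem_ZS.1 hap).2 b hb).symm
  have hgen : Subgroup.closure ((ZS X : Set Ω) ∪ {a, b}) = X := by
    set K := Subgroup.closure ((ZS X : Set Ω) ∪ {a}) with hK
    have hKA : K = A := by
      refine eq_of_between (p := p) (Z := ZS X) ?_ ?_ (by rw [hAc, hZ]; ring) ?_
      · exact fun x hx => Subgroup.subset_closure (Or.inl hx)
      · rw [Subgroup.closure_le]
        rintro x (hx | hx)
        · exact hZA hx
        · rw [Set.mem_singleton_iff.1 hx]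
          exact haA
      · intro h1
        apply haZ
        rw [← h1]
        exact Subgroup.subset_closure (Or.inr rfl)
    refine eq_of_between (p := p) (Z := A) ?_ ?_ (by rw [hAc, hX]; ring) ?_
    · rw [← hKA, hK]
      refine Subgroup.closure_mono ?_
      rintro x (hx | hx)
      · exact Or.inl hx
      · exact Or.inr (Or.inl hx)
    · rw [Subgroup.closure_le]
      rintro x (hx | hx | hx)
      · exact ZS_le hx
      · rw [hx]; exact ha
      · rw [Set.mem_singleton_iff.1 hx]; exact hb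
    · intro h1
      apply hbA
      rw [← h1]
      exact Subgroup.subset_closure (Or.inr (Or.inr rfl))
  have hle2 : ⁅X, X⁆ ≤ Subgroup.zpowers ⁅a, b⁆ := by
    refine Subgroup.commutator_le.2 fun x hx y hy => ?_
    rw [commutatorElement_def]
    refine comm_mem_of_closure (A := (ZS X : Set Ω) ∪ {a, b}) ?_ ?_ x (by rw [hgen]; exact hx) y
      (by rw [hgen]; exact hy)
    · intro d hd c hc
      have hcX : c ∈ X := by
        rcases hc with hc | hc | hc
        · exact ZS_le hc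
        · rw [hc]; exact ha
        · rw [Set.mem_singleton_iff.1 hc]; exact hb
      obtain ⟨n, rfl⟩ := Subgroup.mem_zpowers_iff.1 hd
      exact (show Commute c ⁅a, b⁆ from hdc c hcX).zpow_right n
    · have hone : ∀ u v : Ω, u * v = v * u → u * v * u⁻¹ * v⁻¹ ∈ Subgroup.zpowers ⁅a, b⁆ := by
        intro u v huv
        rw [huv]
        have e : v * u * u⁻¹ * v⁻¹ = 1 := by group
        rw [e]
        exact Subgroup.one_mem _
      have hmX : ∀ c ∈ (ZS X : Set Ω) ∪ {a, b}, c ∈ X := by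
        rintro c (hc | hc | hc)
        · exact ZS_le hc
        · rw [hc]; exact ha
        · rw [Set.mem_singleton_iff.1 hc]; exact hb
      intro u hu v hv
      have huX := hmX u hu
      have hvX := hmX v hv
      rcases hu with hu' | hu' | hu'
      · exact hone u v ((mem_ZS.1 hu').2 v hvX).symm
      · rcases hv with hv' | hv' | hv'
        · exact hone u v ((mem_ZS.1 hv').2 u huX)
        · rw [hu', hv']
          exact hone a a rfl
        · rw [hu', Set.mem_singleton_iff.1 hv', ← commutatorElement_def]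
          exact Subgroup.mem_zpowers _
      · rw [Set.mem_singleton_iff.1 hu']
        rcases hv with hv' | hv' | hv'
        · exact hone b v ((mem_ZS.1 hv').2 b hb)
        · rw [hv']
          have e : b * a * b⁻¹ * a⁻¹ = ⁅a, b⁆⁻¹ := by rw [commutatorElement_def]; group
          rw [e]
          exact Subgroup.inv_mem _ (Subgroup.mem_zpowers _)
        · rw [Set.mem_singleton_iff.1 hv']
          exact hone b b (Eq.refl (b * b))
  have heq : ⁅X, X⁆ = Subgroup.zpowers ⁅a, b⁆ := le_antisymm hle2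
    (Subgroup.zpowers_le.2 (Subgroup.commutator_mem_commutator ha hb))
  refine ⟨?_, hle⟩
  rw [heq, Nat.card_zpowers]
  exact orderOf_eq_prime hdp hd1

end Cfsg.Agent.H785
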