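import Cfsg.Agent.H785.FifthQ

/-!
# Essential subgroups of order `p⁴` in a group of order `p⁵` (helper785)
-/

set_option autoImplicit false
set_option linter.unusedSectionVars false
set_option linter.unusedVariables false
set_option linter.style.haveILetI false

namespace Cfsg.Agent.H785

open Cfsg Cfsg.FusionSystem Cfsg.Agent.H802
open scoped commutatorElement

variable {Ω : Type*} [Group Ω] {S : Subgroup Ω} {p : ℕ} [hp : Fact p.Prime]

theorem relIndex_sub {X A B : Subgroup Ω} [Finite X] (hAB : A ≤ B) (hBX : B ≤ X)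
    (hc : Nat.card B = Nat.card A ∨ Nat.card B = p * Nat.card A) :
    (A.subgroupOf X).relIndex (B.subgroupOf X) = 1 ∨ (A.subgroupOf X).relIndex (B.subgroupOf X) = p := by
  have hfB : Finite B := Finite.of_injective _ (Subgroup.inclusion_injective hBX)
  have hfA : Finite A := Finite.of_injective _ (Subgroup.inclusion_injective hAB)
  have h1 : (A.subgroupOf X).relIndex (B.subgroupOf X) = A.relIndex B :=
    Subgroup.relIndex_subgroupOf hBX
  rw [h1]
  have h4 : (A.subgroupOf B).index = A.relIndex B := rfl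
  have h5 := (A.subgroupOf B).card_mul_index
  rw [Nat.card_congr (Subgroup.subgroupOfEquivOfLe hAB).toEquiv, h4] at h5
  have h6 : 0 < Nat.card A := Nat.card_pos
  rcases hc with h7 | h7
  · left
    rw [h7] at h5
    exact Nat.eq_of_mul_eq_mul_left h6 (by rw [h5, mul_one])
  · right
    rw [h7] at h5
    exact Nat.eq_of_mul_eq_mul_left h6 (by rw [h5, mul_comm])

/-- Sections of order `p` are central. -/
theorem comm_mem_of_index [Finite S] (hS : IsPGroup p S) {U V : Subgroup Ω} (hU : Nrm S U)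
    (hV : Nrm S V) (hVU : V ≤ U) (hUS : U ≤ S)
    (hc : Nat.card U = Nat.card V ∨ Nat.card U = p * Nat.card V) {u s : Ω} (hu : u ∈ U)
    (hs : s ∈ S) : ⁅u, s⁆ ∈ V := by
  obtain ⟨k, hk⟩ := hS ⟨s, hs⟩
  have h1 := Cfsg.Agent.H766.pAut_trivial_section (MulAut.conj (⟨s, hs⟩ : S)) (k := k)
    (by rw [← map_pow, hk, map_one]) (L := V.subgroupOf S) (K := U.subgroupOf S)
    (fun x hx => hV s hs x hx) (fun x hx => hU s hs x hx) (relIndex_sub hVU hUS hc)
    (⟨u, hUS hu⟩⁻¹) (U.inv_mem hu)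
  have h2 : (((⟨u, hUS hu⟩⁻¹)⁻¹ * MulAut.conj (⟨s, hs⟩ : S) ⟨u, hUS hu⟩⁻¹ : S) : Ω) ∈ V := h1
  have e : (((⟨u, hUS hu⟩⁻¹)⁻¹ * MulAut.conj (⟨s, hs⟩ : S) ⟨u, hUS hu⟩⁻¹ : S) : Ω) = ⁅u, s⁆ := by
    rw [MulAut.conj_apply, commutatorElement_def]
    show (u⁻¹)⁻¹ * (s * u⁻¹ * s⁻¹) = _
    group
  rwa [e] at h2

theorem comm_mem_of_index' [Finite S] (hS : IsPGroup p S) {U V : Subgroup Ω} (hU : Nrm S U)
    (hV : Nrm S V) (hVU : V ≤ U) (hUS : U ≤ S)
    (hc : Nat.card U = Nat.card V ∨ Nat.card U = p * Nat.card V) {u s : Ω} (hu : u ∈ U)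
    (hs : s ∈ S) : ⁅s, u⁆ ∈ V := by
  rw [← commutatorElement_inv]
  exact V.inv_mem (comm_mem_of_index hS hU hV hVU hUS hc hu hs)

theorem central_of_card [Finite S] (hS : IsPGroup p S) {D : Subgroup Ω} (hD : Nrm S D)
    (hDS : D ≤ S) (hc : Nat.card D = p) : D ≤ ZS S := by
  intro d hd
  rw [mem_ZS]
  refine ⟨hDS hd, fun s hs => ?_⟩
  have h1 := comm_mem_of_index hS hD (nrm_bot S) bot_le hDS
    (Or.inr (by rw [hc, Subgroup.card_bot, mul_one])) hd hs
  rw [Subgroup.mem_bot, commutatorElement_eq_one_iff_mul_comm] at h1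
  exact h1.symm

theorem CharIn.nrm_of {P X Y : Subgroup Ω} (h : CharIn X Y) (hYX : Y ≤ X) (hX : Nrm P X) :
    Nrm P Y := by
  intro g hg y hy
  exact h (conjHom P X hX ⟨g, hg⟩) ⟨y, hYX hy⟩ hy

variable [Finite S] {F : FusionSystem S}

theorem exists_gen_of_essential (hS : IsPGroup p S) (hF : F.IsSaturated p) {Q : Subgroup Ω}
    (hQ : F.IsEssential p Q) : ∃ g ∈ normalizerIn S Q, g ∉ Q := by
  by_contra hcon
  push Not at hcon
  have h1 := card_lt_card_normalizerIn hS hQ.1.1 (ne_of_isEssential hS hF hQ)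
  have h2 : normalizerIn S Q = Q := le_antisymm hcon (le_normalizerIn hQ.1.1)
  rw [h2] at h1
  exact lt_irrefl _ h1

/-- **Flag lemma.** -/
theorem not_essential_of_flag (hS : IsPGroup p S) (hF : F.IsSaturated p) {Q : Subgroup Ω} (n : ℕ)
    (c : ℕ → Subgroup Q) (h0 : c 0 = ⊤) (hn : c n = ⊥)
    (hinv : ∀ i ≤ n, ∀ α ∈ F.autGroup Q, ∀ x ∈ c i, α x ∈ c i)
    (hidx : ∀ i < n, (c (i + 1)).relIndex (c i) = 1 ∨ (c (i + 1)).relIndex (c i) = p) :
    ¬ F.IsEssential p Q := by
  intro hQ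
  have hfQ : Finite Q := finite_of_le hQ.1.1
  obtain ⟨g, hg, hgQ⟩ := exists_gen_of_essential hS hF hQ
  obtain ⟨τ, hτ⟩ := exists_conjAut hg.2
  have hτS : τ ∈ autInducedBy S Q := conj_mem_autInducedBy hg.1 hτ
  have hτA := autInducedBy_le_autGroup F hQ.1.1 hτS
  obtain ⟨k, hk⟩ := isPGroup_autInducedBy hS Q ⟨τ, hτS⟩
  have hk' : τ ^ p ^ k = 1 := congrArg Subtype.val hk
  refine hgQ (Cfsg.Agent.H765.Ess.mem_of_chain hS hQ n c h0 hn hinv hg.1 hτ fun i hi => ?_)
  exact Cfsg.Agent.H766.pAut_trivial_section τ hk' (hinv (i + 1) hi τ hτA)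
    (hinv i hi.le τ hτA) (hidx i hi)

theorem charIn_subgroupOf {X Y : Subgroup Ω} (h : CharIn X Y) :
    ∀ α : MulAut X, ∀ x ∈ Y.subgroupOf X, α x ∈ Y.subgroupOf X := fun α x hx => h α x hx

/-- A subgroup of order `p⁴` with centre of order `p` is not essential. -/
theorem not_essential_of_center (hS : IsPGroup p S) (hF : F.IsSaturated p) {X : Subgroup Ω}
    (hXS : X ≤ S) (hX : Nat.card X = p ^ 4) (hZ : Nat.card (ZS X) = p) : ¬ F.IsEssential p X := by
  have hfX : Finite X := finite_of_le hXS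
  obtain ⟨h1, h2, h3⟩ := fourth_center (hS.to_le hXS) hX hZ
  set U := up X (ZS X) (nrm_ZS X) with hU
  set C := centralizerIn X U with hC
  have hUc : CharIn X U := charIn_up (charIn_ZS X)
  have hUX : U ≤ X := up_le
  have hCc : CharIn X C := charIn_centralizerIn hUX hUc
  have hCX : C ≤ X := centralizerIn_le
  have hZU : ZS X ≤ U := le_up ZS_le
  let c : ℕ → Subgroup X := fun i =>
    if i = 0 then ⊤ else if i = 1 then C.subgroupOf X else if i = 2 then U.subgroupOf X
    else if i = 3 then (ZS X).subgroupOf X else ⊥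
  refine not_essential_of_flag hS hF 4 c rfl rfl ?_ ?_
  · intro i hi α _ x hx
    interval_cases i
    · exact Subgroup.mem_top _
    · exact hCc α x hx
    · exact hUc α x hx
    · exact charIn_ZS X α x hx
    · have hx' : x ∈ (⊥ : Subgroup X) := hx
      rw [Subgroup.mem_bot] at hx'
      rw [hx', map_one]
      exact Subgroup.one_mem _
  · intro i hi
    interval_cases i
    · have h4 := relIndex_sub (p := p) hCX le_rfl (Or.inr (by rw [hX, h2]; ring) :
        Nat.card X = Nat.card C ∨ Nat.card X = p * Nat.card C)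
      rw [Subgroup.subgroupOf_self] at h4
      exact h4
    · exact relIndex_sub (p := p) h3 hCX (Or.inr (by rw [h2, h1]; ring))
    · exact relIndex_sub (p := p) hZU hUX (Or.inr (by rw [h1, hZ]; ring))
    · have h4 := relIndex_sub (p := p) (X := X) (bot_le : (⊥ : Subgroup Ω) ≤ ZS X) ZS_le
        (Or.inr (by rw [hZ, Subgroup.card_bot, mul_one]))
      have h5 : ((⊥ : Subgroup Ω).subgroupOf X) = ⊥ := Subgroup.bot_subgroupOf X
      rw [h5] at h4
      exact h4

/-- The standing assumptions. -/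
structure Hyp (p : ℕ) (F : FusionSystem S) : Prop where
  hS : IsPGroup p S
  hF : F.IsSaturated p
  p2 : p ≠ 2
  card : Nat.card S = p ^ 5
  core : F.core = ⊥
  noab : ∀ A : Subgroup Ω, A ≤ S → (∀ x ∈ A, ∀ y ∈ A, x * y = y * x) → Nat.card A < p ^ 4

namespace Hyp

theorem card_le_four (H : Hyp p F) {Q : Subgroup Ω} (hQ : F.IsEssential p Q) :
    ∃ k ≤ 4, Nat.card Q = p ^ k := by
  have h1 := Subgroup.card_dvd_of_le hQ.1.1
  rw [H.card] at h1
  obtain ⟨k, hk, hke⟩ := (Nat.dvd_prime_pow hp.out).1 h1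
  refine ⟨k, ?_, hke⟩
  by_contra hcon
  have h2 : k = 5 := by omega
  exact ne_of_isEssential H.hS H.hF hQ (Subgroup.eq_of_le_of_card_ge hQ.1.1
    (by rw [H.card, hke, h2]))

theorem ZS_le_of_centric {Q : Subgroup Ω} (hQ : F.IsCentric Q) : ZS S ≤ ZS Q := by
  have hQS := hQ.1
  intro z hz
  rw [mem_ZS] at hz ⊢
  refine ⟨hQ.2 Q (isConj_refl F hQS) (mem_centralizerIn.2 ⟨hz.1, fun x hx => hz.2 x (hQS hx)⟩),
    fun x hx => hz.2 x (hQS hx)⟩

theorem one_lt_card_ZS (H : Hyp p F) : p ≤ Nat.card (ZS S) := by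
  have hnt : Nontrivial S := by
    rw [← Finite.one_lt_card_iff_nontrivial, H.card]
    exact Nat.one_lt_pow (by norm_num) hp.out.one_lt
  have h1 := H.hS.center_nontrivial
  have h2 : IsPGroup p (Subgroup.center S) := H.hS.to_subgroup _
  obtain ⟨n, hn, hc⟩ := h2.nontrivial_iff_card.1 h1
  rw [card_ZS, hc]
  exact Nat.le_self_pow hn.ne' p

/-- The section data of an essential subgroup of order `p⁴`. -/
theorem four (H : Hyp p F) {Q : Subgroup Ω} (hQ : F.IsEssential p Q) (hc : Nat.card Q = p ^ 4) :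
    Sec p F Q (ZS Q) ⁅Q, Q⁆ ∧ Nat.card (ZS Q) = p ^ 2 ∧ Nat.card (⁅Q, Q⁆ : Subgroup Ω) = p := by
  have hpp := hp.out
  have hQS := hQ.1.1
  have hfQ : Finite Q := finite_of_le hQS
  have hfZ : Finite (ZS Q) := finite_of_le ZS_le
  have hfZS : Finite (ZS S) := finite_of_le ZS_le
  have h1 := Subgroup.card_dvd_of_le (ZS_le (S := Q))
  rw [hc] at h1
  obtain ⟨k, hk, hke⟩ := (Nat.dvd_prime_pow hpp).1 h1
  have hZc : ∀ w ∈ ZS Q, ∀ x ∈ Q, x * w = w * x := fun w hw => (mem_ZS.1 hw).2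
  have hnab : ¬ ∀ x ∈ Q, ∀ y ∈ Q, x * y = y * x := by
    intro h
    have := H.noab Q hQS h
    rw [hc] at this
    exact lt_irrefl _ this
  have hk2 : k = 2 := by
    interval_cases k
    · exfalso
      have h2 := H.one_lt_card_ZS
      have h3 : Nat.card (ZS S) ≤ Nat.card (ZS Q) :=
        Nat.card_mono (Set.toFinite _) (ZS_le_of_centric hQ.1)
      rw [hke, pow_zero] at h3
      have := hpp.one_lt
      omega
    · exact absurd hQ (not_essential_of_center H.hS H.hF hQS hc (by rw [hke, pow_one]))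
    · rfl
    · exact absurd (fun x hx y hy => mul_comm_of_central (p := p) (ZS_le (S := Q))
        (by rw [hc, hke]; ring) hZc hx hy) hnab
    · exact absurd (fun x hx y hy => by
        have h2 : ZS Q = Q := Subgroup.eq_of_le_of_card_ge ZS_le (by rw [hc, hke])
        rw [← h2] at hy
        exact hZc y hy x hx) hnab
  rw [hk2] at hke
  obtain ⟨h2, h3⟩ := fourth_commutator hc hke
  refine ⟨⟨hQ, ZS_le, h3, fun α _ => charIn_ZS Q α, fun α _ => charIn_commutator Q α,
    by rw [hc, hke]; ring, Or.inr (by rw [hke, h2, sq]), Or.inr h2⟩, hke, h2⟩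

theorem norm_four (H : Hyp p F) {Q : Subgroup Ω} (hQ : F.IsEssential p Q)
    (hc : Nat.card Q = p ^ 4) : normalizerIn S Q = S := by
  have h1 := (H.four hQ hc).1.card_normalizer H.hS H.hF
  exact Subgroup.eq_of_le_of_card_ge inf_le_left (by rw [h1, H.card, hc]; ring_nf; exact le_rfl)

/-- There is an essential subgroup of order at most `p³`. -/
theorem exists_small (H : Hyp p F) : ∃ Q : Subgroup Ω, F.IsEssential p Q ∧ Nat.card Q ≤ p ^ 3 := by
  have hpp := hp.out
  by_contra hcon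
  push Not at hcon
  have hall : ∀ Q : Subgroup Ω, F.IsEssential p Q → Nat.card Q = p ^ 4 := by
    intro Q hQ
    obtain ⟨k, hk, hke⟩ := H.card_le_four hQ
    have h1 := hcon Q hQ
    rw [hke] at h1 ⊢
    have h2 := (Nat.pow_lt_pow_iff_right hpp.one_lt).1 h1
    congr 1
    omega
  have hfZS : Finite (ZS S) := finite_of_le ZS_le
  have hE : ∀ Q : Subgroup Ω, F.IsEssential p Q → ∀ α ∈ F.autGroup Q, ∀ x : Q, (x : Ω) ∈ ZS S →
      ((α x : Q) : Ω) ∈ ZS S := by
    intro Q hQ α hα x hx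
    have hQS := hQ.1.1
    have hfQ : Finite Q := finite_of_le hQS
    have hfZ : Finite (ZS Q) := finite_of_le ZS_le
    obtain ⟨h1, h2, h3⟩ := H.four hQ (hall Q hQ)
    have h4 := ZS_le_of_centric hQ.1
    have h5 := Subgroup.card_dvd_of_le h4
    rw [h2] at h5
    obtain ⟨k, hk, hke⟩ := (Nat.dvd_prime_pow hpp).1 h5
    have hN : Nrm S Q := by
      have := nrm_normalizerIn S Q
      rwa [H.norm_four hQ (hall Q hQ)] at this
    interval_cases k
    · exfalso
      have := H.one_lt_card_ZS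
      have h6 := hpp.one_lt
      rw [hke, pow_zero] at this
      omega
    · have h6 : ⁅Q, Q⁆ ≤ ZS S := central_of_card H.hS
        ((charIn_commutator Q).nrm_of (h1.YZ.trans h1.ZQ) hN) ((h1.YZ.trans h1.ZQ).trans hQS) h3
      have h7 : ⁅Q, Q⁆ = ZS S := Subgroup.eq_of_le_of_card_ge h6 (by rw [hke, h3, pow_one])
      rw [← h7] at hx ⊢
      exact h1.invY α hα x hx
    · have h7 : ZS S = ZS Q := Subgroup.eq_of_le_of_card_ge h4 (by rw [hke, h2])
      rw [h7] at hx ⊢
      exact h1.invZ α hα x hx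
  have h1 := eq_bot_of_inv H.hS H.hF H.core (R := ZS S) ZS_le
    (fun x hx y hy => ((mem_ZS.1 hy).2 x (ZS_le hx)))
    (fun α _ => charIn_ZS S α) hE
  have h2 := H.one_lt_card_ZS
  rw [h1, Subgroup.card_bot] at h2
  have := hpp.one_lt
  omega

/-- Automorphisms normalizing `Aut_S(Q)` extend, `|Q| = p⁴`. -/
theorem ext_four (H : Hyp p F) {Q : Subgroup Ω} (hQ : F.IsEssential p Q)
    (hc : Nat.card Q = p ^ 4) : ExtTop F Q := by
  intro γ hγ hn
  exact exists_aut_top (isReceptive_of_isFullyNormalized H.hS H.hF hQ.2.1) (H.norm_four hQ hc) hγ hn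

end Hyp

end Cfsg.Agent.H785
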