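import Cfsg.Agent.H785.FifthW

/-!
# Essential subgroups `Q` with an invariant subgroup `Z`, `|Q : Z| = p²`: tori (helper785)
-/

set_option autoImplicit false
set_option linter.unusedSectionVars false
set_option linter.unusedVariables false
set_option linter.style.haveILetI false

namespace Cfsg.Agent.H785

open Cfsg Cfsg.FusionSystem Cfsg.Agent.H802
open scoped commutatorElement

section Plane

variable {p : ℕ} [hp : Fact p.Prime]

/-- The fixed points of an automorphism of order `p` of a group of order `p²`. -/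
theorem card_fix_of_order {A : Type*} [CommGroup A] [Finite A] (hA : Nat.card A = p ^ 2)
    {s : MulAut A} (os : orderOf s = p) : Nat.card (fix s) = p ∧ Nat.card (com s) = p := by
  have hAp : IsPGroup p A := IsPGroup.of_card hA
  have hpp := hp.out
  have hs : s ^ p ^ 1 = 1 := by rw [pow_one, ← os, pow_orderOf_eq_one]
  obtain ⟨x, hx, hx'⟩ := Cfsg.Agent.H766.exists_fixed hAp (by
    rw [hA]
    intro h
    exact hpp.one_lt.ne' (Nat.dvd_one.1 (h ▸ dvd_pow_self p two_ne_zero))) s hs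
  have h1 := card_com_mul_card_fix s
  rw [hA] at h1
  have h2 : Nat.card (fix s) ∣ p ^ 2 := Dvd.intro_left _ h1
  obtain ⟨j, hj, hje⟩ := (Nat.dvd_prime_pow hpp).1 h2
  have h3 : fix s ≠ ⊥ := by
    intro h
    have : x ∈ fix s := mem_fix.2 hx'
    rw [h, Subgroup.mem_bot] at this
    exact hx this
  have h4 : fix s ≠ ⊤ := by
    intro h
    have : s = 1 := by
      ext y
      have : y ∈ fix s := by rw [h]; exact Subgroup.mem_top y
      exact mem_fix.1 this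
    rw [this, orderOf_one] at os
    exact hpp.one_lt.ne os
  have h5 : Nat.card (fix s) = p := by
    interval_cases j
    · exact absurd (Subgroup.card_eq_one.1 (by simpa using hje)) h3
    · simpa using hje
    · exact absurd (Subgroup.eq_top_of_card_eq _ (by rw [hje, hA])) h4
  refine ⟨h5, ?_⟩
  rw [h5, sq] at h1
  exact Nat.eq_of_mul_eq_mul_right hpp.pos h1

/-- Tori on a plane. -/
theorem exists_torus {A : Type*} [Group A] (hA : Nat.card A = p ^ 2)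
    {s s' : MulAut A} (os : orderOf s = p) (os' : orderOf s' = p)
    (hne : s' ∉ Subgroup.zpowers s) : ∃ D D' : Subgroup A, Nat.card D = p ∧ Nat.card D' = p ∧
      (∀ x : A, ∃ d ∈ D, ∃ d' ∈ D', x = d * d') ∧ (∀ x, x⁻¹ * s x ∈ D) ∧ (∀ x, s x = x ↔ x ∈ D) ∧
      (∀ x : A, ∃ k ∈ Subgroup.closure {s, s'}, k x ∈ D) ∧
      ∀ l l' : ℤ, (p : ℤ) ∣ l * l' - 1 → ∃ t ∈ Subgroup.closure {s, s'}, (∀ x ∈ D, t x = x ^ l) ∧
        (∀ x ∈ D', t x = x ^ l') ∧ t * s * t⁻¹ = s ^ (l ^ 2) := by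
  have hpp := hp.out
  letI : CommGroup A := { ‹Group A› with mul_comm := mul_comm_of_card_sq hA }
  have hfin : Finite A := Nat.finite_of_card_ne_zero (by rw [hA]; exact pow_ne_zero 2 hpp.ne_zero)
  obtain ⟨f1, c1⟩ := card_fix_of_order hA os
  obtain ⟨f2, c2⟩ := card_fix_of_order hA os'
  have hle : com s ≤ fix s := com_le_fix os c1
  have heq : com s = fix s := Subgroup.eq_of_le_of_card_ge hle (by rw [c1, f1])
  have h : Two p (Subgroup.closure {s, s'}) s s' :=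
    { pgroup := IsPGroup.of_card hA
      small := fun B _ hB => card_le_of_card_sq hA B hB
      sG := Subgroup.subset_closure (by simp)
      s'G := Subgroup.subset_closure (by simp)
      os := os
      os' := os'
      cs := c1
      cs' := c2
      ne := fun e => hne (by rw [e]; exact Subgroup.mem_zpowers _) }
  have htop : ∀ x, x ∈ com s ⊔ com s' := by
    intro x
    have h1 : com s ⊔ com s' = ⊤ := Subgroup.eq_top_of_card_eq _ (by rw [h.card_V, hA])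
    rw [h1]
    exact Subgroup.mem_top x
  refine ⟨com s, com s', c1, c2, fun x => ?_, fun x => del_mem_com s x, fun x => ?_, fun x => ?_,
    fun l l' hl => ?_⟩
  · obtain ⟨y, hy, z, hz, rfl⟩ := Subgroup.mem_sup.1 (htop x)
    exact ⟨y, hy, z, hz, rfl⟩
  · rw [heq]
    exact mem_fix.symm
  · have hs'm : s' ∈ Subgroup.closure {s, s'} := Subgroup.subset_closure (by simp)
    have hsm : s ∈ Subgroup.closure {s, s'} := Subgroup.subset_closure (by simp)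
    by_cases hx1 : x = 1
    · exact ⟨1, Subgroup.one_mem _, by rw [hx1, map_one]; exact Subgroup.one_mem _⟩
    by_cases hx : x ∈ com s'
    · have h3 : s x ∉ com s' := by
        intro h3
        have h4 : del s x ∈ com s' := (com s').mul_mem ((com s').inv_mem hx) h3
        have h5 : del s x = 1 := h.com_inf_fix (del_mem_com s _) (h.symm.com_le_fix_self h4)
        exact hx1 (h.symm.com_inf_fix hx h5)
      obtain ⟨n, hn⟩ := h.exists_move (htop (s x)) h3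
      exact ⟨s' ^ n * s, Subgroup.mul_mem _ (Subgroup.zpow_mem _ hs'm n) hsm, hn⟩
    · obtain ⟨n, hn⟩ := h.exists_move (htop x) hx
      exact ⟨s' ^ n, Subgroup.zpow_mem _ hs'm n, hn⟩
  · obtain ⟨t, ht, h1, h2, -, h3⟩ := h.torus hl
    exact ⟨t, ht, h1, h2, h3⟩

end Plane

variable {Ω : Type*} [Group Ω] {S : Subgroup Ω} {p : ℕ} [hp : Fact p.Prime] [Finite S]
  {F : FusionSystem S}

/-- `Q` is essential, `Y ≤ Z ≤ Q` are invariant, `|Q/Z| = p²`, `|Z/Y|` and `|Y|` are `1` or `p`. -/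
structure Sec (p : ℕ) (F : FusionSystem S) (Q Z Y : Subgroup Ω) : Prop where
  ess : F.IsEssential p Q
  ZQ : Z ≤ Q
  YZ : Y ≤ Z
  invZ : ∀ α ∈ F.autGroup Q, ∀ x : Q, (x : Ω) ∈ Z → ((α x : Q) : Ω) ∈ Z
  invY : ∀ α ∈ F.autGroup Q, ∀ x : Q, (x : Ω) ∈ Y → ((α x : Q) : Ω) ∈ Y
  cardQ : Nat.card Q = p ^ 2 * Nat.card Z
  cardZ : Nat.card Z = Nat.card Y ∨ Nat.card Z = p * Nat.card Y
  cardY : Nat.card Y = 1 ∨ Nat.card Y = p

namespace Sec

variable {Q Z Y : Subgroup Ω}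

theorem QS (h : Sec p F Q Z Y) : Q ≤ S := h.ess.1.1

theorem cent (h : Sec p F Q Z Y) : centralizerIn S Q ≤ Q :=
  h.ess.1.2 Q (isConj_refl F h.QS)

theorem nrmZ (h : Sec p F Q Z Y) : Nrm Q Z := by
  intro g hg y hy
  exact h.invZ _ (inn_le_autGroup F h.QS ⟨⟨g, hg⟩, rfl⟩) ⟨y, h.ZQ hy⟩ hy

theorem nrmY (h : Sec p F Q Z Y) : Nrm Q Y := by
  intro g hg y hy
  exact h.invY _ (inn_le_autGroup F h.QS ⟨⟨g, hg⟩, rfl⟩) ⟨y, h.ZQ (h.YZ hy)⟩ hy

theorem conj_mem_Z (h : Sec p F Q Z Y) {g : Ω} (hg : g ∈ normalizerIn S Q) {z : Ω} (hz : z ∈ Z) :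
    g * z * g⁻¹ ∈ Z := by
  obtain ⟨β, hβ⟩ := exists_conjAut hg.2
  have h1 := h.invZ β (autInducedBy_le_autGroup F h.QS (conj_mem_autInducedBy hg.1 hβ))
    ⟨z, h.ZQ hz⟩ hz
  rwa [hβ] at h1

theorem conj_mem_Y (h : Sec p F Q Z Y) {g : Ω} (hg : g ∈ normalizerIn S Q) {z : Ω} (hz : z ∈ Y) :
    g * z * g⁻¹ ∈ Y := by
  obtain ⟨β, hβ⟩ := exists_conjAut hg.2
  have h1 := h.invY β (autInducedBy_le_autGroup F h.QS (conj_mem_autInducedBy hg.1 hβ))
    ⟨z, h.ZQ (h.YZ hz)⟩ hz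
  rwa [hβ] at h1

theorem conj_mem_Q (h : Sec p F Q Z Y) {g : Ω} (hg : g ∈ normalizerIn S Q) {z : Ω} (hz : z ∈ Q) :
    g * z * g⁻¹ ∈ Q := by
  obtain ⟨β, hβ⟩ := exists_conjAut hg.2
  rw [← hβ ⟨z, hz⟩]
  exact (β _).2

/-- The elements of `Aut_F(Q)` acting trivially on `Z/Y` and `Y`. -/
def tri (h : Sec p F Q Z Y) : Subgroup (MulAut Q) where
  carrier := {α | α ∈ F.autGroup Q ∧ (∀ x : Q, (x : Ω) ∈ Z → ((x⁻¹ * α x : Q) : Ω) ∈ Y) ∧
    ∀ x : Q, (x : Ω) ∈ Y → α x = x}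
  one_mem' := ⟨one_mem _, fun x _ => by simp, fun x _ => rfl⟩
  mul_mem' := by
    rintro a b ⟨ha, ha1, ha2⟩ ⟨hb, hb1, hb2⟩
    refine ⟨mul_mem ha hb, fun x hx => ?_, fun x hx => ?_⟩
    · have e : x⁻¹ * (a * b) x = (x⁻¹ * b x) * ((b x)⁻¹ * a (b x)) := by
        rw [MulAut.mul_apply]; group
      rw [e]
      exact Y.mul_mem (hb1 x hx) (ha1 _ (h.invZ b hb x hx))
    · rw [MulAut.mul_apply, hb2 x hx, ha2 x hx]
  inv_mem' := by
    rintro a ⟨ha, ha1, ha2⟩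
    refine ⟨inv_mem ha, fun x hx => ?_, fun x hx => ?_⟩
    · have h1 := ha1 (a⁻¹ x) (h.invZ _ (inv_mem ha) x hx)
      rw [MulAut.apply_inv_self] at h1
      have h2 := Y.inv_mem h1
      have e : (((a⁻¹ x)⁻¹ * x : Q) : Ω)⁻¹ = ((x⁻¹ * a⁻¹ x : Q) : Ω) := by
        rw [← Subgroup.coe_inv, mul_inv_rev, inv_inv]
      rwa [e] at h2
    · have h1 := ha2 (a⁻¹ x) (h.invY _ (inv_mem ha) x hx)
      rw [MulAut.apply_inv_self] at h1
      exact h1.symm

theorem mem_tri (h : Sec p F Q Z Y) {α : MulAut Q} : α ∈ h.tri ↔ α ∈ F.autGroup Q ∧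
    (∀ x : Q, (x : Ω) ∈ Z → ((x⁻¹ * α x : Q) : Ω) ∈ Y) ∧ ∀ x : Q, (x : Ω) ∈ Y → α x = x := Iff.rfl

theorem tri_le (h : Sec p F Q Z Y) : h.tri ≤ F.autGroup Q := fun _ ha => ha.1

theorem conj_tri (h : Sec p F Q Z Y) {g α : MulAut Q} (hg : g ∈ F.autGroup Q) (hα : α ∈ h.tri) :
    g * α * g⁻¹ ∈ h.tri := by
  obtain ⟨ha, ha1, ha2⟩ := hα
  refine ⟨mul_mem (mul_mem hg ha) (inv_mem hg), fun x hx => ?_, fun x hx => ?_⟩
  · have h1 := h.invY g hg _ (ha1 _ (h.invZ _ (inv_mem hg) x hx))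
    rw [map_mul, map_inv, MulAut.apply_inv_self] at h1
    exact h1
  · rw [MulAut.mul_apply, MulAut.mul_apply, ha2 _ (h.invY _ (inv_mem hg) x hx),
      MulAut.apply_inv_self]

theorem relIndex_ZY (h : Sec p F Q Z Y) : (Y.subgroupOf Q).relIndex (Z.subgroupOf Q) = 1 ∨
    (Y.subgroupOf Q).relIndex (Z.subgroupOf Q) = p := by
  have hfQ : Finite Q := finite_of_le h.QS
  have hfZ : Finite Z := finite_of_le h.ZQ
  have hfY : Finite Y := finite_of_le h.YZ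
  have h1 : (Y.subgroupOf Q).relIndex (Z.subgroupOf Q) = Y.relIndex Z :=
    Subgroup.relIndex_subgroupOf h.ZQ
  rw [h1]
  have h4 : (Y.subgroupOf Z).index = Y.relIndex Z := rfl
  have h5 := (Y.subgroupOf Z).card_mul_index
  rw [Nat.card_congr (Subgroup.subgroupOfEquivOfLe h.YZ).toEquiv, h4] at h5
  have h6 : 0 < Nat.card Y := Nat.card_pos
  rcases h.cardZ with h7 | h7
  · left
    rw [h7] at h5
    exact Nat.eq_of_mul_eq_mul_left h6 (by rw [h5, mul_one])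
  · right
    rw [h7] at h5
    exact Nat.eq_of_mul_eq_mul_left h6 (by rw [h5, mul_comm])

/-- `p`-elements of `Aut_F(Q)` act trivially on `Z/Y` and `Y`. -/
theorem mem_tri_of_pow (h : Sec p F Q Z Y) {α : MulAut Q} (hα : α ∈ F.autGroup Q) {k : ℕ}
    (hk : α ^ p ^ k = 1) : α ∈ h.tri := by
  have hfQ : Finite Q := finite_of_le h.QS
  have hfY : Finite Y := finite_of_le (h.YZ.trans h.ZQ)
  refine ⟨hα, fun x hx => ?_, fun x hx => ?_⟩
  · exact Cfsg.Agent.H766.pAut_trivial_section α hk (L := Y.subgroupOf Q) (K := Z.subgroupOf Q)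
      (fun x hx => h.invY α hα x hx) (fun x hx => h.invZ α hα x hx) h.relIndex_ZY x hx
  · have h1 := Cfsg.Agent.H766.pAut_trivial_section α hk (L := ⊥) (K := Y.subgroupOf Q)
      (fun x hx => by rw [Subgroup.mem_bot] at hx ⊢; rw [hx, map_one])
      (fun x hx => h.invY α hα x hx) (by
        rw [Subgroup.relIndex_bot_left]
        rw [Nat.card_congr (Subgroup.subgroupOfEquivOfLe (h.YZ.trans h.ZQ)).toEquiv]
        exact h.cardY) x hx
    rw [Subgroup.mem_bot, inv_mul_eq_one] at h1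
    exact h1.symm

/-- **Chain lemma.** -/
theorem mem_inn_of_chain (hS : IsPGroup p S) (h : Sec p F Q Z Y) {α : MulAut Q} (hα : α ∈ h.tri)
    (h1 : ∀ x : Q, ((x⁻¹ * α x : Q) : Ω) ∈ Z) : α ∈ Inn Q := by
  have hfQ : Finite Q := finite_of_le h.QS
  have hQp : IsPGroup p Q := hS.to_le h.QS
  let K : Subgroup (MulAut Q) :=
    { carrier := {α | α ∈ h.tri ∧ ∀ x : Q, ((x⁻¹ * α x : Q) : Ω) ∈ Z}
      one_mem' := ⟨one_mem _, fun x => by simp⟩
      mul_mem' := by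
        rintro a b ⟨ha, ha'⟩ ⟨hb, hb'⟩
        refine ⟨mul_mem ha hb, fun x => ?_⟩
        have e : x⁻¹ * (a * b) x = (x⁻¹ * b x) * ((b x)⁻¹ * a (b x)) := by
          rw [MulAut.mul_apply]; group
        rw [e]
        exact Z.mul_mem (hb' x) (ha' _)
      inv_mem' := by
        rintro a ⟨ha, ha'⟩
        refine ⟨inv_mem ha, fun x => ?_⟩
        have h1 := ha' (a⁻¹ x)
        rw [MulAut.apply_inv_self] at h1
        have h2 := Z.inv_mem h1
        have e : (((a⁻¹ x)⁻¹ * x : Q) : Ω)⁻¹ = ((x⁻¹ * a⁻¹ x : Q) : Ω) := by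
          rw [← Subgroup.coe_inv, mul_inv_rev, inv_inv]
        rwa [e] at h2 }
  have hKA : K ≤ F.autGroup Q := fun a ha => ha.1.1
  have hKn : ∀ a ∈ F.autGroup Q, ∀ k ∈ K, a * k * a⁻¹ ∈ K := by
    rintro a ha k ⟨hk, hk'⟩
    refine ⟨h.conj_tri ha hk, fun x => ?_⟩
    have h2 := h.invZ a ha _ (hk' (a⁻¹ x))
    rw [map_mul, map_inv, MulAut.apply_inv_self] at h2
    exact h2
  have hKp : IsPGroup p K := by
    rintro ⟨κ, hκ, hκ'⟩
    let c : ℕ → Subgroup Q := fun i =>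
      if i = 0 then ⊤ else if i = 1 then Z.subgroupOf Q else if i = 2 then Y.subgroupOf Q else ⊥
    obtain ⟨k, hk⟩ := Cfsg.Agent.H759.exists_pow_eq_one_of_chain hQp κ 3 c rfl rfl
      (by
        intro i hi x hx
        interval_cases i
        · exact Subgroup.mem_top _
        · exact h.invZ κ hκ.1 x hx
        · exact h.invY κ hκ.1 x hx
        · have hx' : x ∈ (⊥ : Subgroup Q) := hx
          rw [Subgroup.mem_bot] at hx'
          rw [hx', map_one]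
          exact Subgroup.one_mem _)
      (by
        intro i hi x hx
        interval_cases i
        · exact hκ' x
        · exact hκ.2.1 x hx
        · have h2 := hκ.2.2 x hx
          rw [h2, inv_mul_cancel]
          exact Subgroup.one_mem _)
    exact ⟨k, Subtype.ext hk⟩
  exact Cfsg.Agent.H765.Ess.le_inn hS h.ess K hKA hKn hKp ⟨hα, h1⟩

/-- Conjugation by an element of `N_S(Q)` acting trivially on `Q/Z`: the element lies in `Q`. -/
theorem mem_of_comm (hS : IsPGroup p S) (h : Sec p F Q Z Y) {g : Ω} (hg : g ∈ S)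
    (hgQ : ∀ x ∈ Q, ⁅g, x⁆ ∈ Z) : g ∈ Q := by
  have hfQ : Finite Q := finite_of_le h.QS
  have hn : g ∈ Subgroup.normalizer (Q : Set Ω) := by
    have h1 : ∀ x ∈ Q, g * x * g⁻¹ ∈ Q := by
      intro x hx
      have e : g * x * g⁻¹ = ⁅g, x⁆ * x := by rw [commutatorElement_def]; group
      rw [e]
      exact Q.mul_mem (h.ZQ (hgQ x hx)) hx
    have hmap : Q.map (MulAut.conj g).toMonoidHom = Q := by
      refine Subgroup.eq_of_le_of_card_ge ?_ ?_
      · rintro _ ⟨x, hx, rfl⟩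
        exact h1 x hx
      · exact (Nat.card_congr
          (Q.equivMapOfInjective _ (MulAut.conj g).injective).toEquiv).le
    rw [Subgroup.mem_normalizer_iff]
    intro x
    refine ⟨h1 x, fun hx => ?_⟩
    rw [← hmap] at hx
    obtain ⟨y, hy, hye⟩ := hx
    have : y = x := (MulAut.conj g).injective hye
    rw [← this]
    exact hy
  obtain ⟨β, hβ⟩ := exists_conjAut hn
  have hβS : β ∈ autInducedBy S Q := conj_mem_autInducedBy hg hβ
  obtain ⟨k, hk⟩ := isPGroup_autInducedBy hS Q ⟨β, hβS⟩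
  have hk' : β ^ p ^ k = 1 := congrArg Subtype.val hk
  have h2 := h.mem_inn_of_chain hS (h.mem_tri_of_pow (autInducedBy_le_autGroup F h.QS hβS) hk') (by
    intro x
    rw [Subgroup.coe_mul, Subgroup.coe_inv, hβ]
    have h3 := h.conj_mem_Z (g := (x : Ω)⁻¹) ⟨S.inv_mem (h.QS x.2), ?_⟩ (hgQ x x.2)
    · have e : (x : Ω)⁻¹ * ⁅g, (x : Ω)⁆ * ((x : Ω)⁻¹)⁻¹ = (x : Ω)⁻¹ * (g * x * g⁻¹) := by
        rw [commutatorElement_def]
        group
      rwa [e] at h3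
    · exact Subgroup.le_normalizer (Q.inv_mem x.2))
  exact mem_of_conj_mem_inn h.QS h.cent hg hβ h2

theorem nrmNQ (h : Sec p F Q Z Y) : Nrm (normalizerIn S Q) Q := fun _ hg _ hx => h.conj_mem_Q hg hx

theorem nrmNZ (h : Sec p F Q Z Y) : Nrm (normalizerIn S Q) Z := fun _ hg _ hx => h.conj_mem_Z hg hx

theorem nrmNY (h : Sec p F Q Z Y) : Nrm (normalizerIn S Q) Y := fun _ hg _ hx => h.conj_mem_Y hg hx

/-- `|N_S(Q) : Q| = p`. -/
theorem card_normalizer (hS : IsPGroup p S) (hF : F.IsSaturated p) (h : Sec p F Q Z Y) :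
    Nat.card (normalizerIn S Q) = p * Nat.card Q := by
  have hfQ : Finite Q := finite_of_le h.QS
  have hNS : normalizerIn S Q ≤ S := inf_le_left
  have hfN : Finite (normalizerIn S Q) := finite_of_le hNS
  have h1 := card_lt_card_normalizerIn hS h.QS (ne_of_isEssential hS hF h.ess)
  have h2 := card_le_aK (p := p) (hS.to_le hNS) h.nrmNQ h.nrmNZ h.nrmZ h.ZQ h.cardQ
  have h3 : aK (normalizerIn S Q) Q Z h.nrmNZ ≤ Q := by
    intro g hg
    exact h.mem_of_comm hS (hNS hg.1) hg.2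
  have h4 : Nat.card (aK (normalizerIn S Q) Q Z h.nrmNZ) ≤ Nat.card Q :=
    Nat.card_mono (Set.toFinite _) h3
  have h5 : Nat.card (normalizerIn S Q) ≤ p * Nat.card Q := h2.trans (Nat.mul_le_mul le_rfl h4)
  obtain ⟨m, hm⟩ := Subgroup.card_dvd_of_le (le_normalizerIn h.QS)
  obtain ⟨a, ha⟩ := IsPGroup.iff_card.1 (hS.to_le h.QS)
  obtain ⟨b, hb⟩ := IsPGroup.iff_card.1 (hS.to_le hNS)
  rw [ha, hb] at h1 h5 ⊢
  have hpp := hp.out
  have h6 : a < b := (Nat.pow_lt_pow_iff_right hpp.one_lt).1 h1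
  rw [← pow_succ'] at h5 ⊢
  have h7 : b ≤ a + 1 := (Nat.pow_le_pow_iff_right hpp.one_lt).1 h5
  congr 1
  omega

theorem eq_conjHom (h : Sec p F Q Z Y) {g : Ω} (hg : g ∈ normalizerIn S Q) {s : MulAut Q}
    (hs : ∀ x : Q, ((s x : Q) : Ω) = g * x * g⁻¹) :
    s = conjHom (normalizerIn S Q) Q h.nrmNQ ⟨g, hg⟩ := by
  ext x
  exact hs x

/-- `Aut_S(Q) = ⟨s⟩ Inn(Q)`. -/
theorem exists_zpow_mul (hS : IsPGroup p S) (hF : F.IsSaturated p) (h : Sec p F Q Z Y) {g : Ω}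
    (hg : g ∈ normalizerIn S Q) (hgQ : g ∉ Q) {s : MulAut Q} (hs : ∀ x : Q, ((s x : Q) : Ω) = g * x * g⁻¹)
    {δ : MulAut Q} (hδ : δ ∈ autInducedBy S Q) : ∃ j : ℤ, ∃ ι ∈ Inn Q, δ = s ^ j * ι := by
  have hNS : normalizerIn S Q ≤ S := inf_le_left
  have hfN : Finite (normalizerIn S Q) := finite_of_le hNS
  obtain ⟨n, hn, hne⟩ := (mem_autInducedBy_iff S Q δ).1 hδ
  have hnN : n ∈ normalizerIn S Q := ⟨hn, mem_normalizer_of_aut hne⟩
  obtain ⟨j, hj⟩ := exists_zpow_mod (le_normalizerIn h.QS) h.nrmNQ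
    (h.card_normalizer hS hF) hg hgQ hnN
  refine ⟨j, MulAut.conj ⟨_, hj⟩, ⟨_, rfl⟩, ?_⟩
  rw [h.eq_conjHom hg hs, h.eq_conjHom hnN hne, ← map_zpow]
  ext x
  rw [MulAut.mul_apply, coe_conjHom, coe_conjHom]
  show n * x * n⁻¹ = ((⟨g, hg⟩ ^ j : normalizerIn S Q) : Ω) *
    (((g ^ j)⁻¹ * n) * x * ((g ^ j)⁻¹ * n)⁻¹) * ((⟨g, hg⟩ ^ j : normalizerIn S Q) : Ω)⁻¹
  rw [Subgroup.coe_zpow]
  group

theorem conj_mem_of (hS : IsPGroup p S) (hF : F.IsSaturated p) (h : Sec p F Q Z Y) {g : Ω}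
    (hg : g ∈ normalizerIn S Q) (hgQ : g ∉ Q) {s : MulAut Q} (hs : ∀ x : Q, ((s x : Q) : Ω) = g * x * g⁻¹)
    {α : MulAut Q} (hα : α * s * α⁻¹ ∈ autInducedBy S Q) :
    ∀ δ ∈ autInducedBy S Q, α * δ * α⁻¹ ∈ autInducedBy S Q := by
  intro δ hδ
  obtain ⟨j, ι, hι, rfl⟩ := h.exists_zpow_mul hS hF hg hgQ hs hδ
  have e : α * (s ^ j * ι) * α⁻¹ = (α * s * α⁻¹) ^ j * (α * ι * α⁻¹) := by
    rw [conj_zpow]
    group
  rw [e]
  exact Subgroup.mul_mem _ (Subgroup.zpow_mem _ hα j)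
    (inn_le_autInducedBy h.QS ((innNormal Q).conj_mem ι hι α))

/-- **Tori.** -/
theorem exists_torus_aux (hS : IsPGroup p S) (hF : F.IsSaturated p) (h : Sec p F Q Z Y) {g : Ω}
    (hg : g ∈ normalizerIn S Q) (hgQ : g ∉ Q) : ∃ L : Subgroup Ω, Z ≤ L ∧ L ≤ Q ∧
      Nat.card L = p * Nat.card Z ∧ (∀ x ∈ Q, ⁅g, x⁆ ∈ L) ∧ (∀ x ∈ Q, ⁅g, x⁆ ∈ Z ↔ x ∈ L) ∧
      (∀ x : Q, ∃ β ∈ F.autGroup Q, ((β x : Q) : Ω) ∈ L) ∧
      ∀ l l' : ℤ, (p : ℤ) ∣ l * l' - 1 → ∃ t ∈ h.tri,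
        (∀ δ ∈ autInducedBy S Q, t * δ * t⁻¹ ∈ autInducedBy S Q) ∧
        (∀ x : Q, ((x : Ω) ^ l')⁻¹ * (t x : Q) ∈ L) ∧
        (∀ x : Q, (x : Ω) ∈ L → ((x : Ω) ^ l)⁻¹ * (t x : Q) ∈ Z) ∧
        (l = -1 → l' = -1 → ∀ x : Q, (x : Ω) * (t x : Q) ∈ Z) := by
  have hpp := hp.out
  have hfQ : Finite Q := finite_of_le h.QS
  have hfZ : Finite Z := finite_of_le h.ZQ
  have hZ0 : 0 < Nat.card Z := Nat.card_pos
  obtain ⟨s, hs⟩ := exists_conjAut hg.2
  have hn : (Z.subgroupOf Q).Normal := h.nrmZ.normal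
  set N := Z.subgroupOf Q with hN
  have hcN : Nat.card N = Nat.card Z := Nat.card_congr (Subgroup.subgroupOfEquivOfLe h.ZQ).toEquiv
  have hU : Nat.card (Q ⧸ N) = p ^ 2 := by
    have h1 := N.card_mul_index
    rw [hcN, h.cardQ, mul_comm] at h1
    exact Nat.eq_of_mul_eq_mul_right hZ0 h1
  set q := QuotientGroup.mk' N with hq
  have hq1 : ∀ z : Q, q z = 1 ↔ (z : Ω) ∈ Z := fun z => QuotientGroup.eq_one_iff z
  set A := F.autGroup Q with hA
  have hinv : ∀ (g : A), ∀ x ∈ N, A.subtype g x ∈ N := fun g x hx => h.invZ g g.2 x hx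
  set π := quotAct A.subtype N hinv with hπ
  have hπq : ∀ (a : A) (x : Q), π a (q x) = q ((a : MulAut Q) x) := fun a x => rfl
  have hπ1 : ∀ a : A, π a = 1 → ∀ x : Q, ((x⁻¹ * (a : MulAut Q) x : Q) : Ω) ∈ Z := by
    intro a ha
    exact (quotAct_eq_one_iff A.subtype N hinv a).1 ha
  have hsS : s ∈ autInducedBy S Q := conj_mem_autInducedBy hg.1 hs
  have hsA : s ∈ A := autInducedBy_le_autGroup F h.QS hsS
  obtain ⟨k, hk⟩ := isPGroup_autInducedBy hS Q ⟨s, hsS⟩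
  have hk' : s ^ p ^ k = 1 := congrArg Subtype.val hk
  have hstri : s ∈ h.tri := h.mem_tri_of_pow hsA hk'
  -- elements of `tri` acting trivially on the quotient are inner
  have hker : ∀ a : A, (a : MulAut Q) ∈ h.tri → π a = 1 → (a : MulAut Q) ∈ Inn Q :=
    fun a ha ha1 => h.mem_inn_of_chain hS ha (hπ1 a ha1)
  have hσ1 : π ⟨s, hsA⟩ ≠ 1 := by
    intro h1
    exact hgQ (mem_of_conj_mem_inn h.QS h.cent hg.1 hs (hker _ hstri h1))
  have hord : ∀ a : A, (a : MulAut Q) ^ p ^ k = 1 → π a ≠ 1 → orderOf (π a) = p := by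
    intro a ha ha1
    have h1 : IsPGroup p (Subgroup.zpowers (π a)) := by
      rintro ⟨b, hb⟩
      obtain ⟨n, rfl⟩ := Subgroup.mem_zpowers_iff.1 hb
      refine ⟨k, Subtype.ext ?_⟩
      have h2 : a ^ p ^ k = 1 := Subtype.ext ha
      show (π a ^ n) ^ p ^ k = 1
      rw [← zpow_natCast, ← zpow_mul, mul_comm, zpow_mul, zpow_natCast, ← map_pow, h2, map_one,
        one_zpow]
    have h2 := card_le_of_card_sq hU _ h1
    have h3 : Finite (MulAut (Q ⧸ N)) := inferInstance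
    rw [Nat.card_zpowers] at h2
    have h4 : orderOf (π a) ∣ p ^ k := by
      apply orderOf_dvd_of_pow_eq_one
      have h2 : a ^ p ^ k = 1 := Subtype.ext ha
      rw [← map_pow, h2, map_one]
    obtain ⟨j, hj, hje⟩ := (Nat.dvd_prime_pow hpp).1 h4
    have h5 : j ≠ 0 := by
      rintro rfl
      rw [pow_zero] at hje
      exact ha1 (orderOf_eq_one_iff.1 hje)
    have h6 : j ≤ 1 := by
      rw [hje] at h2
      have h7 : p ^ j ≤ p ^ 1 := by rwa [pow_one]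
      exact (Nat.pow_le_pow_iff_right hpp.one_lt).1 h7
    have h7 : j = 1 := by omega
    rw [hje, h7, pow_one]
  have hos := hord ⟨s, hsA⟩ hk' hσ1
  -- a second transvection
  have hconj : ∀ (α : A), π (α * ⟨s, hsA⟩ * α⁻¹) ∈ Subgroup.zpowers (π ⟨s, hsA⟩) →
      (α : MulAut Q) * s * (α : MulAut Q)⁻¹ ∈ autInducedBy S Q := by
    intro α hα
    obtain ⟨j, hj⟩ := Subgroup.mem_zpowers_iff.1 hα
    have h1 : π ((⟨s, hsA⟩ ^ j)⁻¹ * (α * ⟨s, hsA⟩ * α⁻¹)) = 1 := by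
      rw [map_mul, map_inv, map_zpow, hj, inv_mul_cancel]
    have h2 := hker _ (h.tri.mul_mem (h.tri.inv_mem (h.tri.zpow_mem hstri j))
      (h.conj_tri α.2 hstri)) h1
    have h3 := (autInducedBy S Q).mul_mem (Subgroup.zpow_mem _ hsS j)
      (inn_le_autInducedBy h.QS h2)
    have e : s ^ j * ((s ^ j)⁻¹ * ((α : MulAut Q) * s * (α : MulAut Q)⁻¹)) =
      (α : MulAut Q) * s * (α : MulAut Q)⁻¹ := by group
    rwa [← e]
  obtain ⟨α, hα⟩ : ∃ α : A, π (α * ⟨s, hsA⟩ * α⁻¹) ∉ Subgroup.zpowers (π ⟨s, hsA⟩) := by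
    by_contra hcon
    push Not at hcon
    obtain ⟨α, hα, δ, hδ, hαδ⟩ := exists_not_normalize hS hF h.ess
    exact hαδ (h.conj_mem_of hS hF hg hgQ hs (hconj ⟨α, hα⟩ (hcon ⟨α, hα⟩)) δ hδ)
  set s₁ : A := ⟨s, hsA⟩ with hs₁
  set s₂ : A := α * s₁ * α⁻¹ with hs₂
  have hs₂k : (s₂ : MulAut Q) ^ p ^ k = 1 := by
    have : s₂ ^ p ^ k = 1 := by
      rw [hs₂, conj_pow, (Subtype.ext hk' : s₁ ^ p ^ k = 1)]
      group
    exact congrArg Subtype.val this
  have hos₂ : orderOf (π s₂) = p := by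
    refine hord s₂ hs₂k fun h1 => hα ?_
    rw [h1]
    exact Subgroup.one_mem _
  have hs₂tri : (s₂ : MulAut Q) ∈ h.tri := h.mem_tri_of_pow s₂.2 hs₂k
  obtain ⟨D, D', hD, hD', hDD, hmove, hfix, hmv, htor⟩ :=
    Cfsg.Agent.H785.exists_torus hU hos hos₂ hα
  have hmemL : ∀ x : Q, (x : Ω) ∈ (D.comap q).map Q.subtype ↔ q x ∈ D := by
    intro x
    constructor
    · rintro ⟨y, hy, hyx⟩
      have : y = x := Subtype.ext hyx
      rw [← this]
      exact hy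
    · intro hx
      exact ⟨x, hx, rfl⟩
  have hUc : ∀ a b : Q ⧸ N, a * b = b * a := mul_comm_of_card_sq hU
  have hbr : ∀ x : Q, (⟨⁅g, (x : Ω)⁆, by
      rw [commutatorElement_def]
      exact Q.mul_mem (h.conj_mem_Q hg x.2) (Q.inv_mem x.2)⟩ : Q) = s x * x⁻¹ := by
    intro x
    apply Subtype.ext
    rw [Subgroup.coe_mul, hs, Subgroup.coe_inv]
    exact commutatorElement_def _ _
  have hbrq : ∀ x : Q, q (s x * x⁻¹) = (q x)⁻¹ * π s₁ (q x) := by
    intro x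
    rw [map_mul, map_inv, hπq, hUc]
  have hcl : Subgroup.closure {π s₁, π s₂} = (Subgroup.closure {s₁, s₂}).map π := by
    rw [MonoidHom.map_closure, Set.image_pair]
  refine ⟨(D.comap q).map Q.subtype, ?_, ?_, ?_, ?_, ?_, ?_, ?_⟩
  · intro z hz
    refine (hmemL ⟨z, h.ZQ hz⟩).2 ?_
    rw [(hq1 _).2 hz]
    exact D.one_mem
  · rintro _ ⟨y, -, rfl⟩
    exact y.2
  · have h1 : Nat.card ((D.comap q).map Q.subtype) = Nat.card (D.comap q) :=
      Nat.card_congr ((D.comap q).equivMapOfInjective _ Q.subtype_injective).symm.toEquiv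
    rw [h1, hq, card_comap_mk, hD, hcN]
  · intro x hx
    have h1 := (hmemL (s ⟨x, hx⟩ * ⟨x, hx⟩⁻¹)).2 (by
      rw [hbrq]
      exact hmove _)
    rw [← hbr] at h1
    exact h1
  · intro x hx
    have h1 := hmemL ⟨x, hx⟩
    have h2 := hfix (q ⟨x, hx⟩)
    have h3 := hq1 (s ⟨x, hx⟩ * ⟨x, hx⟩⁻¹)
    rw [hbrq, inv_mul_eq_one, ← hbr] at h3
    rw [h1, ← h2, eq_comm (a := π s₁ _), h3]
  · intro x
    obtain ⟨k, hk, hkx⟩ := hmv (q x)
    rw [hcl] at hk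
    obtain ⟨κ, -, rfl⟩ := hk
    exact ⟨κ, κ.2, (hmemL _).2 hkx⟩
  · intro l l' hl
    obtain ⟨t, ht, ht1, ht2, ht3⟩ := htor l l' hl
    rw [hcl] at ht
    obtain ⟨τ, hτ, rfl⟩ := ht
    have hτtri : (τ : MulAut Q) ∈ h.tri := by
      have h1 : Subgroup.closure {s₁, s₂} ≤ h.tri.comap A.subtype := by
        rw [Subgroup.closure_le]
        rintro x (hx | hx)
        · rw [hx]
          exact hstri
        · rw [Set.mem_singleton_iff.1 hx]
          exact hs₂tri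
      exact h1 hτ
    refine ⟨τ, hτtri, ?_, ?_, ?_, ?_⟩
    · refine h.conj_mem_of hS hF hg hgQ hs (hconj τ ?_)
      rw [map_mul, map_mul, map_inv, ht3]
      exact Subgroup.zpow_mem_zpowers _ _
    · intro x
      refine (hmemL ((x ^ l')⁻¹ * (τ : MulAut Q) x)).2 ?_
      obtain ⟨d, hd, d', hd', hx⟩ := hDD (q x)
      have e : ((d * d') ^ l')⁻¹ * (d ^ l * d' ^ l') = (d ^ l')⁻¹ * d ^ l := by
        rw [(show Commute d d' from hUc d d').mul_zpow, mul_inv_rev, hUc (d ^ l) (d' ^ l'),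
          hUc (d' ^ l')⁻¹ (d ^ l')⁻¹]
        group
      rw [map_mul, map_inv, map_zpow, ← hπq, hx, map_mul, ht1 d hd, ht2 d' hd', e]
      exact D.mul_mem (D.inv_mem (D.zpow_mem hd _)) (D.zpow_mem hd _)
    · intro x hx
      have h1 : q ((x ^ l)⁻¹ * (τ : MulAut Q) x) = 1 := by
        rw [map_mul, map_inv, map_zpow, ← hπq, ht1 _ ((hmemL x).1 hx), inv_mul_cancel]
      exact (hq1 _).1 h1
    · intro hl1 hl2 x
      obtain ⟨d, hd, d', hd', hx⟩ := hDD (q x)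
      have h1 : q (x * (τ : MulAut Q) x) = 1 := by
        rw [map_mul, ← hπq, hx, map_mul, ht1 d hd, ht2 d' hd', hl1, hl2, zpow_neg_one, zpow_neg_one,
          ← mul_inv_rev, hUc d' d, mul_inv_cancel]
      exact (hq1 _).1 h1

/-- **Tori.** -/
theorem exists_torus (hS : IsPGroup p S) (hF : F.IsSaturated p) (h : Sec p F Q Z Y) {g : Ω}
    (hg : g ∈ normalizerIn S Q) (hgQ : g ∉ Q) : ∃ L : Subgroup Ω, Z ≤ L ∧ L ≤ Q ∧
      Nat.card L = p * Nat.card Z ∧ (∀ x ∈ Q, ⁅g, x⁆ ∈ L) ∧ (∀ x ∈ Q, ⁅g, x⁆ ∈ Z ↔ x ∈ L) ∧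
      ∀ l l' : ℤ, (p : ℤ) ∣ l * l' - 1 → ∃ t ∈ h.tri,
        (∀ δ ∈ autInducedBy S Q, t * δ * t⁻¹ ∈ autInducedBy S Q) ∧
        (∀ x : Q, ((x : Ω) ^ l')⁻¹ * (t x : Q) ∈ L) ∧
        (∀ x : Q, (x : Ω) ∈ L → ((x : Ω) ^ l)⁻¹ * (t x : Q) ∈ Z) ∧
        (l = -1 → l' = -1 → ∀ x : Q, (x : Ω) * (t x : Q) ∈ Z) := by
  obtain ⟨L, h1, h2, h3, h4, h5, -, h6⟩ := h.exists_torus_aux hS hF hg hgQ
  exact ⟨L, h1, h2, h3, h4, h5, h6⟩

end Sec

end Cfsg.Agent.H785
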