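import Cfsg.Agent.H785.FifthA

/-!
# Weights of automorphisms on sections, and the commutator rule (helper785)
-/

set_option autoImplicit false
set_option linter.unusedSectionVars false
set_option linter.unusedVariables false
set_option linter.style.haveILetI false

namespace Cfsg.Agent.H785

open Cfsg Cfsg.FusionSystem Cfsg.Agent.H802
open scoped commutatorElement

section Comm

variable {G : Type*} [Group G]

theorem comm_zpow_right {x y : G} (h : Commute ⁅x, y⁆ y) (b : ℤ) : ⁅x, y ^ b⁆ = ⁅x, y⁆ ^ b := by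
  have h1 : x * y * x⁻¹ = ⁅x, y⁆ * y := by rw [commutatorElement_def]; group
  have h2 : x * y ^ b * x⁻¹ = ⁅x, y⁆ ^ b * y ^ b := by
    rw [← conj_zpow, h1, h.mul_zpow]
  rw [commutatorElement_def, h2, mul_inv_cancel_right]

theorem comm_zpow_left {x y : G} (h : Commute ⁅x, y⁆ x) (a : ℤ) : ⁅x ^ a, y⁆ = ⁅x, y⁆ ^ a := by
  have h1 : Commute ⁅y, x⁆ x := by
    rw [← commutatorElement_inv]
    exact h.inv_left
  rw [← commutatorElement_inv, comm_zpow_right h1, ← commutatorElement_inv x y, inv_zpow, inv_inv]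

theorem comm_zpow {x y : G} (h : Commute ⁅x, y⁆ x) (h' : Commute ⁅x, y⁆ y) (a b : ℤ) :
    ⁅x ^ a, y ^ b⁆ = ⁅x, y⁆ ^ (a * b) := by
  have h1 : ⁅x, y ^ b⁆ = ⁅x, y⁆ ^ b := comm_zpow_right h' b
  have h2 : Commute ⁅x, y ^ b⁆ x := by
    rw [h1]
    exact h.zpow_left b
  rw [comm_zpow_left h2, h1, ← zpow_mul, mul_comm]

theorem comm_zpow_mul {x y u v : G} (h : Commute ⁅x, y⁆ x) (h' : Commute ⁅x, y⁆ y)
    (huy : Commute u y) (huv : Commute u v) (hxv : Commute x v) (a b : ℤ) :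
    ⁅x ^ a * u, y ^ b * v⁆ = ⁅x, y⁆ ^ (a * b) := by
  rw [← comm_zpow h h']
  have h1 : u * (y ^ b * v) = (y ^ b * v) * u := ((huy.zpow_right b).mul_right huv).eq
  have h2 : v * (x ^ a)⁻¹ = (x ^ a)⁻¹ * v := ((hxv.symm.zpow_right a).inv_right).eq
  simp only [commutatorElement_def]
  calc x ^ a * u * (y ^ b * v) * (x ^ a * u)⁻¹ * (y ^ b * v)⁻¹
      = x ^ a * (u * (y ^ b * v)) * u⁻¹ * (x ^ a)⁻¹ * v⁻¹ * (y ^ b)⁻¹ := by group
    _ = x ^ a * (y ^ b * v * u) * u⁻¹ * (x ^ a)⁻¹ * v⁻¹ * (y ^ b)⁻¹ := by rw [h1]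
    _ = x ^ a * y ^ b * (v * (x ^ a)⁻¹) * v⁻¹ * (y ^ b)⁻¹ := by group
    _ = x ^ a * y ^ b * ((x ^ a)⁻¹ * v) * v⁻¹ * (y ^ b)⁻¹ := by rw [h2]
    _ = x ^ a * y ^ b * (x ^ a)⁻¹ * (y ^ b)⁻¹ := by group

end Comm

variable {Ω : Type*} [Group Ω] {S : Subgroup Ω} {p : ℕ} [hp : Fact p.Prime]

/-- `τ` acts on `L/M` as the `k`-th power. -/
def Wt (τ : MulAut S) (L M : Subgroup Ω) (k : ℤ) : Prop :=
  ∀ x : S, (x : Ω) ∈ L → ((x : Ω) ^ k)⁻¹ * (τ x : S) ∈ M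

theorem Wt.mono {τ : MulAut S} {L L' M M' : Subgroup Ω} {k : ℤ} (h : Wt τ L M k) (hL : L' ≤ L)
    (hM : M ≤ M') : Wt τ L' M' k := fun x hx => hM (h x (hL hx))

/-- **The commutator rule.** -/
theorem Wt.rule {τ : MulAut S} {U₁ V₁ U₂ V₂ U₃ K : Subgroup Ω} {a b k : ℤ} (hK : Nrm S K)
    (h1 : Wt τ U₁ V₁ a) (h2 : Wt τ U₂ V₂ b) (h3 : Wt τ U₃ K k) (hU₁ : U₁ ≤ S) (hU₂ : U₂ ≤ S)
    (hV₂ : V₂ ≤ U₂) (c₁ : ∀ u ∈ V₁, ∀ y ∈ U₂, ⁅u, y⁆ ∈ K) (c₂ : ∀ x ∈ U₁, ∀ v ∈ V₂, ⁅x, v⁆ ∈ K)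
    (c₀ : ∀ z ∈ U₃, ∀ s ∈ S, ⁅z, s⁆ ∈ K) (e : ∀ z ∈ U₃, z ^ p ∈ K) {x y : Ω} (hx : x ∈ U₁)
    (hy : y ∈ U₂) (hxy : ⁅x, y⁆ ∈ U₃) (hne : ⁅x, y⁆ ∉ K) : (p : ℤ) ∣ a * b - k := by
  have hn : (K.subgroupOf S).Normal := hK.normal
  set N := K.subgroupOf S with hN
  set q := QuotientGroup.mk' N with hq
  have hq1 : ∀ z : S, q z = 1 ↔ (z : Ω) ∈ K := fun z => QuotientGroup.eq_one_iff z
  have hcom : ∀ z w : S, ⁅(z : Ω), (w : Ω)⁆ ∈ K → Commute (q z) (q w) := by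
    intro z w h
    rw [← commutatorElement_eq_one_iff_commute, ← map_commutatorElement, hq1]
    exact h
  set X : S := ⟨x, hU₁ hx⟩ with hX
  set Y : S := ⟨y, hU₂ hy⟩ with hY
  set u : S := (X ^ a)⁻¹ * τ X with hu
  set v : S := (Y ^ b)⁻¹ * τ Y with hv
  have huV : (u : Ω) ∈ V₁ := h1 X hx
  have hvV : (v : Ω) ∈ V₂ := h2 Y hy
  have eX : τ X = X ^ a * u := by rw [hu]; group
  have eY : τ Y = Y ^ b * v := by rw [hv]; group
  have hc1 : Commute ⁅q X, q Y⁆ (q X) := by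
    rw [← map_commutatorElement]
    exact hcom _ _ (c₀ _ hxy _ X.2)
  have hc2 : Commute ⁅q X, q Y⁆ (q Y) := by
    rw [← map_commutatorElement]
    exact hcom _ _ (c₀ _ hxy _ Y.2)
  have key := comm_zpow_mul hc1 hc2 (hcom u Y (c₁ _ huV _ hy)) (hcom u v (c₁ _ huV _ (hV₂ hvV)))
    (hcom X v (c₂ _ hx _ hvV)) a b
  rw [← map_zpow, ← map_mul, ← eX, ← map_zpow, ← map_mul, ← eY, ← map_commutatorElement,
    ← map_commutatorElement, ← map_commutatorElement] at key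
  have h4 : q (τ ⁅X, Y⁆) = (q ⁅X, Y⁆) ^ k := by
    have h5 : (((⁅X, Y⁆ : S) ^ k)⁻¹ * τ ⁅X, Y⁆ : S) ∈ N := h3 ⁅X, Y⁆ hxy
    have h6 : q (((⁅X, Y⁆ : S) ^ k)⁻¹ * τ ⁅X, Y⁆) = 1 := (hq1 _).2 h5
    rw [map_mul, map_inv, map_zpow, inv_mul_eq_one] at h6
    exact h6.symm
  rw [h4] at key
  have h5 : q ⁅X, Y⁆ ≠ 1 := by
    rw [Ne, hq1]
    exact hne
  have h6 : (q ⁅X, Y⁆) ^ p = 1 := by
    rw [← map_pow, hq1]
    exact e _ hxy
  have h7 : orderOf (q ⁅X, Y⁆) = p := orderOf_eq_prime h6 h5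
  have h8 := zpow_eq_zpow_iff_modEq.1 key
  rw [h7] at h8
  exact Int.modEq_iff_dvd.1 h8

/-! ### The quotient `U/V` -/

theorem card_quot {U V : Subgroup Ω} [Finite U] (hVU : V ≤ U) (hc : Nat.card U = p * Nat.card V) :
    Nat.card (U ⧸ V.subgroupOf U) = p := by
  have hfV : Finite V := Finite.of_injective _ (Subgroup.inclusion_injective hVU)
  have h1 := (V.subgroupOf U).card_mul_index
  have h2 : Nat.card (V.subgroupOf U) = Nat.card V :=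
    Nat.card_congr (Subgroup.subgroupOfEquivOfLe hVU).toEquiv
  rw [h2, hc, mul_comm] at h1
  exact Nat.eq_of_mul_eq_mul_right Nat.card_pos h1

/-- Elements of `U` modulo `V`, when `|U : V| = p`. -/
theorem exists_zpow_mod {U V : Subgroup Ω} [Finite U] (hVU : V ≤ U) (hV : Nrm U V)
    (hc : Nat.card U = p * Nat.card V) {x₀ : Ω} (hx₀ : x₀ ∈ U) (hx₀' : x₀ ∉ V) {x : Ω} (hx : x ∈ U) :
    ∃ j : ℤ, (x₀ ^ j)⁻¹ * x ∈ V := by
  have hn : (V.subgroupOf U).Normal := hV.normal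
  set q := QuotientGroup.mk' (V.subgroupOf U) with hq
  have hq1 : ∀ z : U, q z = 1 ↔ (z : Ω) ∈ V := fun z => QuotientGroup.eq_one_iff z
  have hne : q ⟨x₀, hx₀⟩ ≠ 1 := by
    rw [Ne, hq1]
    exact hx₀'
  obtain ⟨j, hj⟩ := Subgroup.mem_zpowers_iff.1 (mem_zpowers_of_prime_card (card_quot hVU hc)
    (g' := q ⟨x, hx⟩) hne)
  refine ⟨j, ?_⟩
  have h1 : q ((⟨x₀, hx₀⟩ ^ j)⁻¹ * ⟨x, hx⟩) = 1 := by
    rw [map_mul, map_inv, map_zpow, hj, inv_mul_cancel]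
  exact (hq1 _).1 h1

/-- The restriction of `τ` to an invariant subgroup. -/
def resHom (τ : MulAut S) {U : Subgroup Ω} (hUS : U ≤ S)
    (hτU : ∀ x : S, (x : Ω) ∈ U → ((τ x : S) : Ω) ∈ U) : U →* U :=
  MonoidHom.mk' (fun x => ⟨(τ ⟨x, hUS x.2⟩ : S), hτU _ x.2⟩) (by
    intro x y
    apply Subtype.ext
    show ((τ ⟨(x : Ω) * y, hUS (x * y).2⟩ : S) : Ω) =
      ((τ ⟨x, hUS x.2⟩ : S) : Ω) * ((τ ⟨y, hUS y.2⟩ : S) : Ω)
    have e : (⟨(x : Ω) * y, hUS (x * y).2⟩ : S) = ⟨x, hUS x.2⟩ * ⟨y, hUS y.2⟩ := rfl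
    rw [e, map_mul]
    rfl)

theorem coe_resHom (τ : MulAut S) {U : Subgroup Ω} (hUS : U ≤ S)
    (hτU : ∀ x : S, (x : Ω) ∈ U → ((τ x : S) : Ω) ∈ U) (x : U) :
    ((resHom τ hUS hτU x : U) : Ω) = (τ ⟨x, hUS x.2⟩ : S) := rfl

theorem wt_iff {τ : MulAut S} {U V : Subgroup Ω} (hUS : U ≤ S) [hn : (V.subgroupOf U).Normal]
    (hτU : ∀ x : S, (x : Ω) ∈ U → ((τ x : S) : Ω) ∈ U) {k : ℤ} :
    Wt τ U V k ↔ ∀ x : U, QuotientGroup.mk' (V.subgroupOf U) (resHom τ hUS hτU x) =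
      (QuotientGroup.mk' (V.subgroupOf U) x) ^ k := by
  have hq1 : ∀ z : U, QuotientGroup.mk' (V.subgroupOf U) z = 1 ↔ (z : Ω) ∈ V :=
    fun z => QuotientGroup.eq_one_iff z
  constructor
  · intro h x
    have h1 : QuotientGroup.mk' (V.subgroupOf U) ((x ^ k)⁻¹ * resHom τ hUS hτU x) = 1 :=
      (hq1 _).2 (h ⟨x, hUS x.2⟩ x.2)
    rw [map_mul, map_inv, map_zpow, inv_mul_eq_one] at h1
    exact h1.symm
  · intro h x hx
    have h1 : QuotientGroup.mk' (V.subgroupOf U)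
        ((⟨x, hx⟩ ^ k)⁻¹ * resHom τ hUS hτU ⟨x, hx⟩) = 1 := by
      rw [map_mul, map_inv, map_zpow, h, inv_mul_cancel]
    exact (hq1 _).1 h1

/-- The weight on a section of order `p`. -/
theorem exists_wt {τ : MulAut S} {U V : Subgroup Ω} [Finite U] (hUS : U ≤ S) (hVU : V ≤ U)
    (hV : Nrm U V) (hc : Nat.card U = p * Nat.card V)
    (hτU : ∀ x : S, (x : Ω) ∈ U → ((τ x : S) : Ω) ∈ U)
    (hτV : ∀ x : S, (x : Ω) ∈ V → ((τ x : S) : Ω) ∈ V) : ∃ k : ℤ, Wt τ U V k := by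
  have hn : (V.subgroupOf U).Normal := hV.normal
  have hfV : Finite V := Finite.of_injective _ (Subgroup.inclusion_injective hVU)
  have hcard := card_quot hVU hc
  obtain ⟨x₀, hx₀, hx₀'⟩ : ∃ x₀ ∈ U, x₀ ∉ V := by
    by_contra hcon
    push Not at hcon
    have h1 : U = V := le_antisymm hcon hVU
    rw [h1] at hc
    have h2 : 0 < Nat.card V := Nat.card_pos
    nlinarith [hp.out.one_lt]
  set q := QuotientGroup.mk' (V.subgroupOf U) with hq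
  have hq1 : ∀ z : U, q z = 1 ↔ (z : Ω) ∈ V := fun z => QuotientGroup.eq_one_iff z
  have hne : q ⟨x₀, hx₀⟩ ≠ 1 := by
    rw [Ne, hq1]
    exact hx₀'
  set T := resHom τ hUS hτU with hT
  obtain ⟨k, hk⟩ := Subgroup.mem_zpowers_iff.1 (mem_zpowers_of_prime_card hcard
    (g' := q (T ⟨x₀, hx₀⟩)) hne)
  refine ⟨k, (wt_iff hUS hτU).2 fun x => ?_⟩
  obtain ⟨j, hj⟩ := Subgroup.mem_zpowers_iff.1 (mem_zpowers_of_prime_card hcard (g' := q x) hne)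
  have h1 : q ((⟨x₀, hx₀⟩ ^ j)⁻¹ * x) = 1 := by
    rw [map_mul, map_inv, map_zpow, hj, inv_mul_cancel]
  have h2 : q (T ((⟨x₀, hx₀⟩ ^ j)⁻¹ * x)) = 1 := by
    rw [hq1]
    exact hτV _ ((hq1 _).1 h1)
  rw [map_mul, map_inv, map_zpow, map_mul, map_inv, map_zpow, ← hk, inv_mul_eq_one] at h2
  rw [← hT, ← h2, ← hj, ← zpow_mul, ← zpow_mul, mul_comm]

/-- Two automorphisms commute on a section of order `p`. -/
theorem comm_trivial {α β : MulAut S} {U V : Subgroup Ω} [Finite U] (hUS : U ≤ S) (hVU : V ≤ U)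
    (hV : Nrm U V) (hc : Nat.card U = p * Nat.card V)
    (hαU : ∀ x : S, (x : Ω) ∈ U ↔ ((α x : S) : Ω) ∈ U)
    (hβU : ∀ x : S, (x : Ω) ∈ U ↔ ((β x : S) : Ω) ∈ U)
    (hαV : ∀ x : S, (x : Ω) ∈ V → ((α x : S) : Ω) ∈ V)
    (hβV : ∀ x : S, (x : Ω) ∈ V → ((β x : S) : Ω) ∈ V) (x : S) (hx : (x : Ω) ∈ U) :
    (x : Ω)⁻¹ * ((α * β * α⁻¹ * β⁻¹) x : S) ∈ V := by
  have hn : (V.subgroupOf U).Normal := hV.normal
  obtain ⟨a, ha⟩ := exists_wt hUS hVU hV hc (fun x hx => (hαU x).1 hx) hαV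
  obtain ⟨b, hb⟩ := exists_wt hUS hVU hV hc (fun x hx => (hβU x).1 hx) hβV
  rw [wt_iff hUS (fun x hx => (hαU x).1 hx)] at ha
  rw [wt_iff hUS (fun x hx => (hβU x).1 hx)] at hb
  set q := QuotientGroup.mk' (V.subgroupOf U) with hq
  have hq1 : ∀ z : U, q z = 1 ↔ (z : Ω) ∈ V := fun z => QuotientGroup.eq_one_iff z
  set y : S := α⁻¹ (β⁻¹ x) with hy
  have hxy : x = β (α y) := by rw [hy, MulAut.apply_inv_self, MulAut.apply_inv_self]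
  have hyU : (y : Ω) ∈ U := by rw [hαU, hβU, ← hxy]; exact hx
  have h1 : (α * β * α⁻¹ * β⁻¹) x = α (β y) := by
    rw [MulAut.mul_apply, MulAut.mul_apply, MulAut.mul_apply, ← hy]
  rw [h1]
  have h2 : q (resHom α hUS (fun x hx => (hαU x).1 hx)
      (resHom β hUS (fun x hx => (hβU x).1 hx) ⟨y, hyU⟩)) =
      q (resHom β hUS (fun x hx => (hβU x).1 hx)
      (resHom α hUS (fun x hx => (hαU x).1 hx) ⟨y, hyU⟩)) := by
    rw [ha, hb, hb, ha, ← zpow_mul, ← zpow_mul, mul_comm]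
  rw [← inv_mul_eq_one, ← map_inv, ← map_mul, hq1] at h2
  have h3 := V.inv_mem h2
  have e : ((((resHom α hUS (fun x hx => (hαU x).1 hx)
      (resHom β hUS (fun x hx => (hβU x).1 hx) ⟨y, hyU⟩))⁻¹ *
      (resHom β hUS (fun x hx => (hβU x).1 hx)
      (resHom α hUS (fun x hx => (hαU x).1 hx) ⟨y, hyU⟩)) : U) : Ω))⁻¹ =
      (x : Ω)⁻¹ * (α (β y) : S) := by
    rw [Subgroup.coe_mul, Subgroup.coe_inv, mul_inv_rev, inv_inv, hxy]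
    rfl
  rwa [e] at h3

end Cfsg.Agent.H785
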