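import Cfsg.Agent.H938.Sax.OrthGap
import Cfsg.Agent.H997.PF.Rows
import Cfsg.Agent.S0293

/-!
# `PΩ⁺₁₆(2)`: elements of order `217 = 7 * 31` (helper785, for S3522)
-/

set_option autoImplicit false
set_option linter.unusedSectionVars false

namespace Cfsg.Agent.H785.OSixteen

open Module QuadraticMap Cfsg Cfsg.Geo Cfsg.Agent.LieClassical.OrthCore Cfsg.Agent.H955 Cfsg.Agent.H954.TSing
  Cfsg.Agent.H884.El Cfsg.Agent.LieClassical.OmegaReindex Cfsg.Agent.H938.Sax
open Cfsg.Agent.H951 (fx cm Inv)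
open Cfsg.Agent.H377
open scoped MatrixGroups Matrix

universe u v

section lin

variable {F : Type u} [Field F] [Fintype F] {V : Type v} [AddCommGroup V] [Module F V] [FiniteDimensional F V]
  {Q : QuadraticForm F V} {x y g : Module.End F V}

omit [Field F] in
theorem pp_five (hF : Fintype.card F = 2) : PP (Nat.card F) 5 31 := ⟨by norm_num, by
  rw [Nat.card_eq_fintype_card, hF]
  refine (orderOf_eq_iff (by norm_num)).2 ⟨by decide, fun m hm hm0 => ?_⟩
  interval_cases m <;> decide⟩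

omit [Field F] in
theorem pp_three (hF : Fintype.card F = 2) : PP (Nat.card F) 3 7 := ⟨by norm_num, by
  rw [Nat.card_eq_fintype_card, hF]
  refine (orderOf_eq_iff (by norm_num)).2 ⟨by decide, fun m hm hm0 => ?_⟩
  interval_cases m <;> decide⟩

/-- `[V,x] ≤ C_V(y)` -/
theorem cm_le (hF : Fintype.card F = 2) (hQ : Nondeg Q) (hx : Iso Q x 31) (hy : Iso Q y 7) (hx1 : x ≠ 1)
    (hxy : x * y = y * x) (hd : finrank F V < 20) : cm x ≤ fx y ∧ finrank F (cm x) = 10 := by
  have hs := pp_five hF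
  have hr := pp_three hF
  have hb : finrank F (cm x) = 2 * 5 := (hx.odd_case hQ hx1 hs (by decide) (by omega)).1
  refine ⟨?_, hb⟩
  have h1 : 5 ∣ finrank F ↥(cm y ⊓ cm x) := hx.dvd hs (Typ.inv_cm_of_comm hxy.symm)
  have h2 : 3 ∣ finrank F ↥(cm x ⊓ cm y) := hy.dvd hr (Typ.inv_cm_of_comm hxy)
  rw [inf_comm] at h1
  have h3 : finrank F ↥(cm x ⊓ cm y) ≤ 2 * 5 := by rw [← hb]; exact Submodule.finrank_mono inf_le_left
  have h4 : finrank F ↥(cm x ⊓ cm y) = 0 := by omega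
  have h : cm x ⊓ cm y = ⊥ := Submodule.finrank_eq_zero.1 h4
  have h5 := H951.inf_fx_sup_inf_cm hy.ne0 hy.pow (Typ.inv_cm_of_comm hxy)
  rw [h, sup_bot_eq] at h5
  rw [← h5]
  exact inf_le_right

theorem six_dvd (hF : Fintype.card F = 2) (hQ : Nondeg Q) (hy : Iso Q y 7) : 6 ∣ finrank F (cm y) := by
  have := Fact.mk hy.prime
  have hr := pp_three hF
  obtain ⟨A, hA, -⟩ := exists_inv_ts_of_odd hy.two_lt hy.ne0 (by rw [ord_eq hr]; decide) hQ hy.iso hy.pow
  rw [ord_eq hr] at hA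
  exact ⟨A, by rw [hA]; ring⟩

theorem lin_main (hF : Fintype.card F = 2) (hQ : Nondeg Q) (hg : ∀ v, Q (g v) = Q v) (ho : orderOf g = 7 * 31)
    (hd : finrank F V < 20) :
    16 ≤ finrank F V ∧ (finrank F V = 16 → ∀ v, g v = v → v = 0) := by
  have hgrs : g ^ (7 * 31) = 1 := by rw [← ho]; exact pow_orderOf_eq_one g
  have hx : Iso Q (g ^ 7) 31 := Iso.mk' (pp_five hF) (by norm_num) (by rw [← pow_mul, hgrs]) (iso_pow hg 7)
  have hy : Iso Q (g ^ 31) 7 := Iso.mk' (pp_three hF) (by norm_num) (by rw [← pow_mul, mul_comm, hgrs])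
    (iso_pow hg 31)
  have hne : ∀ n : ℕ, ¬ 7 * 31 ∣ n → g ^ n ≠ 1 := fun n hn h => hn (by rw [← ho]; exact orderOf_dvd_of_pow_eq_one h)
  have hx1 : g ^ 7 ≠ 1 := hne 7 (by decide)
  have hy1 : g ^ 31 ≠ 1 := hne 31 (by decide)
  have hxy : g ^ 7 * g ^ 31 = g ^ 31 * g ^ 7 := by rw [← pow_add, ← pow_add]
  obtain ⟨h, hb⟩ := cm_le hF hQ hx hy hx1 hxy hd
  have h1 := Typ.cm_le_fx hQ hx hy h
  have h2 := hx.finrank_add
  have h3 : finrank F (cm (g ^ 31)) ≤ finrank F (fx (g ^ 7)) := Submodule.finrank_mono h1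
  have h5 : finrank F (cm (g ^ 31)) ≠ 0 := fun h0 => cm_ne_bot hy1 (Submodule.finrank_eq_zero.1 h0)
  have h6 := Nat.le_of_dvd (Nat.pos_of_ne_zero h5) (six_dvd hF hQ hy)
  refine ⟨by omega, fun hd' v hv => ?_⟩
  have h7 : cm (g ^ 31) = fx (g ^ 7) := Submodule.eq_of_le_of_finrank_eq h1 (by omega)
  rw [← Submodule.mem_bot F, ← (H951.isCompl_fx_cm hy.ne0 hy.pow).inf_eq_bot]
  exact ⟨H951.mem_fx.2 (H951.pow_fx hv 31), by rw [h7]; exact H951.mem_fx.2 (H951.pow_fx hv 7)⟩

end lin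

section quad

variable {ι : Type} [Fintype ι] [DecidableEq ι] {F : Type u} [Field F] [Fintype F] {Q : QuadraticForm F (ι → F)}

/-- no element of order `217` in small dimension -/
theorem small (hF : Fintype.card F = 2) (hQ : Nondeg Q) (hD : H390.Lift.Data Q) (hd : Fintype.card ι < 16)
    (m : POmega F (⇑Q)) : orderOf m ≠ 7 * 31 := by
  intro ho
  obtain ⟨g, h1, h2⟩ := exists_lin_iso hD (by decide) ho
  have h3 := lin_main hF hQ h1 h2 (by rw [finrank_V]; omega)
  rw [finrank_V] at h3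
  omega

/-- the stabiliser of a nonsingular point -/
theorem point_gap (hF : Fintype.card F = 2) (hQ : Nondeg Q) (hD : H390.Lift.Data Q)
    (hd : Fintype.card ι = 16) {M : Subgroup (POmega F (⇑Q))} {v : ι → F} (hv : Q v ≠ 0)
    (hM : pre (⇑Q) M ≤ subspaceStabilizer (Submodule.span F {v})) (m : POmega F (⇑Q)) (hm : m ∈ M) :
    orderOf m ≠ 7 * 31 := by
  intro ho
  obtain ⟨g, h1, h2, h3⟩ := exists_pre hD (by decide) hm ho
  have h4 := lin_main hF hQ h3 h2 (by rw [finrank_V]; omega)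
  have h5 : lin g v = v := fix_of_line h3 (N := 7 * 31) (by decide) (by rw [← h2]; exact pow_orderOf_eq_one _) hv
    (inv_of_mem (hM h1) v (Submodule.mem_span_singleton_self v))
  have h6 := h4.2 (by rw [finrank_V, hd]) v h5
  exact hv (by rw [h6]; exact QuadraticMap.map_zero Q)

end quad

section std

variable {F : Type} [Field F] [Fintype F]

theorem no217 (hF : Fintype.card F = 2) (K : Subgroup (Cfsg.POmega F (Cfsg.quadFormPlus 8 F)))
    (v : Fin 8 ⊕ Fin 8 → F) (hv : Cfsg.quadFormPlus 8 F v ≠ 0)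
    (hK : pre (Cfsg.quadFormPlus 8 F) K ≤ subspaceStabilizer (Submodule.span F {v})) :
    ∀ x ∈ K, orderOf x ≠ 7 * 31 := by
  have h : ∀ K : Subgroup (POmega F (⇑(quadPlus 8 F))), quadPlus 8 F v ≠ 0 →
      pre (⇑(quadPlus 8 F)) K ≤ subspaceStabilizer (Submodule.span F {v}) → ∀ x ∈ K, orderOf x ≠ 7 * 31 :=
    fun K hv hK x hx => point_gap hF (nondeg_iff.2 quadPlus_nondegenerate) (data_plus (by norm_num))
      (card_plus 8) hv hK x hx
  rw [coe_quadPlus] at h
  exact h K hv hK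

theorem char_two (hF : Fintype.card F = 2) : CharP F 2 := by
  obtain ⟨p, hp⟩ := CharP.exists F
  obtain ⟨k, hpp, hk⟩ := FiniteField.card F p
  rw [hF] at hk
  have h1 : p ∣ 2 := by rw [hk]; exact dvd_pow_self _ k.ne_zero
  have h2 : p = 2 := (Nat.prime_dvd_prime_iff_eq hpp Nat.prime_two).1 h1
  rwa [h2] at hp

theorem sp_le (hF : Fintype.card F = 2) {n : ℕ} (hn : n < 8)
    (A : Matrix.symplecticGroup (Fin n) F) : orderOf A ≠ 7 * 31 := by
  have hc := char_two hF
  intro ho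
  obtain ⟨Q, hQ1, hQ2⟩ := Cfsg.Agent.S2585.result A
  have hQ : Nondeg Q := nondeg_of_symp hQ1
  have h1 : orderOf (Matrix.toLin' (A : Matrix (Fin n ⊕ Fin n) (Fin n ⊕ Fin n) F)) = 7 * 31 := by
    rw [← ho]
    have h2 : orderOf (A : Matrix (Fin n ⊕ Fin n) (Fin n ⊕ Fin n) F) = orderOf A := orderOf_submonoid A
    rw [← h2]
    exact orderOf_injective (Matrix.toLinAlgEquiv' (R := F) (n := Fin n ⊕ Fin n)).toRingEquiv.toMonoidHom
      (Matrix.toLinAlgEquiv' (R := F) (n := Fin n ⊕ Fin n)).injective _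
  have h3 := lin_main hF hQ (g := Matrix.toLin' (A : Matrix (Fin n ⊕ Fin n) (Fin n ⊕ Fin n) F))
    (fun v => by rw [Matrix.toLin'_apply]; exact hQ2 v) h1 (by
      rw [Module.finrank_fintype_fun_eq_card, Fintype.card_sum, Fintype.card_fin]; omega)
  rw [Module.finrank_fintype_fun_eq_card, Fintype.card_sum, Fintype.card_fin] at h3
  omega

theorem sp14_no217 (hF : Fintype.card F = 2) (m : Cfsg.PSp 7 F) : orderOf m ≠ 7 * 31 := by
  intro ho
  have hc := char_two hF
  obtain ⟨A, hA⟩ := (Cfsg.Agent.H403.mem_range_PSp (F := F) (n := 7) (by omega) (7 * 31)).1 ⟨m, ho⟩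
  exact sp_le hF (by omega) A hA

theorem exists217 (hF : Fintype.card F = 2) :
    ∃ g : Cfsg.POmega F (Cfsg.quadFormPlus 8 F), orderOf g = 7 * 31 := by
  have h1 : Elt F 3 1 7 := elt_tor_plus (by norm_num) (by rw [Nat.card_eq_fintype_card, hF]; norm_num)
  have h2 : Elt F 5 1 31 := elt_tor_plus (by norm_num) (by rw [Nat.card_eq_fintype_card, hF]; norm_num)
  have h3 : Elt F 8 1 (7 * 31) := h1.prod h2
  exact (Elt.two (by norm_num) (by decide) h3).plus (by norm_num)

theorem card_o16 (hF : Fintype.card F = 2) : ¬ 31 ^ 2 ∣ Nat.card (Cfsg.POmega F (Cfsg.quadFormPlus 8 F)) := by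
  have h := Cfsg.Agent.S0293.result hF 8 (by norm_num)
  have h1 : Nat.gcd 4 (2 ^ 8 - 1) = 1 := by decide
  rw [h1, one_mul] at h
  rw [h]
  simp only [Finset.prod_range_succ, Finset.prod_range_zero]
  norm_num

theorem cyc31 (hF : Fintype.card F = 2) (P : Subgroup (Cfsg.POmega F (Cfsg.quadFormPlus 8 F)))
    (hP : IsPGroup 31 P) : IsCyclic P := by
  have h31 : Fact (Nat.Prime 31) := ⟨by norm_num⟩
  obtain ⟨n, hn⟩ := IsPGroup.iff_card.1 hP
  have hn1 : n < 2 := by
    by_contra hcon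
    push Not at hcon
    refine card_o16 hF ((pow_dvd_pow 31 hcon).trans ?_)
    rw [← hn]
    exact Subgroup.card_subgroup_dvd_card P
  interval_cases n
  · have : Subsingleton P := (Nat.card_eq_one_iff_unique.1 (by rw [hn, pow_zero])).1
    infer_instance
  · exact isCyclic_of_prime_card (p := 31) (by rw [hn, pow_one])

/-- an element of order `r` normalising a group of prime order `s`, `r ∤ s - 1`, centralises it -/
theorem comm_of {G : Type*} [Group G] {y z : G} {r s : ℕ} (hr : r.Prime) (hs : s.Prime) (hrs : ¬ r ∣ s - 1)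
    (hy : orderOf y = r) (hz : orderOf z = s) (hyz : y * z * y⁻¹ ∈ Subgroup.zpowers z) : y * z = z * y := by
  classical
  have hfs := Fact.mk hs
  -- `y z y⁻¹ = z ^ a`
  have hfin : IsOfFinOrder z := by
    rw [← orderOf_pos_iff, hz]; exact hs.pos
  obtain ⟨a, -, ha⟩ := Finset.mem_image.1 ((hfin.mem_zpowers_iff_mem_range_orderOf).1 hyz)
  have hpow : ∀ n : ℕ, y ^ n * z * (y ^ n)⁻¹ = z ^ (a ^ n) := by
    intro n
    induction n with
    | zero => simp
    | succ n ih =>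
      calc y ^ (n + 1) * z * (y ^ (n + 1))⁻¹ = y * (y ^ n * z * (y ^ n)⁻¹) * y⁻¹ := by
            rw [pow_succ']; group
        _ = y * z ^ (a ^ n) * y⁻¹ := by rw [ih]
        _ = (y * z * y⁻¹) ^ (a ^ n) := by rw [conj_pow]
        _ = z ^ (a ^ (n + 1)) := by rw [← ha, ← pow_mul, pow_succ']
  have h1 : z ^ (a ^ r) = z := by
    rw [← hpow r, ← hy, pow_orderOf_eq_one]; simp
  have h2 : ((a : ZMod s)) ^ r = 1 := by
    have h3 : z ^ (a ^ r) = z ^ 1 := by rw [h1, pow_one]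
    rw [pow_eq_pow_iff_modEq, hz] at h3
    have := (ZMod.natCast_eq_natCast_iff _ _ _).2 h3
    simpa using this
  have h3 : orderOf (a : ZMod s) ∣ r := orderOf_dvd_of_pow_eq_one h2
  have ha0 : (a : ZMod s) ≠ 0 := by
    intro h0
    rw [h0, zero_pow hr.ne_zero] at h2
    exact zero_ne_one h2
  have h4 : orderOf (a : ZMod s) ∣ s - 1 := ZMod.orderOf_dvd_card_sub_one ha0
  have h5 : (a : ZMod s) = 1 := by
    rcases (Nat.dvd_prime hr).1 h3 with h | h
    · exact orderOf_eq_one_iff.1 h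
    · rw [h] at h4
      exact absurd h4 hrs
  have h6 : z ^ a = z := by
    have h7 : ((a : ℕ) : ZMod s) = ((1 : ℕ) : ZMod s) := by rw [h5, Nat.cast_one]
    have h8 := (ZMod.natCast_eq_natCast_iff _ _ _).1 h7
    rw [← hz] at h8
    have := pow_eq_pow_iff_modEq.2 h8
    rwa [pow_one] at this
  rw [h6] at ha
  have h9 : y * z = (y * z * y⁻¹) * y := by group
  rw [h9, ← ha]

/-- **the data of the local test for `Ω⁺₁₆(2)`** -/
theorem ld_o16 (hF : Fintype.card F = 2) :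
    Cfsg.Agent.H997.PF.LD (Cfsg.POmega F (Cfsg.quadFormPlus 8 F)) 1 7 31 where
  hr := by norm_num
  hs := by norm_num
  hrs := by norm_num
  hrO := by norm_num
  hsO := by norm_num
  cyc := cyc31 hF
  ex := exists217 hF
  comm y z hy hz hyz := comm_of (by norm_num) (by norm_num) (by norm_num) hy hz hyz

end std

end Cfsg.Agent.H785.OSixteen
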