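import Cfsg.Agent.H785.SpE7Tab
import Cfsg.Agent.H785.SpSL

/-!
# Long root `SL₂`s of the Chevalley groups: the centraliser of the involution (helper785)

* `long_data` : the data of the long root `SL₂` of a fundamental root;
* `nrm` : the centraliser of the involution normalises the `SL₂`, if the check `chkIso` holds;
* `index` : the index of the centraliser is odd, if the table is right.
-/

set_option autoImplicit false
set_option linter.unusedSectionVars false

namespace Cfsg.Agent.H785.SpE7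

open CoxeterSystem Cfsg.Agent.ChevalleyStructure.CoxeterGeom Cfsg.Agent.Tits.Roots Cfsg.Agent.Tits.Core
  Cfsg.Agent.Tits.Exchange Cfsg.Agent.Nodes.Reps Cfsg.Agent.Nodes.BNOf Cfsg.Agent.Nodes.StabComb
  Cfsg.Agent.Nodes.Bruhat Cfsg.Agent.Nodes.LeviDec Cfsg.Agent.Nodes.NormalForm Cfsg.Agent.Nodes.CardSup
open Cfsg Cfsg.Lie Cfsg.Lie.ChevalleyDatum
open Cfsg.Agent.ChevalleyStructure Cfsg.Agent.ChevalleyStructure.Elts Cfsg.Agent.ChevalleyStructure.NPerm
  Cfsg.Agent.ChevalleyStructure.CoxeterGeomTypes Cfsg.Agent.ChevalleyStructure.RootVecTab Cfsg.Agent.ChevalleyStructure.RootVec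
open Cfsg.Agent.Nodes.RGDChev Cfsg.Agent.OddHalf.LongSL Cfsg.Agent.OddHalf.LongSL.Chev
open Cfsg.Agent.KFacts.RgdChevCoord (TT XX)
open Cfsg.Agent.H81.PJTab Cfsg.Agent.H785.SpOdd

section Main

variable {D : ChevalleyDatum} {l : ℕ} {M : CoxeterMatrix (Fin l)} (hp : IsType D l M) (K : Type) [Field K]
variable (i : Fin l)

theorem mem_XX_vec {r : ℕ} (hr : r < D.nroots) {u : ↥(D.group K)} :
    u ∈ XX D l K (vec D l r) ↔ ∃ t, (u : GL D.Idx K) = xG hp.inList r t := by
  rw [XX, Subgroup.mem_subgroupOf, XV_vec hp K hr, mem_rootSubgroup_iff hp.inList]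

include hp in
theorem T_comm {s t : ↥(D.group K)} (hs : s ∈ TT D K) (ht : t ∈ TT D K) : s * t = t * s := by
  rw [TT, Subgroup.mem_subgroupOf] at hs ht
  obtain ⟨χ, hχ⟩ := HMatDiagAll.mem_torus.1 (HMatDiagAll.diagonalSubgroup_le_torus hp.inList hs)
  obtain ⟨ψ, hψ⟩ := HMatDiagAll.mem_torus.1 (HMatDiagAll.diagonalSubgroup_le_torus hp.inList ht)
  apply Subtype.ext
  apply Units.ext
  rw [Subgroup.coe_mul, Subgroup.coe_mul, Units.val_mul, Units.val_mul, hχ, hψ, Matrix.diagonal_mul_diagonal,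
    Matrix.diagonal_mul_diagonal]
  congr 1
  funext k
  exact mul_comm _ _

theorem card_X [Finite K] {W : Type*} [Group W] (cs : CoxeterSystem M W) {x : Fin l → ℤ}
    (hx : IsRoot cs hp.isCartan x) : Nat.card ↥(XX D l K x) = Nat.card K := by
  rw [Nat.card_congr (Subgroup.subgroupOfEquivOfLe (XV_le_group hp x)).toEquiv]
  obtain ⟨r, hr, rfl⟩ := (isRoot_iff hp cs x).1 hx
  rw [XV_vec hp K hr]
  symm
  refine Nat.card_congr (Equiv.ofBijective (fun t : K => (⟨xG hp.inList r t,
    xG_mem_rootSubgroup hp.inList r t⟩ : ↥(D.rootSubgroup K r))) ⟨?_, ?_⟩)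
  · intro t u e
    exact xG_injective hp.inList hr (congrArg Subtype.val e)
  · rintro ⟨g, hg⟩
    obtain ⟨t, rfl⟩ := (mem_rootSubgroup_iff hp.inList r g).1 hg
    exact ⟨t, rfl⟩

theorem mem_XX_sr {u : ↥(D.group K)} : u ∈ XX D l K (sr i) ↔ ∃ t, phi hp K i (SL2Hom.up t) = u := by
  have hr := simple_lt hp.inList (lt_rank hp i)
  rw [← vec_simple hp i, mem_XX_vec hp K hr]
  constructor
  · rintro ⟨t, ht⟩
    exact ⟨t, Subtype.ext (by rw [phi_up, ht])⟩
  · rintro ⟨t, ht⟩
    exact ⟨t, by rw [← ht, phi_up]⟩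

theorem mem_XX_neg {u : ↥(D.group K)} : u ∈ XX D l K (-sr i) ↔ ∃ t, phi hp K i (SL2Hom.lo t) = u := by
  have hr := simple_lt hp.inList (lt_rank hp i)
  rw [← vec_simple hp i, ← vec_neg hp hr, mem_XX_vec hp K (neg_lt hp.inList hr)]
  constructor
  · rintro ⟨t, ht⟩
    exact ⟨t, Subtype.ext (by rw [phi_lo, ht])⟩
  · rintro ⟨t, ht⟩
    exact ⟨t, by rw [← ht, phi_lo]⟩

/-- the centre of `SL₂` -/
theorem neg_one_comm (g : Matrix.SpecialLinearGroup (Fin 2) K) : phi hp K i (-1) * phi hp K i g =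
    phi hp K i g * phi hp K i (-1) := by
  rw [← map_mul, ← map_mul, neg_one_mul, mul_neg_one]

theorem range_eq_sup : (phi hp K i).range = XX D l K (sr i) ⊔ XX D l K (-sr i) := by
  apply le_antisymm
  · rw [MonoidHom.range_eq_map, Subgroup.map_le_iff_le_comap]
    intro g _
    refine (Subgroup.closure_le _).2 ?_ (SL2Hom.mem_closure_SL2 g)
    rintro x (⟨t, rfl⟩ | ⟨t, rfl⟩)
    · exact Subgroup.mem_sup_left ((mem_XX_sr hp K i).2 ⟨t, rfl⟩)
    · exact Subgroup.mem_sup_right ((mem_XX_neg hp K i).2 ⟨t, rfl⟩)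
  · refine sup_le ?_ ?_
    · intro u hu
      obtain ⟨t, rfl⟩ := (mem_XX_sr hp K i).1 hu
      exact ⟨_, rfl⟩
    · intro u hu
      obtain ⟨t, rfl⟩ := (mem_XX_neg hp K i).1 hu
      exact ⟨_, rfl⟩

theorem range_eq_JX : (phi hp K i).range = JX (XX D l K) (phi hp K i (-1)) (sr i) := by
  refine OddHalf.LongSL.range_eq_JX _ rfl ?_ ?_ ?_ ?_
  · exact fun t => (mem_XX_sr hp K i).2 ⟨t, rfl⟩
  · exact fun t => (mem_XX_neg hp K i).2 ⟨t, rfl⟩
  · exact fun u hu _ => (mem_XX_sr hp K i).1 hu
  · exact fun u hu _ => (mem_XX_neg hp K i).1 hu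

theorem phi_injective (h2K : (2 : K) ≠ 0) (h2 : chkOdd D i = true) : Function.Injective (phi hp K i) := by
  have hr := simple_lt hp.inList (lt_rank hp i)
  rw [injective_iff_map_eq_one]
  intro g hg
  have hg' : SL2Hom.phi (SL2All.good_of_mem D hp.inList (D.simple i) hr) K g = 1 := congrArg Subtype.val hg
  rcases phi_eq_one _ hg' with h | h
  · exact h
  · exfalso
    rw [h] at hg
    have h3 : hG hp.inList (D.simple i) (-1 : K) = 1 := by rw [← phi_neg_one hp K i, hg]; rfl
    obtain ⟨s, hs, hs'⟩ := List.any_eq_true.1 h2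
    rw [List.mem_range] at hs
    have h4 := conj_hG hp K i hs (-1) (neg_ne_zero.2 one_ne_zero) 1
    rw [h3, one_mul, inv_one, mul_one, beq_iff_eq.1 hs', zpow_one, mul_one] at h4
    have h5 := xG_injective hp.inList hs h4
    apply h2K
    linear_combination h5

theorem neg_one_mem_T : phi hp K i (-1) ∈ TT D K := by
  have hr := simple_lt hp.inList (lt_rank hp i)
  rw [TT, Subgroup.mem_subgroupOf, phi_neg_one]
  exact hG_mem_diagonal hp.inList hr (neg_ne_zero.2 one_ne_zero)

/-- the other root groups are inverted by the involution or commute with the `SL₂` -/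
theorem other {W : Type*} [Group W] (cs : CoxeterSystem M W) (h1 : Chev.chk D i = true) {x : Fin l → ℤ}
    (hx : IsRoot cs hp.isCartan x) (hx1 : x ≠ sr i) (hx2 : x ≠ -sr i) :
    (∀ u ∈ XX D l K x, phi hp K i (-1) * u * (phi hp K i (-1))⁻¹ = u⁻¹) ∨
      ∀ u ∈ XX D l K x, ∀ v ∈ (phi hp K i).range, u * v = v * u := by
  have hr := simple_lt hp.inList (lt_rank hp i)
  have hnr := neg_lt hp.inList hr
  obtain ⟨s, hs, rfl⟩ := (isRoot_iff hp cs x).1 hx
  have hs1 : s ≠ D.simple i := by
    rintro rfl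
    exact hx1 (vec_simple hp i)
  have hs2 : s ≠ D.neg (D.simple i) := by
    rintro rfl
    exact hx2 (by rw [vec_neg hp hr, vec_simple hp i])
  have h3 := List.all_eq_true.1 h1 s (List.mem_range.2 hs)
  simp only [Bool.or_eq_true, beq_iff_eq, Bool.and_eq_true, List.isEmpty_iff, hs1, hs2, false_or] at h3
  have hinv : D.cartan i s = 1 ∨ D.cartan i s = -1 → ∀ u ∈ XX D l K (vec D l s),
      phi hp K i (-1) * u * (phi hp K i (-1))⁻¹ = u⁻¹ := by
    intro h4 u hu
    obtain ⟨t, ht⟩ := (mem_XX_vec hp K hs).1 hu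
    apply Subtype.ext
    rw [Subgroup.coe_mul, Subgroup.coe_mul, Subgroup.coe_inv, Subgroup.coe_inv, phi_neg_one, ht,
      conj_hG hp K i hs (-1) (neg_ne_zero.2 one_ne_zero), xG_inv]
    congr 1
    rcases h4 with h4 | h4
    · rw [h4, zpow_one, neg_one_mul]
    · rw [h4, zpow_neg, zpow_one, inv_neg, inv_one, neg_one_mul]
  rcases h3 with (h3 | h3) | ⟨h3, h4⟩
  · left; exact hinv (Or.inl h3)
  · left; exact hinv (Or.inr h3)
  · right
    intro u hu
    obtain ⟨t, ht⟩ := (mem_XX_vec hp K hs).1 hu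
    refine commute_range _ ?_ ?_
    · intro c
      apply Subtype.ext
      rw [Subgroup.coe_mul, Subgroup.coe_mul, phi_up, ht]
      exact commute_xG hp K hr hs hs1 hs2 h3 c t
    · intro c
      apply Subtype.ext
      rw [Subgroup.coe_mul, Subgroup.coe_mul, phi_lo, ht]
      exact commute_xG hp K hnr hs hs2 (by rw [RootVec.neg_neg hp.checked hr]; exact hs1) h4 c t

/-- the root groups commuting with the involution -/
theorem le_cent_iff (h2K : (2 : K) ≠ 0) {s : ℕ} (hs : s < D.nroots) :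
    XX D l K (vec D l s) ≤ Subgroup.centralizer ({phi hp K i (-1)} : Set ↥(D.group K)) ↔ Even (D.cartan i s) := by
  have key : ∀ (u : ↥(D.group K)) (t : K), (u : GL D.Idx K) = xG hp.inList s t →
      ((phi hp K i (-1) * u * (phi hp K i (-1))⁻¹ : ↥(D.group K)) : GL D.Idx K) =
        xG hp.inList s ((-1 : K) ^ (D.cartan i s) * t) := by
    intro u t ht
    rw [Subgroup.coe_mul, Subgroup.coe_mul, Subgroup.coe_inv, phi_neg_one, ht,
      conj_hG hp K i hs (-1) (neg_ne_zero.2 one_ne_zero)]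
  constructor
  · intro h1
    have hmem : xG hp.inList s (1 : K) ∈ D.group K := by
      have h3 : xG hp.inList s (1 : K) ∈ XV D l K (vec D l s) := by
        rw [XV_vec hp K hs]; exact xG_mem_rootSubgroup _ _ _
      exact XV_le_group hp _ h3
    have h2 : (⟨xG hp.inList s (1 : K), hmem⟩ : ↥(D.group K)) ∈ XX D l K (vec D l s) :=
      (mem_XX_vec hp K hs).2 ⟨1, rfl⟩
    have h3 := Subgroup.mem_centralizer_singleton_iff.1 (h1 h2)
    have h4 := key _ 1 (rfl : ((⟨xG hp.inList s (1 : K), hmem⟩ : ↥(D.group K)) : GL D.Idx K) = xG hp.inList s 1)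
    rw [← h3, mul_inv_cancel_right] at h4
    have h5 := xG_injective hp.inList hs h4
    rcases Int.even_or_odd (D.cartan i s) with h6 | h6
    · exact h6
    · exfalso
      rw [h6.neg_one_zpow] at h5
      apply h2K
      linear_combination h5
  · intro h1 u hu
    obtain ⟨t, ht⟩ := (mem_XX_vec hp K hs).1 hu
    rw [Subgroup.mem_centralizer_singleton_iff]
    have h4 := key u t ht
    rw [h1.neg_one_zpow, one_mul, ← ht] at h4
    have h5 : phi hp K i (-1) * u * (phi hp K i (-1))⁻¹ = u := Subtype.ext h4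
    exact (mul_inv_eq_iff_eq_mul.1 h5).symm

/-- the sum of two roots is a root -/
def addOK (D : ChevalleyDatum) (l r s t : ℕ) : Bool :=
  (List.range l).all fun j => rt D t j == rt D r j + rt D s j

/-- the fundamental root `i` is isolated among the roots with even Cartan integer, and it is the only one up to the sign -/
def chkIso (D : ChevalleyDatum) (l i : ℕ) (cert : List (ℕ × ℕ × ℕ)) : Bool :=
  ((List.range D.nroots).all fun s => D.cartan i s % 2 != 0 ||
    (List.range D.nroots).all fun t => !(addOK D l (D.simple i) s t)) &&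
  (cert.all fun c => decide (c.2.1 < D.nroots) && decide (c.2.2 < D.nroots) && D.cartan i c.2.1 % 2 == 0 &&
    addOK D l c.1 c.2.1 c.2.2) &&
  ((List.range D.nroots).all fun r => D.cartan i r % 2 != 0 || r == D.simple i || r == D.neg (D.simple i) ||
    cert.any fun c => c.1 == r)

theorem addOK_iff {r s t : ℕ} : addOK D l r s t = true ↔ vec D l t = vec D l r + vec D l s := by
  unfold addOK
  rw [List.all_eq_true]
  constructor
  · intro h
    funext j
    have := h j (List.mem_range.2 j.2)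
    rw [beq_iff_eq] at this
    exact this
  · intro h j hj
    rw [beq_iff_eq]
    exact congrFun h ⟨j, List.mem_range.1 hj⟩

/-- **The Weyl group elements centralising the involution fix the root up to the sign.** -/
theorem isolated (h2K : (2 : K) ≠ 0) {W : Type*} [Group W] (cs : CoxeterSystem M W) {cert : List (ℕ × ℕ × ℕ)}
    (hc : chkIso D l i cert = true) (w : W)
    (hw : ∀ x, IsRoot cs hp.isCartan x → (XX D l K x ≤ Subgroup.centralizer ({phi hp K i (-1)} : Set ↥(D.group K)) ↔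
      XX D l K (rep cs hp.isCartan w x) ≤ Subgroup.centralizer ({phi hp K i (-1)} : Set ↥(D.group K)))) :
    rep cs hp.isCartan w (sr i) = sr i ∨ rep cs hp.isCartan w (sr i) = -sr i := by
  unfold chkIso at hc
  simp only [Bool.and_eq_true] at hc
  obtain ⟨⟨hc1, hc2⟩, hc3⟩ := hc
  have hr0 := simple_lt hp.inList (lt_rank hp i)
  have hroot : IsRoot cs hp.isCartan (sr i) := isRoot_sr cs hp.isCartan i
  obtain ⟨r, hr, hrw⟩ := (isRoot_iff hp cs _).1 (hroot.act w)
  have heven : Even (D.cartan i r) := by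
    rw [← le_cent_iff hp K i h2K hr, hrw, ← hw _ hroot, ← vec_simple hp i, le_cent_iff hp K i h2K hr0]
    rw [show D.cartan i (D.simple i) = 2 by
      have := hp.isCartan.diag i
      rwa [cartanOf_def] at this]
    exact even_two
  have h3 := List.all_eq_true.1 hc3 r (List.mem_range.2 hr)
  simp only [Bool.or_eq_true, bne_iff_ne, beq_iff_eq, List.any_eq_true] at h3
  rcases h3 with ((h3 | h3) | h3) | ⟨c, hcm, hcr⟩
  · exact absurd (Int.even_iff.1 heven) h3
  · left
    rw [← hrw, h3, vec_simple hp i]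
  · right
    rw [← hrw, h3, vec_neg hp hr0, vec_simple hp i]
  · exfalso
    have h4 := List.all_eq_true.1 hc2 c hcm
    simp only [Bool.and_eq_true, decide_eq_true_eq, beq_iff_eq] at h4
    obtain ⟨⟨⟨hs, ht⟩, hse⟩, hadd⟩ := h4
    rw [addOK_iff, hcr] at hadd
    -- apply `w⁻¹`
    have hxr : IsRoot cs hp.isCartan (rep cs hp.isCartan w⁻¹ (vec D l c.2.1)) := (isRoot_vec hp cs hs).act _
    obtain ⟨s', hs', hs'w⟩ := (isRoot_iff hp cs _).1 hxr
    obtain ⟨t', ht', ht'w⟩ := (isRoot_iff hp cs _).1 ((isRoot_vec hp cs ht).act w⁻¹)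
    have hs'e : Even (D.cartan i s') := by
      rw [← le_cent_iff hp K i h2K hs', hs'w, hw _ hxr, rep_apply_inv, le_cent_iff hp K i h2K hs, Int.even_iff]
      exact hse
    have hsum : vec D l t' = vec D l (D.simple i) + vec D l s' := by
      rw [ht'w, hs'w, hadd, map_add, hrw, rep_inv_apply, vec_simple hp i]
    have h5 := List.all_eq_true.1 hc1 s' (List.mem_range.2 hs')
    simp only [Bool.or_eq_true, bne_iff_ne] at h5
    rcases h5 with h5 | h5
    · exact h5 (Int.even_iff.1 hs'e)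
    · have h6 := List.all_eq_true.1 h5 t' (List.mem_range.2 ht')
      rw [addOK_iff.2 hsum] at h6
      simp at h6

/-- **The centraliser of the involution normalises the `SL₂`.** -/
theorem nrm [Fintype K] (hK : Odd (Fintype.card K)) (h1 : Chev.chk D i = true) {cert : List (ℕ × ℕ × ℕ)}
    (hc : chkIso D l i cert = true) : ∀ g : ↥(D.group K), g * phi hp K i (-1) = phi hp K i (-1) * g →
      ∀ x ∈ (phi hp K i).range, g * x * g⁻¹ ∈ (phi hp K i).range := by
  classical
  obtain ⟨p, hpc⟩ := CharP.exists K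
  have hpp : p.Prime := (CharP.char_is_prime_or_zero K p).resolve_right (CharP.char_ne_zero_of_finite K p)
  have : Fact p.Prime := ⟨hpp⟩
  have h2K : (2 : K) ≠ 0 := two_ne_of_odd hK
  have hp2 : Odd p := by
    rcases hpp.eq_two_or_odd' with rfl | h
    · exact absurd (by exact_mod_cast CharP.cast_eq_zero K 2) h2K
    · exact h
  let cs : CoxeterSystem M M.Group := M.toCoxeterSystem
  have hfin : Finite M.Group := finite_W hp cs
  have R := rgd (K := K) hp cs p
  rw [range_eq_JX hp K i]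
  refine nrm_of_rgd R (KFacts.RgdRigid.GG_eq_top (G1_eq_top hp cs)) (neg_one_mem_T hp K i)
    (isRoot_sr cs hp.isCartan i) (fun x hx hx1 hx2 u hu v hv => ?_) (isolated hp K i h2K cs hc)
  rw [← range_eq_JX hp K i] at hv
  rcases other hp K i cs h1 hx hx1 hx2 with h3 | h3
  · have h4 : u * u = 1 := by
      have h5 := h3 u (mem_ZX.1 hu).1
      rw [(mem_ZX.1 hu).2, mul_inv_cancel_right] at h5
      nth_rewrite 1 [h5]
      rw [inv_mul_cancel]
    have h5 : u = 1 := by
      obtain ⟨k, hk⟩ := R.pgrp' hx ⟨u, (mem_ZX.1 hu).1⟩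
      have h6 : u ^ p ^ k = 1 := congrArg Subtype.val hk
      have h7 : orderOf u ∣ 2 := orderOf_dvd_of_pow_eq_one (by rw [pow_two, h4])
      have h8 : orderOf u ∣ p ^ k := orderOf_dvd_of_pow_eq_one h6
      have h9 : orderOf u ∣ 1 := by
        have hc : Nat.Coprime 2 (p ^ k) := Nat.Coprime.pow_right _ (Nat.coprime_two_left.2 hp2)
        rw [← hc]
        exact Nat.dvd_gcd h7 h8
      rwa [Nat.dvd_one, orderOf_eq_one_iff] at h9
    subst h5
    rw [one_mul, mul_one]
  · exact h3 u (mem_ZX.1 hu).1 v hv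

end Main

end Cfsg.Agent.H785.SpE7
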