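import Cfsg.Agent.H785.SpE7
import Cfsg.Agent.H296.FFourPar

/-!
# The index of the centraliser of the long involution of `E₇(q)`, `q` odd, is odd (helper785)
-/

set_option autoImplicit false
set_option linter.unusedSectionVars false

namespace Cfsg.Agent.H785.SpE7

open CoxeterSystem Cfsg.Agent.ChevalleyStructure.CoxeterGeom Cfsg.Agent.Tits.Roots Cfsg.Agent.Tits.Core
  Cfsg.Agent.Tits.Exchange Cfsg.Agent.Nodes.Reps Cfsg.Agent.Nodes.BNOf Cfsg.Agent.Nodes.StabComb
  Cfsg.Agent.Nodes.Bruhat Cfsg.Agent.Nodes.LeviDec Cfsg.Agent.Nodes.NormalForm Cfsg.Agent.Nodes.CardSup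
open Cfsg Cfsg.Lie Cfsg.Lie.ChevalleyDatum
open Cfsg.Agent.ChevalleyStructure Cfsg.Agent.ChevalleyStructure.Elts Cfsg.Agent.ChevalleyStructure.NPerm
  Cfsg.Agent.ChevalleyStructure.CoxeterGeomTypes Cfsg.Agent.ChevalleyStructure.RootVecTab
  Cfsg.Agent.ChevalleyStructure.RootVec
open Cfsg.Agent.Nodes.RGDChev Cfsg.Agent.OddHalf.LongSL Cfsg.Agent.OddHalf.LongSL.Chev
open Cfsg.Agent.KFacts.RgdChevCoord (TT XX)
open Cfsg.Agent.H81.PJTab Cfsg.Agent.H785.SpOdd

/-! ### `SL₂` -/

section SL

variable {F : Type*} [Field F]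

/-- the Borel subgroup of `SL₂` -/
def B0 (F : Type*) [Field F] : Subgroup (Matrix.SpecialLinearGroup (Fin 2) F) where
  carrier := {s | s.1 1 0 = 0}
  one_mem' := by
    show (1 : Matrix (Fin 2) (Fin 2) F) 1 0 = 0
    simp
  mul_mem' := by
    intro a b ha hb
    have ha' : a.1 1 0 = 0 := ha
    have hb' : b.1 1 0 = 0 := hb
    show (a.1 * b.1) 1 0 = 0
    rw [Matrix.mul_apply, Fin.sum_univ_two, ha', hb']
    ring
  inv_mem' := by
    intro a ha
    have ha' : a.1 1 0 = 0 := ha
    show (Matrix.adjugate a.1) 1 0 = 0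
    rw [Matrix.adjugate_fin_two]
    simp [ha']

theorem card_B0 [Fintype F] : Nat.card ↥(B0 F) = (Fintype.card F - 1) * Fintype.card F := by
  classical
  have h : Nat.card ↥(B0 F) = Nat.card (Fˣ × F) := by
    symm
    refine Nat.card_congr
      { toFun := fun x => ⟨⟨!![(x.1 : F), x.2; 0, ((x.1⁻¹ : Fˣ) : F)], by
          rw [Matrix.det_fin_two_of]; simp⟩, by
          show (!![(x.1 : F), x.2; 0, ((x.1⁻¹ : Fˣ) : F)] : Matrix (Fin 2) (Fin 2) F) 1 0 = 0
          simp⟩
        invFun := fun s => ⟨⟨s.1.1 0 0, s.1.1 1 1, by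
            have h1 := s.1.2
            have h2 : s.1.1 1 0 = 0 := s.2
            rw [Matrix.det_fin_two, h2, mul_zero, sub_zero] at h1
            exact h1, by
            have h1 := s.1.2
            have h2 : s.1.1 1 0 = 0 := s.2
            rw [Matrix.det_fin_two, h2, mul_zero, sub_zero] at h1
            rw [mul_comm]; exact h1⟩, s.1.1 0 1⟩
        left_inv := ?_
        right_inv := ?_ }
    · rintro ⟨u, x⟩
      refine Prod.ext (Units.ext ?_) ?_
      · simp
      · simp
    · rintro ⟨⟨s, hs⟩, hs0⟩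
      have h2 : s 1 0 = 0 := hs0
      have h1 : s 0 0 * s 1 1 = 1 := by
        rw [Matrix.det_fin_two, h2, mul_zero, sub_zero] at hs
        exact hs
      apply Subtype.ext
      apply Subtype.ext
      ext i j
      fin_cases i <;> fin_cases j
      · simp
      · simp
      · simp [h2]
      · simp
  rw [h, Nat.card_prod, Nat.card_eq_fintype_card, Nat.card_eq_fintype_card, Fintype.card_units]

/-- `|SL_n(q)| (q-1) = |GL_n(q)|`. -/
theorem card_sl_mul [Fintype F] (n : ℕ) [NeZero n] :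
    Nat.card Fˣ * Nat.card (Matrix.SpecialLinearGroup (Fin n) F) = Nat.card (GL (Fin n) F) := by
  classical
  have h1 : (Matrix.GeneralLinearGroup.det (n := Fin n) (R := F)).range = ⊤ := by
    rw [MonoidHom.range_eq_top]
    intro u
    refine ⟨Matrix.GeneralLinearGroup.mk' (Matrix.diagonal (Function.update 1 0 (u : F))) ?_, ?_⟩
    · rw [Matrix.det_diagonal, Finset.prod_update_of_mem (Finset.mem_univ _)]
      simp only [Pi.one_apply, Finset.prod_const_one, mul_one]
      exact invertibleOfNonzero u.ne_zero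
    · ext
      change Matrix.det (Matrix.diagonal (Function.update 1 0 (u : F))) = u
      rw [Matrix.det_diagonal, Finset.prod_update_of_mem (Finset.mem_univ _)]
      simp
  have h2 : Nat.card (Matrix.GeneralLinearGroup.det (n := Fin n) (R := F)).ker =
      Nat.card (Matrix.SpecialLinearGroup (Fin n) F) := by
    refine Nat.card_congr ⟨fun A => ⟨A.1.1, ?_⟩, fun A => ⟨Matrix.SpecialLinearGroup.toGL A, ?_⟩, ?_, ?_⟩
    · have := A.2
      rw [MonoidHom.mem_ker] at this
      simpa using congrArg Units.val this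
    · rw [MonoidHom.mem_ker]
      ext
      simp
    · intro A
      ext
      rfl
    · intro A
      ext
      simp
  rw [← Subgroup.card_mul_index (Matrix.GeneralLinearGroup.det (n := Fin n) (R := F)).ker, h2,
    Subgroup.index_ker, h1, mul_comm]
  simp

theorem card_SL [Fintype F] : Nat.card (Matrix.SpecialLinearGroup (Fin 2) F) =
    Nat.card ↥(B0 F) * (Fintype.card F + 1) := by
  classical
  rw [card_B0]
  have h := card_sl_mul (F := F) 2
  obtain ⟨q, hF⟩ : ∃ q, Fintype.card F = q := ⟨_, rfl⟩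
  rw [Matrix.card_GL_field] at h
  simp only [Fin.prod_univ_two, Nat.card_eq_fintype_card, Fintype.card_units, hF] at h
  have hq : 2 ≤ q := hF ▸ Fintype.one_lt_card
  rw [Nat.card_eq_fintype_card, hF]
  have h3 : (q - 1) * Fintype.card (Matrix.SpecialLinearGroup (Fin 2) F) = (q - 1) * ((q - 1) * q * (q + 1)) := by
    rw [h]
    obtain ⟨k, rfl⟩ : ∃ k, q = k + 1 := ⟨q - 1, by omega⟩
    simp
    have h4 : (k + 1) ^ 2 - (k + 1) = k * (k+1) := by
      rw [Nat.sub_eq_iff_eq_add (by nlinarith)]; ring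
    have h5 : (k + 1) ^ 2 - 1 = k * (k + 2) := by
      rw [Nat.sub_eq_iff_eq_add (by nlinarith)]; ring
    rw [h4, h5]; ring
  exact Nat.eq_of_mul_eq_mul_left (by omega) h3

theorem exists_card [Fintype F] {H : Subgroup (Matrix.SpecialLinearGroup (Fin 2) F)} (hH : ∀ s ∈ H, s.1 1 0 = 0) :
    ∃ c, c * (Fintype.card F + 1) * Nat.card H = Nat.card (Matrix.SpecialLinearGroup (Fin 2) F) := by
  have h1 : H ≤ B0 F := hH
  obtain ⟨c, hc⟩ := Subgroup.card_dvd_of_le h1
  refine ⟨c, ?_⟩
  rw [card_SL, hc]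
  ring

end SL

section Main

variable {D : ChevalleyDatum} {l : ℕ} {M : CoxeterMatrix (Fin l)} (hp : IsType D l M) (K : Type) [Field K]
variable (i : Fin l)

include hp in
/-- subgroups of the `SL₂` normalising the root group -/
theorem hcard [Fintype K] (h2K : (2 : K) ≠ 0) (h2 : chkOdd D i = true) (H : Subgroup ↥(D.group K))
    (hH : H ≤ XX D l K (sr i) ⊔ XX D l K (-sr i)) (hHn : H ≤ Subgroup.normalizer (XX D l K (sr i) : Set ↥(D.group K))) :
    ∃ c, c * (Fintype.card K + 1) * Nat.card H = Nat.card ↥(XX D l K (sr i) ⊔ XX D l K (-sr i)) := by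
  have hinj := phi_injective hp K i h2K h2
  rw [← range_eq_sup hp K i] at hH ⊢
  have h3 : Nat.card ↥(phi hp K i).range = Nat.card (Matrix.SpecialLinearGroup (Fin 2) K) :=
    (Nat.card_congr (MonoidHom.ofInjective hinj).toEquiv).symm
  have h4 : Nat.card ↥(H.comap (phi hp K i)) = Nat.card H := by
    have h5 : (H.comap (phi hp K i)).map (phi hp K i) = H := Subgroup.map_comap_eq_self hH
    rw [← Nat.card_congr ((H.comap (phi hp K i)).equivMapOfInjective _ hinj).toEquiv.symm, h5]
  rw [h3, ← h4]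
  refine exists_card fun s hs => ?_
  have h5 : phi hp K i (SL2Hom.up 1) ∈ XX D l K (sr i) := (mem_XX_sr hp K i).2 ⟨1, rfl⟩
  have h6 := (Subgroup.mem_normalizer_iff.1 (hHn hs) _).1 h5
  obtain ⟨t, ht⟩ := (mem_XX_sr hp K i).1 h6
  rw [← map_mul, ← map_inv, ← map_mul] at ht
  have h7 := hinj ht
  have h8 : SL2Hom.up t * s = s * SL2Hom.up 1 := by rw [h7]; group
  have h9 := congrArg (fun g : Matrix.SpecialLinearGroup (Fin 2) K => g.1 1 1) h8
  have e1 : (SL2Hom.up t * s).1 1 1 = s.1 1 1 := by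
    show ((SL2Hom.up t).1 * s.1) 1 1 = _
    rw [Matrix.mul_apply, Fin.sum_univ_two]
    show (0 : K) * s.1 0 1 + 1 * s.1 1 1 = _
    ring
  have e2 : (s * SL2Hom.up (1 : K)).1 1 1 = s.1 1 0 + s.1 1 1 := by
    show (s.1 * (SL2Hom.up (1 : K)).1) 1 1 = _
    rw [Matrix.mul_apply, Fin.sum_univ_two]
    show s.1 1 0 * 1 + s.1 1 1 * 1 = _
    ring
  simp only [e1, e2] at h9
  linear_combination -h9

/-- the action of a word on the indices of the roots -/
def act (D : ChevalleyDatum) {l : ℕ} (ω : List (Fin l)) (r : ℕ) : ℕ := ω.foldr (fun i s => D.reflectRoot i s) r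

theorem rep_word {W : Type*} [Group W] (cs : CoxeterSystem M W) (ω : List (Fin l)) {r : ℕ} (hr : r < D.nroots) :
    act D ω r < D.nroots ∧ rep cs hp.isCartan (cs.wordProd ω) (vec D l r) = vec D l (act D ω r) := by
  induction ω with
  | nil =>
    refine ⟨hr, ?_⟩
    rw [wordProd_nil, map_one, Module.End.one_apply]
    rfl
  | cons i ω ih =>
    refine ⟨reflectRoot_lt hp.inList (lt_rank hp i) ih.1, ?_⟩
    rw [wordProd_cons, rep_mul_apply, ih.2, rep_vec hp cs i ih.1]
    rfl

/-- the nodes `J` are orthogonal to the root `r` -/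
def orthOK (D : ChevalleyDatum) {l : ℕ} (J : List (Fin l)) (r : ℕ) : Bool :=
  J.all fun j => D.reflectRoot j r == r && r != D.simple j && r != D.neg (D.simple j) && D.neg r != D.simple j &&
    D.neg r != D.neg (D.simple j) && (D.commTerms (D.simple j) r).isEmpty && (D.commTerms (D.simple j) (D.neg r)).isEmpty

/-- **The index of the centraliser is odd.** -/
theorem index [Fintype K] (hK : Odd (Fintype.card K)) (h2 : chkOdd D i = true) {ω J : List (Fin l)}
    (h3 : orthOK D J (act D ω (D.simple i)) = true) {Al : List (List ℤ)}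
    (hA : ∀ i j : Fin l, (Al.getD i []).getD j 0 = cartanOf D l i j) {l0 : List ℤ}
    {Tb : List (List ℤ × List (Fin l))} {Jall : List (Fin l)} (hall : ∀ j, j ∈ Jall)
    (O : Ok l Al Jall l0 Tb) (hJ : ∀ j : Fin l, j ∈ J ↔ toF l l0 j = 0) {N : ℕ → ℕ} (hN : Odd (N (Fintype.card K)))
    (hsum : (Tb.map fun e => Fintype.card K ^ e.2.length).sum = (Fintype.card K + 1) * N (Fintype.card K)) :
    ¬ 2 ∣ (Subgroup.centralizer ({phi hp K i (-1)} : Set ↥(D.group K))).index := by
  classical
  obtain ⟨p, hpc⟩ := CharP.exists K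
  have hpp : p.Prime := (CharP.char_is_prime_or_zero K p).resolve_right (CharP.char_ne_zero_of_finite K p)
  have : Fact p.Prime := ⟨hpp⟩
  have h2K : (2 : K) ≠ 0 := two_ne_of_odd hK
  have hp2 : p ≠ 2 := by
    rintro rfl
    exact h2K (by exact_mod_cast CharP.cast_eq_zero K 2)
  let cs : CoxeterSystem M M.Group := M.toCoxeterSystem
  have hfin : Finite M.Group := finite_W hp cs
  have R := rgd (K := K) hp cs p
  have hft : Fintype ↥(WJ cs {j | j ∈ Jall}) := Fintype.ofFinite _
  have hft' : Fintype ↥(WJ cs {j | toF l l0 j = 0}) := Fintype.ofFinite _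
  have hr0 := simple_lt hp.inList (lt_rank hp i)
  obtain ⟨hr, hrep⟩ := rep_word hp cs ω hr0
  set r := act D ω (D.simple i) with hrd
  rw [vec_simple hp i] at hrep
  have hbr : IsRoot cs hp.isCartan (vec D l r) := isRoot_vec hp cs hr
  have hroot : IsRoot cs hp.isCartan (sr i) := isRoot_sr cs hp.isCartan i
  obtain ⟨g, hg⟩ := exists_rp cs R.nsys (cs.wordProd ω)
  have hc1 : cj g (XX D l K (sr i)) = XX D l K (vec D l r) := by rw [R.conj_rp hg hroot, hrep]
  have hc2 : cj g (XX D l K (-sr i)) = XX D l K (-vec D l r) := by rw [R.conj_rp hg hroot.neg, map_neg, hrep]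
  have hc3 : cj g (XX D l K (sr i) ⊔ XX D l K (-sr i)) = XX D l K (vec D l r) ⊔ XX D l K (-vec D l r) := by
    rw [cj_sup, hc1, hc2]
  have hJ' : ∀ j ∈ J, D.reflectRoot j r = r ∧ (r ≠ D.simple j ∧ r ≠ D.neg (D.simple j) ∧ D.neg r ≠ D.simple j ∧
      D.neg r ≠ D.neg (D.simple j)) ∧ D.commTerms (D.simple j) r = [] ∧ D.commTerms (D.simple j) (D.neg r) = [] := by
    intro j hj
    have h4 := List.all_eq_true.1 h3 j hj
    simp only [Bool.and_eq_true, beq_iff_eq, bne_iff_ne, List.isEmpty_iff] at h4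
    exact ⟨h4.1.1.1.1.1.1, ⟨h4.1.1.1.1.1.2, h4.1.1.1.1.2, h4.1.1.1.2, h4.1.1.2⟩, h4.1.2, h4.2⟩
  set z : ↥(D.group K) := phi hp K i (-1) with hz
  -- the index of the conjugate
  have hidx : (Subgroup.centralizer ({z} : Set ↥(D.group K))).index =
      (Subgroup.centralizer ({g * z * g⁻¹} : Set ↥(D.group K))).index := by
    have h4 : cj g (Subgroup.centralizer ({z} : Set ↥(D.group K))) =
        Subgroup.centralizer ({g * z * g⁻¹} : Set ↥(D.group K)) := by
      ext u
      rw [mem_cj, Subgroup.mem_centralizer_singleton_iff, Subgroup.mem_centralizer_singleton_iff]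
      constructor
      · intro h5
        calc u * (g * z * g⁻¹) = g * (g⁻¹ * u * g * z) * g⁻¹ := by group
          _ = g * (z * (g⁻¹ * u * g)) * g⁻¹ := by rw [h5]
          _ = g * z * g⁻¹ * u := by group
      · intro h5
        calc g⁻¹ * u * g * z = g⁻¹ * (u * (g * z * g⁻¹)) * g := by group
          _ = g⁻¹ * (g * z * g⁻¹ * u) * g := by rw [h5]
          _ = z * (g⁻¹ * u * g) := by group
    have h5 : Nat.card ↥(Subgroup.centralizer ({z} : Set ↥(D.group K))) =
        Nat.card ↥(Subgroup.centralizer ({g * z * g⁻¹} : Set ↥(D.group K))) := by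
      rw [← h4]
      exact Nat.card_congr ((Subgroup.centralizer ({z} : Set ↥(D.group K))).equivMapOfInjective _
        (MulAut.conj g).injective).toEquiv
    have h6 := Subgroup.card_mul_index (Subgroup.centralizer ({z} : Set ↥(D.group K)))
    rw [← Subgroup.card_mul_index (Subgroup.centralizer ({g * z * g⁻¹} : Set ↥(D.group K))), h5] at h6
    exact Nat.eq_of_mul_eq_mul_left Nat.card_pos h6
  rw [hidx]
  have hzT : g * z * g⁻¹ ∈ TT D K := (Subgroup.mem_normalizer_iff.1 hg.mem_normalizer z).1 (neg_one_mem_T hp K i)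
  have hzJ : z ∈ XX D l K (sr i) ⊔ XX D l K (-sr i) := by
    rw [← range_eq_sup hp K i]; exact ⟨-1, rfl⟩
  refine not_two_dvd_index R hp2 (J := {j | toF l l0 j = 0}) hbr (fun j hj => ?_) (fun j hj u hu v hv => ?_) hN
    (q := Fintype.card K) ?_ (fun H hH hHn => ?_) (fun t ht => T_comm hp K ht hzT) ?_ (fun v hv => ?_)
  · rw [rep_vec hp cs j hr, (hJ' j ((hJ j).2 hj)).1]
  · obtain ⟨e1, ⟨n1, n2, n3, n4⟩, c1, c2⟩ := hJ' j ((hJ j).2 hj)
    have hsj := simple_lt hp.inList (lt_rank hp j)
    have hu' : ∃ t, (u : GL D.Idx K) = xG hp.inList (D.simple j) t := by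
      rw [← vec_simple hp j] at hu
      exact (mem_XX_vec hp K hsj).1 hu
    obtain ⟨t, ht⟩ := hu'
    have h5 : XX D l K (vec D l r) ⊔ XX D l K (-vec D l r) ≤ Subgroup.centralizer ({u} : Set ↥(D.group K)) := by
      refine sup_le (fun v hv => ?_) (fun v hv => ?_)
      · rw [Subgroup.mem_centralizer_singleton_iff]
        obtain ⟨c, hcv⟩ := (mem_XX_vec hp K hr).1 hv
        apply Subtype.ext
        rw [Subgroup.coe_mul, Subgroup.coe_mul, hcv, ht]
        exact commute_xG hp K hsj hr n1 n2 c1 t c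
      · rw [Subgroup.mem_centralizer_singleton_iff]
        rw [← vec_neg hp hr] at hv
        obtain ⟨c, hcv⟩ := (mem_XX_vec hp K (neg_lt hp.inList hr)).1 hv
        apply Subtype.ext
        rw [Subgroup.coe_mul, Subgroup.coe_mul, hcv, ht]
        exact commute_xG hp K hsj (neg_lt hp.inList hr) n3 n4 c2 t c
    exact (Subgroup.mem_centralizer_singleton_iff.1 (h5 hv)).symm
  · -- the order
    have h4 := Cfsg.Agent.H296.FFourPar.card_PJ_gen R {j | j ∈ Jall}
    have h5 := Cfsg.Agent.H296.FFourPar.card_PJ_gen R {j | toF l l0 j = 0}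
    have h6 := sum_tab_eq R hA O
    have h7 : (fun i : Fin l => Nat.card ↥(XX D l K (sr i))) = fun _ => Fintype.card K := by
      funext i
      rw [card_X hp K cs (isRoot_sr cs hp.isCartan i), Nat.card_eq_fintype_card]
    have h8 : (Tb.map fun e => (e.2.map fun i => Nat.card ↥(XX D l K (sr i))).prod) =
        Tb.map fun e => Fintype.card K ^ e.2.length := by
      refine List.map_congr_left fun e _ => ?_
      show (e.2.map fun i => Nat.card ↥(XX D l K (sr i))).prod = _
      rw [h7, List.map_const', List.prod_replicate]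
    have h9 : PJ cs hp.isCartan (TT D K) (XX D l K) {j | j ∈ Jall} = ⊤ := by
      have h10 : ({j | j ∈ Jall} : Set (Fin l)) = Set.univ := Set.eq_univ_of_forall hall
      rw [h10, eq_top_iff]
      have h11 : GG cs hp.isCartan (TT D K) (XX D l K) = ⊤ := KFacts.RgdRigid.GG_eq_top (G1_eq_top hp cs)
      rw [← h11, ← LJ_univ]
      exact LJ_le_PJ
    rw [h9, Subgroup.card_top] at h4
    rw [h4, h5]
    have h12 := h6
    rw [show (Tb.map fun e => (e.2.map fun i => Nat.card ↥((fun x => (XV D l K x).subgroupOf (D.group K)) (sr i))).prod) =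
      Tb.map fun e => Fintype.card K ^ e.2.length from h8, hsum] at h12
    rw [h12]
    ring
  · -- subgroups normalising the root group
    have h4 : cj g⁻¹ H ≤ XX D l K (sr i) ⊔ XX D l K (-sr i) := by
      have h5 := cj_mono g⁻¹ hH
      rwa [← hc3, cj_inv_cj] at h5
    have h5 : cj g⁻¹ H ≤ Subgroup.normalizer (XX D l K (sr i) : Set ↥(D.group K)) := by
      intro u hu
      rw [mem_cj, inv_inv] at hu
      have h6 : cj (g * u * g⁻¹) (XX D l K (vec D l r)) = XX D l K (vec D l r) := mem_normalizer_iff_cj.1 (hHn hu)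
      rw [mem_normalizer_iff_cj]
      have h7 : cj g (cj u (XX D l K (sr i))) = cj g (XX D l K (sr i)) := by
        rw [← hc1, ← cj_mul, inv_mul_cancel_right, cj_mul] at h6
        exact h6
      have h8 := congrArg (cj g⁻¹) h7
      rwa [cj_inv_cj, cj_inv_cj] at h8
    obtain ⟨c, hc⟩ := hcard hp K i h2K h2 _ h4 h5
    refine ⟨c, ?_⟩
    have h6 : Nat.card ↥(cj g⁻¹ H) = Nat.card H :=
      (Nat.card_congr (H.equivMapOfInjective _ (MulAut.conj g⁻¹).injective).toEquiv).symm
    have h7 : Nat.card ↥(XX D l K (vec D l r) ⊔ XX D l K (-vec D l r)) = Nat.card ↥(XX D l K (sr i) ⊔ XX D l K (-sr i)) := by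
      rw [← hc3]
      exact (Nat.card_congr ((XX D l K (sr i) ⊔ XX D l K (-sr i)).equivMapOfInjective _
        (MulAut.conj g).injective).toEquiv).symm
    rw [h6] at hc
    rw [← h7] at hc
    exact hc
  · rw [← hc3]
    exact conj_mem_cj.2 hzJ
  · rw [← hc3] at hv
    have h4 := mem_cj.1 hv
    rw [← range_eq_sup hp K i] at h4
    obtain ⟨s, hs⟩ := h4
    have h5 := neg_one_comm hp K i s
    rw [hs, ← hz] at h5
    calc v * (g * z * g⁻¹) = g * (g⁻¹ * v * g * z) * g⁻¹ := by group
      _ = g * (z * (g⁻¹ * v * g)) * g⁻¹ := by rw [h5]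
      _ = g * z * g⁻¹ * v := by group

end Main

end Cfsg.Agent.H785.SpE7
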