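import Cfsg.Agent.H785.SpOdd
import Cfsg.Agent.OddHalf.LongSL.Chev
import Cfsg.Agent.KFacts.RgdChevCoord

/-!
# The long involutions of `E₇(q)`, `q` odd (helper785)

* `long_data` : the data of a long root `SL₂` of a Chevalley group;
* `tabE7`, `tabE7_ok`, `tabE7_sum` : the table of the minimal coset representatives of `W(E₇) / W(D₆)`;
* `chkIso` : the check which shows that the centraliser of the long involution normalises `SL₂`.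
-/

set_option autoImplicit false
set_option linter.unusedSectionVars false

namespace Cfsg.Agent.H785.SpE7

open CoxeterSystem Cfsg.Agent.ChevalleyStructure.CoxeterGeom Cfsg.Agent.Tits.Roots Cfsg.Agent.Tits.Core
  Cfsg.Agent.Tits.Exchange Cfsg.Agent.Nodes.Reps Cfsg.Agent.Nodes.BNOf Cfsg.Agent.Nodes.StabComb
  Cfsg.Agent.Nodes.Bruhat Cfsg.Agent.Nodes.LeviDec Cfsg.Agent.Nodes.NormalForm Cfsg.Agent.Nodes.CardSup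
open Cfsg Cfsg.Lie Cfsg.Lie.ChevalleyDatum
open Cfsg.Agent.ChevalleyStructure Cfsg.Agent.ChevalleyStructure.Elts Cfsg.Agent.ChevalleyStructure.NPerm
  Cfsg.Agent.ChevalleyStructure.CoxeterGeomTypes Cfsg.Agent.ChevalleyStructure.RootVecTab
open Cfsg.Agent.Nodes.RGDChev Cfsg.Agent.OddHalf.LongSL Cfsg.Agent.OddHalf.LongSL.Chev
open Cfsg.Agent.KFacts.RgdChevCoord (TT XX)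
open Cfsg.Agent.H81.PJTab Cfsg.Agent.H785.SpOdd

/-! ### the table -/

/-- the Cartan matrix of type `E₇` -/
def aE7 : List (List ℤ) :=
  [[2, 0, -1, 0, 0, 0, 0], [0, 2, 0, -1, 0, 0, 0], [-1, 0, 2, -1, 0, 0, 0], [0, -1, -1, 2, -1, 0, 0],
   [0, 0, 0, -1, 2, -1, 0], [0, 0, 0, 0, -1, 2, -1], [0, 0, 0, 0, 0, -1, 2]]

theorem aE7_ok : ∀ i j : Fin 7, (aE7.getD i []).getD j 0 = cartanOf chevE7 7 i j := by decide +kernel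

def tab0 : List (List ℤ × List (Fin 7)) :=
  [([1, 0, 0, 0, 0, 0, 0], []),
   ([-1, 0, 1, 0, 0, 0, 0], [0]),
   ([0, 0, -1, 1, 0, 0, 0], [0, 2]),
   ([0, 1, 0, -1, 1, 0, 0], [0, 2, 3]),
   ([0, -1, 0, 0, 1, 0, 0], [0, 2, 3, 1]),
   ([0, 1, 0, 0, -1, 1, 0], [0, 2, 3, 4]),
   ([0, -1, 0, 1, -1, 1, 0], [0, 2, 3, 1, 4]),
   ([0, 1, 0, 0, 0, -1, 1], [0, 2, 3, 4, 5]),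
   ([0, 0, 1, -1, 0, 1, 0], [0, 2, 3, 1, 4, 3]),
   ([0, -1, 0, 1, 0, -1, 1], [0, 2, 3, 1, 4, 5]),
   ([0, 1, 0, 0, 0, 0, -1], [0, 2, 3, 4, 5, 6]),
   ([1, 0, -1, 0, 0, 1, 0], [0, 2, 3, 1, 4, 3, 2]),
   ([0, 0, 1, -1, 1, -1, 1], [0, 2, 3, 1, 4, 3, 5]),
   ([0, -1, 0, 1, 0, 0, -1], [0, 2, 3, 1, 4, 5, 6]),
   ([-1, 0, 0, 0, 0, 1, 0], [0, 2, 3, 1, 4, 3, 2, 0]),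
   ([1, 0, -1, 0, 1, -1, 1], [0, 2, 3, 1, 4, 3, 2, 5]),
   ([0, 0, 1, 0, -1, 0, 1], [0, 2, 3, 1, 4, 3, 5, 4]),
   ([0, 0, 1, -1, 1, 0, -1], [0, 2, 3, 1, 4, 3, 5, 6])]

def tab1 : List (List ℤ × List (Fin 7)) :=
  [([-1, 0, 0, 0, 1, -1, 1], [0, 2, 3, 1, 4, 3, 2, 0, 5]),
   ([1, 0, -1, 1, -1, 0, 1], [0, 2, 3, 1, 4, 3, 2, 5, 4]),
   ([1, 0, -1, 0, 1, 0, -1], [0, 2, 3, 1, 4, 3, 2, 5, 6]),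
   ([0, 0, 1, 0, -1, 1, -1], [0, 2, 3, 1, 4, 3, 5, 4, 6]),
   ([-1, 0, 0, 1, -1, 0, 1], [0, 2, 3, 1, 4, 3, 2, 0, 5, 4]),
   ([-1, 0, 0, 0, 1, 0, -1], [0, 2, 3, 1, 4, 3, 2, 0, 5, 6]),
   ([1, 1, 0, -1, 0, 0, 1], [0, 2, 3, 1, 4, 3, 2, 5, 4, 3]),
   ([1, 0, -1, 1, -1, 1, -1], [0, 2, 3, 1, 4, 3, 2, 5, 4, 6]),
   ([0, 0, 1, 0, 0, -1, 0], [0, 2, 3, 1, 4, 3, 5, 4, 6, 5]),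
   ([-1, 1, 1, -1, 0, 0, 1], [0, 2, 3, 1, 4, 3, 2, 0, 5, 4, 3]),
   ([-1, 0, 0, 1, -1, 1, -1], [0, 2, 3, 1, 4, 3, 2, 0, 5, 4, 6]),
   ([1, -1, 0, 0, 0, 0, 1], [0, 2, 3, 1, 4, 3, 2, 5, 4, 3, 1]),
   ([1, 1, 0, -1, 0, 1, -1], [0, 2, 3, 1, 4, 3, 2, 5, 4, 3, 6]),
   ([1, 0, -1, 1, 0, -1, 0], [0, 2, 3, 1, 4, 3, 2, 5, 4, 6, 5]),
   ([-1, -1, 1, 0, 0, 0, 1], [0, 2, 3, 1, 4, 3, 2, 0, 5, 4, 3, 1]),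
   ([0, 1, -1, 0, 0, 0, 1], [0, 2, 3, 1, 4, 3, 2, 0, 5, 4, 3, 2]),
   ([-1, 1, 1, -1, 0, 1, -1], [0, 2, 3, 1, 4, 3, 2, 0, 5, 4, 3, 6]),
   ([-1, 0, 0, 1, 0, -1, 0], [0, 2, 3, 1, 4, 3, 2, 0, 5, 4, 6, 5])]

def tab2 : List (List ℤ × List (Fin 7)) :=
  [([1, -1, 0, 0, 0, 1, -1], [0, 2, 3, 1, 4, 3, 2, 5, 4, 3, 1, 6]),
   ([1, 1, 0, -1, 1, -1, 0], [0, 2, 3, 1, 4, 3, 2, 5, 4, 3, 6, 5]),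
   ([0, -1, -1, 1, 0, 0, 1], [0, 2, 3, 1, 4, 3, 2, 0, 5, 4, 3, 1, 2]),
   ([-1, -1, 1, 0, 0, 1, -1], [0, 2, 3, 1, 4, 3, 2, 0, 5, 4, 3, 1, 6]),
   ([0, 1, -1, 0, 0, 1, -1], [0, 2, 3, 1, 4, 3, 2, 0, 5, 4, 3, 2, 6]),
   ([-1, 1, 1, -1, 1, -1, 0], [0, 2, 3, 1, 4, 3, 2, 0, 5, 4, 3, 6, 5]),
   ([1, -1, 0, 0, 1, -1, 0], [0, 2, 3, 1, 4, 3, 2, 5, 4, 3, 1, 6, 5]),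
   ([1, 1, 0, 0, -1, 0, 0], [0, 2, 3, 1, 4, 3, 2, 5, 4, 3, 6, 5, 4]),
   ([0, 0, 0, -1, 1, 0, 1], [0, 2, 3, 1, 4, 3, 2, 0, 5, 4, 3, 1, 2, 3]),
   ([0, -1, -1, 1, 0, 1, -1], [0, 2, 3, 1, 4, 3, 2, 0, 5, 4, 3, 1, 2, 6]),
   ([-1, -1, 1, 0, 1, -1, 0], [0, 2, 3, 1, 4, 3, 2, 0, 5, 4, 3, 1, 6, 5]),
   ([0, 1, -1, 0, 1, -1, 0], [0, 2, 3, 1, 4, 3, 2, 0, 5, 4, 3, 2, 6, 5]),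
   ([-1, 1, 1, 0, -1, 0, 0], [0, 2, 3, 1, 4, 3, 2, 0, 5, 4, 3, 6, 5, 4]),
   ([1, -1, 0, 1, -1, 0, 0], [0, 2, 3, 1, 4, 3, 2, 5, 4, 3, 1, 6, 5, 4]),
   ([0, 0, 0, 0, -1, 1, 1], [0, 2, 3, 1, 4, 3, 2, 0, 5, 4, 3, 1, 2, 3, 4]),
   ([0, 0, 0, -1, 1, 1, -1], [0, 2, 3, 1, 4, 3, 2, 0, 5, 4, 3, 1, 2, 3, 6]),
   ([0, -1, -1, 1, 1, -1, 0], [0, 2, 3, 1, 4, 3, 2, 0, 5, 4, 3, 1, 2, 6, 5]),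
   ([-1, -1, 1, 1, -1, 0, 0], [0, 2, 3, 1, 4, 3, 2, 0, 5, 4, 3, 1, 6, 5, 4])]

def tab3 : List (List ℤ × List (Fin 7)) :=
  [([0, 1, -1, 1, -1, 0, 0], [0, 2, 3, 1, 4, 3, 2, 0, 5, 4, 3, 2, 6, 5, 4]),
   ([1, 0, 1, -1, 0, 0, 0], [0, 2, 3, 1, 4, 3, 2, 5, 4, 3, 1, 6, 5, 4, 3]),
   ([0, 0, 0, 0, 0, -1, 2], [0, 2, 3, 1, 4, 3, 2, 0, 5, 4, 3, 1, 2, 3, 4, 5]),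
   ([0, 0, 0, 0, -1, 2, -1], [0, 2, 3, 1, 4, 3, 2, 0, 5, 4, 3, 1, 2, 3, 4, 6]),
   ([0, 0, 0, -1, 2, -1, 0], [0, 2, 3, 1, 4, 3, 2, 0, 5, 4, 3, 1, 2, 3, 6, 5]),
   ([0, -1, -1, 2, -1, 0, 0], [0, 2, 3, 1, 4, 3, 2, 0, 5, 4, 3, 1, 2, 6, 5, 4]),
   ([-1, 0, 2, -1, 0, 0, 0], [0, 2, 3, 1, 4, 3, 2, 0, 5, 4, 3, 1, 6, 5, 4, 3]),
   ([0, 2, 0, -1, 0, 0, 0], [0, 2, 3, 1, 4, 3, 2, 0, 5, 4, 3, 2, 6, 5, 4, 3]),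
   ([2, 0, -1, 0, 0, 0, 0], [0, 2, 3, 1, 4, 3, 2, 5, 4, 3, 1, 6, 5, 4, 3, 2]),
   ([0, 0, 0, 0, 0, 1, -2], [0, 2, 3, 1, 4, 3, 2, 0, 5, 4, 3, 1, 2, 3, 4, 5, 6]),
   ([0, 0, 0, 0, 1, -2, 1], [0, 2, 3, 1, 4, 3, 2, 0, 5, 4, 3, 1, 2, 3, 4, 6, 5]),
   ([0, 0, 0, 1, -2, 1, 0], [0, 2, 3, 1, 4, 3, 2, 0, 5, 4, 3, 1, 2, 3, 6, 5, 4]),
   ([0, 1, 1, -2, 1, 0, 0], [0, 2, 3, 1, 4, 3, 2, 0, 5, 4, 3, 1, 2, 6, 5, 4, 3]),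
   ([1, 0, -2, 1, 0, 0, 0], [0, 2, 3, 1, 4, 3, 2, 0, 5, 4, 3, 1, 6, 5, 4, 3, 2]),
   ([0, -2, 0, 1, 0, 0, 0], [0, 2, 3, 1, 4, 3, 2, 0, 5, 4, 3, 2, 6, 5, 4, 3, 1]),
   ([-2, 0, 1, 0, 0, 0, 0], [0, 2, 3, 1, 4, 3, 2, 5, 4, 3, 1, 6, 5, 4, 3, 2, 0]),
   ([0, 0, 0, 0, 1, -1, -1], [0, 2, 3, 1, 4, 3, 2, 0, 5, 4, 3, 1, 2, 3, 4, 5, 6, 5]),
   ([0, 0, 0, 1, -1, -1, 1], [0, 2, 3, 1, 4, 3, 2, 0, 5, 4, 3, 1, 2, 3, 4, 6, 5, 4])]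

def tab4 : List (List ℤ × List (Fin 7)) :=
  [([0, 1, 1, -1, -1, 1, 0], [0, 2, 3, 1, 4, 3, 2, 0, 5, 4, 3, 1, 2, 3, 6, 5, 4, 3]),
   ([0, -1, 1, -1, 1, 0, 0], [0, 2, 3, 1, 4, 3, 2, 0, 5, 4, 3, 1, 2, 6, 5, 4, 3, 1]),
   ([1, 1, -1, -1, 1, 0, 0], [0, 2, 3, 1, 4, 3, 2, 0, 5, 4, 3, 1, 2, 6, 5, 4, 3, 2]),
   ([-1, 0, -1, 1, 0, 0, 0], [0, 2, 3, 1, 4, 3, 2, 0, 5, 4, 3, 1, 6, 5, 4, 3, 2, 0]),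
   ([0, 0, 0, 1, -1, 0, -1], [0, 2, 3, 1, 4, 3, 2, 0, 5, 4, 3, 1, 2, 3, 4, 5, 6, 5, 4]),
   ([0, 1, 1, -1, 0, -1, 1], [0, 2, 3, 1, 4, 3, 2, 0, 5, 4, 3, 1, 2, 3, 4, 6, 5, 4, 3]),
   ([0, -1, 1, 0, -1, 1, 0], [0, 2, 3, 1, 4, 3, 2, 0, 5, 4, 3, 1, 2, 3, 6, 5, 4, 3, 1]),
   ([1, 1, -1, 0, -1, 1, 0], [0, 2, 3, 1, 4, 3, 2, 0, 5, 4, 3, 1, 2, 3, 6, 5, 4, 3, 2]),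
   ([1, -1, -1, 0, 1, 0, 0], [0, 2, 3, 1, 4, 3, 2, 0, 5, 4, 3, 1, 2, 6, 5, 4, 3, 1, 2]),
   ([-1, 1, 0, -1, 1, 0, 0], [0, 2, 3, 1, 4, 3, 2, 0, 5, 4, 3, 1, 2, 6, 5, 4, 3, 2, 0]),
   ([0, 1, 1, -1, 0, 0, -1], [0, 2, 3, 1, 4, 3, 2, 0, 5, 4, 3, 1, 2, 3, 4, 5, 6, 5, 4, 3]),
   ([0, -1, 1, 0, 0, -1, 1], [0, 2, 3, 1, 4, 3, 2, 0, 5, 4, 3, 1, 2, 3, 4, 6, 5, 4, 3, 1]),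
   ([1, 1, -1, 0, 0, -1, 1], [0, 2, 3, 1, 4, 3, 2, 0, 5, 4, 3, 1, 2, 3, 4, 6, 5, 4, 3, 2]),
   ([1, -1, -1, 1, -1, 1, 0], [0, 2, 3, 1, 4, 3, 2, 0, 5, 4, 3, 1, 2, 3, 6, 5, 4, 3, 1, 2]),
   ([-1, 1, 0, 0, -1, 1, 0], [0, 2, 3, 1, 4, 3, 2, 0, 5, 4, 3, 1, 2, 3, 6, 5, 4, 3, 2, 0]),
   ([-1, -1, 0, 0, 1, 0, 0], [0, 2, 3, 1, 4, 3, 2, 0, 5, 4, 3, 1, 2, 6, 5, 4, 3, 1, 2, 0]),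
   ([0, -1, 1, 0, 0, 0, -1], [0, 2, 3, 1, 4, 3, 2, 0, 5, 4, 3, 1, 2, 3, 4, 5, 6, 5, 4, 3, 1]),
   ([1, 1, -1, 0, 0, 0, -1], [0, 2, 3, 1, 4, 3, 2, 0, 5, 4, 3, 1, 2, 3, 4, 5, 6, 5, 4, 3, 2])]

def tab5 : List (List ℤ × List (Fin 7)) :=
  [([1, -1, -1, 1, 0, -1, 1], [0, 2, 3, 1, 4, 3, 2, 0, 5, 4, 3, 1, 2, 3, 4, 6, 5, 4, 3, 1, 2]),
   ([-1, 1, 0, 0, 0, -1, 1], [0, 2, 3, 1, 4, 3, 2, 0, 5, 4, 3, 1, 2, 3, 4, 6, 5, 4, 3, 2, 0]),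
   ([-1, -1, 0, 1, -1, 1, 0], [0, 2, 3, 1, 4, 3, 2, 0, 5, 4, 3, 1, 2, 3, 6, 5, 4, 3, 1, 2, 0]),
   ([1, 0, 0, -1, 0, 1, 0], [0, 2, 3, 1, 4, 3, 2, 0, 5, 4, 3, 1, 2, 3, 6, 5, 4, 3, 1, 2, 3]),
   ([1, -1, -1, 1, 0, 0, -1], [0, 2, 3, 1, 4, 3, 2, 0, 5, 4, 3, 1, 2, 3, 4, 5, 6, 5, 4, 3, 1, 2]),
   ([-1, 1, 0, 0, 0, 0, -1], [0, 2, 3, 1, 4, 3, 2, 0, 5, 4, 3, 1, 2, 3, 4, 5, 6, 5, 4, 3, 2, 0]),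
   ([-1, -1, 0, 1, 0, -1, 1], [0, 2, 3, 1, 4, 3, 2, 0, 5, 4, 3, 1, 2, 3, 4, 6, 5, 4, 3, 1, 2, 0]),
   ([1, 0, 0, -1, 1, -1, 1], [0, 2, 3, 1, 4, 3, 2, 0, 5, 4, 3, 1, 2, 3, 4, 6, 5, 4, 3, 1, 2, 3]),
   ([-1, 0, 1, -1, 0, 1, 0], [0, 2, 3, 1, 4, 3, 2, 0, 5, 4, 3, 1, 2, 3, 6, 5, 4, 3, 1, 2, 0, 3]),
   ([-1, -1, 0, 1, 0, 0, -1], [0, 2, 3, 1, 4, 3, 2, 0, 5, 4, 3, 1, 2, 3, 4, 5, 6, 5, 4, 3, 1, 2, 0]),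
   ([1, 0, 0, -1, 1, 0, -1], [0, 2, 3, 1, 4, 3, 2, 0, 5, 4, 3, 1, 2, 3, 4, 5, 6, 5, 4, 3, 1, 2, 3]),
   ([-1, 0, 1, -1, 1, -1, 1], [0, 2, 3, 1, 4, 3, 2, 0, 5, 4, 3, 1, 2, 3, 4, 6, 5, 4, 3, 1, 2, 0, 3]),
   ([1, 0, 0, 0, -1, 0, 1], [0, 2, 3, 1, 4, 3, 2, 0, 5, 4, 3, 1, 2, 3, 4, 6, 5, 4, 3, 1, 2, 3, 4]),
   ([0, 0, -1, 0, 0, 1, 0], [0, 2, 3, 1, 4, 3, 2, 0, 5, 4, 3, 1, 2, 3, 6, 5, 4, 3, 1, 2, 0, 3, 2]),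
   ([-1, 0, 1, -1, 1, 0, -1], [0, 2, 3, 1, 4, 3, 2, 0, 5, 4, 3, 1, 2, 3, 4, 5, 6, 5, 4, 3, 1, 2, 0, 3]),
   ([1, 0, 0, 0, -1, 1, -1], [0, 2, 3, 1, 4, 3, 2, 0, 5, 4, 3, 1, 2, 3, 4, 5, 6, 5, 4, 3, 1, 2, 3, 4]),
   ([0, 0, -1, 0, 1, -1, 1], [0, 2, 3, 1, 4, 3, 2, 0, 5, 4, 3, 1, 2, 3, 4, 6, 5, 4, 3, 1, 2, 0, 3, 2]),
   ([-1, 0, 1, 0, -1, 0, 1], [0, 2, 3, 1, 4, 3, 2, 0, 5, 4, 3, 1, 2, 3, 4, 6, 5, 4, 3, 1, 2, 0, 3, 4])]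

def tab6 : List (List ℤ × List (Fin 7)) :=
  [([0, 0, -1, 0, 1, 0, -1], [0, 2, 3, 1, 4, 3, 2, 0, 5, 4, 3, 1, 2, 3, 4, 5, 6, 5, 4, 3, 1, 2, 0, 3, 2]),
   ([-1, 0, 1, 0, -1, 1, -1], [0, 2, 3, 1, 4, 3, 2, 0, 5, 4, 3, 1, 2, 3, 4, 5, 6, 5, 4, 3, 1, 2, 0, 3, 4]),
   ([1, 0, 0, 0, 0, -1, 0], [0, 2, 3, 1, 4, 3, 2, 0, 5, 4, 3, 1, 2, 3, 4, 5, 6, 5, 4, 3, 1, 2, 3, 4, 5]),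
   ([0, 0, -1, 1, -1, 0, 1], [0, 2, 3, 1, 4, 3, 2, 0, 5, 4, 3, 1, 2, 3, 4, 6, 5, 4, 3, 1, 2, 0, 3, 2, 4]),
   ([0, 0, -1, 1, -1, 1, -1], [0, 2, 3, 1, 4, 3, 2, 0, 5, 4, 3, 1, 2, 3, 4, 5, 6, 5, 4, 3, 1, 2, 0, 3, 2, 4]),
   ([-1, 0, 1, 0, 0, -1, 0], [0, 2, 3, 1, 4, 3, 2, 0, 5, 4, 3, 1, 2, 3, 4, 5, 6, 5, 4, 3, 1, 2, 0, 3, 4, 5]),
   ([0, 1, 0, -1, 0, 0, 1], [0, 2, 3, 1, 4, 3, 2, 0, 5, 4, 3, 1, 2, 3, 4, 6, 5, 4, 3, 1, 2, 0, 3, 2, 4, 3]),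
   ([0, 1, 0, -1, 0, 1, -1], [0, 2, 3, 1, 4, 3, 2, 0, 5, 4, 3, 1, 2, 3, 4, 5, 6, 5, 4, 3, 1, 2, 0, 3, 2, 4, 3]),
   ([0, 0, -1, 1, 0, -1, 0], [0, 2, 3, 1, 4, 3, 2, 0, 5, 4, 3, 1, 2, 3, 4, 5, 6, 5, 4, 3, 1, 2, 0, 3, 2, 4, 5]),
   ([0, -1, 0, 0, 0, 0, 1], [0, 2, 3, 1, 4, 3, 2, 0, 5, 4, 3, 1, 2, 3, 4, 6, 5, 4, 3, 1, 2, 0, 3, 2, 4, 3, 1]),
   ([0, -1, 0, 0, 0, 1, -1], [0, 2, 3, 1, 4, 3, 2, 0, 5, 4, 3, 1, 2, 3, 4, 5, 6, 5, 4, 3, 1, 2, 0, 3, 2, 4, 3, 1]),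
   ([0, 1, 0, -1, 1, -1, 0], [0, 2, 3, 1, 4, 3, 2, 0, 5, 4, 3, 1, 2, 3, 4, 5, 6, 5, 4, 3, 1, 2, 0, 3, 2, 4, 3, 5]),
   ([0, -1, 0, 0, 1, -1, 0], [0, 2, 3, 1, 4, 3, 2, 0, 5, 4, 3, 1, 2, 3, 4, 5, 6, 5, 4, 3, 1, 2, 0, 3, 2, 4, 3, 1, 5]),
   ([0, 1, 0, 0, -1, 0, 0], [0, 2, 3, 1, 4, 3, 2, 0, 5, 4, 3, 1, 2, 3, 4, 5, 6, 5, 4, 3, 1, 2, 0, 3, 2, 4, 3, 5, 4]),
   ([0, -1, 0, 1, -1, 0, 0], [0, 2, 3, 1, 4, 3, 2, 0, 5, 4, 3, 1, 2, 3, 4, 5, 6, 5, 4, 3, 1, 2, 0, 3, 2, 4, 3, 1, 5, 4]),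
   ([0, 0, 1, -1, 0, 0, 0], [0, 2, 3, 1, 4, 3, 2, 0, 5, 4, 3, 1, 2, 3, 4, 5, 6, 5, 4, 3, 1, 2, 0, 3, 2, 4, 3, 1, 5, 4, 3]),
   ([1, 0, -1, 0, 0, 0, 0], [0, 2, 3, 1, 4, 3, 2, 0, 5, 4, 3, 1, 2, 3, 4, 5, 6, 5, 4, 3, 1, 2, 0, 3, 2, 4, 3, 1, 5, 4, 3, 2]),
   ([-1, 0, 0, 0, 0, 0, 0], [0, 2, 3, 1, 4, 3, 2, 0, 5, 4, 3, 1, 2, 3, 4, 5, 6, 5, 4, 3, 1, 2, 0, 3, 2, 4, 3, 1, 5, 4, 3, 2, 0])]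

/-- the orbit of the fundamental weight of the node 0 -/
def tabE7 : List (List ℤ × List (Fin 7)) :=
  tab0 ++ tab1 ++ tab2 ++ tab3 ++ tab4 ++ tab5 ++ tab6

theorem tabE7_ok : chkF 7 aE7 [0, 1, 2, 3, 4, 5, 6] [1, 0, 0, 0, 0, 0, 0] tabE7 = true := by
  unfold chkF
  rw [Bool.and_eq_true, Bool.and_eq_true, Bool.and_eq_true]
  refine ⟨⟨⟨?_, ?_⟩, ?_⟩, ?_⟩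
  · decide +kernel
  · decide +kernel
  · decide +kernel
  · decide +kernel

/-- the lengths -/
def lensE7 : List ℕ :=
  [0, 1, 2, 3, 4, 4, 5, 5, 6, 6, 6, 7, 7, 7, 8, 8, 8, 8, 9, 9, 9, 9, 10, 10, 10, 10, 10, 11, 11, 11, 11, 11, 12, 12, 12, 12, 12, 12, 13, 13, 13, 13, 13, 13, 14, 14, 14, 14, 14, 14, 15, 15, 15, 15, 15, 15, 16, 16, 16, 16, 16, 16, 16, 17, 17, 17, 17, 17, 17, 17, 18, 18, 18, 18, 18, 18, 19, 19, 19, 19, 19, 19, 20, 20, 20, 20, 20, 20, 21, 21, 21, 21, 21, 21, 22, 22, 22, 22, 22, 23, 23, 23, 23, 23, 24, 24, 24, 24, 25, 25, 25, 25, 26, 26, 26, 27, 27, 27, 28, 28, 29, 29, 30, 31, 32, 33]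

theorem tabE7_len : tabE7.map (fun e => e.2.length) = lensE7 := by decide +kernel

/-- the odd factor -/
def oddE7 (q : ℕ) : ℕ :=
  (1 + q ^ 4 + q ^ 8) * (1 + q ^ 6 + q ^ 12) * (1 + q ^ 2 + q ^ 4 + q ^ 6 + q ^ 8 + q ^ 10 + q ^ 12)

theorem odd_oddE7 {q : ℕ} (hq : Odd q) : Odd (oddE7 q) := by
  have h : ∀ k, Odd (q ^ k) := fun k => hq.pow
  have h3 : ∀ a b c : ℕ, Odd a → Odd b → Odd c → Odd (a + b + c) := fun a b c ha hb hc => (ha.add_odd hb).add_odd hc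
  unfold oddE7
  refine Odd.mul (Odd.mul (h3 _ _ _ odd_one (h _) (h _)) (h3 _ _ _ odd_one (h _) (h _))) ?_
  exact h3 _ _ _ (h3 _ _ _ (h3 _ _ _ odd_one (h _) (h _)) (h _) (h _)) (h _) (h _)

theorem tabE7_sum (q : ℕ) : (tabE7.map fun e => q ^ e.2.length).sum = (q + 1) * oddE7 q := by
  have h1 : (tabE7.map fun e => q ^ e.2.length) = lensE7.map fun k => q ^ k := by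
    rw [← tabE7_len, List.map_map]
    rfl
  rw [h1]
  unfold lensE7 oddE7
  simp only [List.map_cons, List.map_nil, List.sum_cons, List.sum_nil]
  ring

end Cfsg.Agent.H785.SpE7
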