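import Cfsg.Agent.H785.SpLg
import Cfsg.Agent.H785.SpE7Tab
import Cfsg.Agent.H785.SpE7Idx

/-!
# `E₇(q)`, `q` odd, has no elementary abelian subgroup of order 64 with automizer containing `Ω₆(2)'`-like groups (helper785)

* `row_e7` : there are no `th`, `O`, `K0` with `Sit th O K0` in `E₇(q)`, `q` odd.
-/

set_option autoImplicit false
set_option linter.unusedSectionVars false

namespace Cfsg.Agent.H785.SpE7

open CoxeterSystem Cfsg.Agent.ChevalleyStructure.CoxeterGeom Cfsg.Agent.Tits.Roots Cfsg.Agent.Tits.Core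
  Cfsg.Agent.Tits.Exchange Cfsg.Agent.Nodes.Reps Cfsg.Agent.Nodes.BNOf Cfsg.Agent.Nodes.StabComb
  Cfsg.Agent.Nodes.Bruhat Cfsg.Agent.Nodes.LeviDec Cfsg.Agent.Nodes.NormalForm Cfsg.Agent.Nodes.CardSup
open Cfsg Cfsg.Lie Cfsg.Lie.ChevalleyDatum
open Cfsg.Agent.ChevalleyStructure Cfsg.Agent.ChevalleyStructure.Elts Cfsg.Agent.ChevalleyStructure.NPerm
  Cfsg.Agent.ChevalleyStructure.CoxeterGeomTypes Cfsg.Agent.ChevalleyStructure.RootVecTab
open Cfsg.Agent.Nodes.RGDChev Cfsg.Agent.OddHalf.LongSL Cfsg.Agent.OddHalf.LongSL.Chev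
open Cfsg.Agent.KFacts.RgdChevCoord (TT XX)
open Cfsg.Agent.H81.PJTab Cfsg.Agent.H785.SpOdd Cfsg.Agent.H785.SpSL Cfsg.Agent.H785.SpLong Cfsg.Agent.H336.SpSix

theorem typeE7 : IsType chevE7 7 CoxeterMatrix.E₇ := by simp [IsType, typeList]

theorem chkE7 : Chev.chk chevE7 ((0 : Fin 7) : ℕ) = true := by decide +kernel

theorem chkOddE7 : chkOdd chevE7 ((0 : Fin 7) : ℕ) = true := by decide +kernel

/-- the certificate: triples `(r, s, t)` of indices of roots with even Cartan integers, `t = r + s` -/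
def certE7 : List (ℕ × ℕ × ℕ) :=
  [(2, 69, 3), (3, 56, 2), (4, 55, 2), (5, 54, 2), (6, 53, 2), (7, 46, 2), (8, 45, 2), (9, 44, 2), (10, 43, 2), (11, 45,
   3), (12, 44, 3), (13, 43, 3), (14, 44, 4), (15, 43, 4), (16, 43, 5), (43, 10, 2), (44, 9, 2), (45, 8, 2), (46, 7, 2),
   (47, 7, 3), (53, 6, 2), (54, 5, 2), (55, 4, 2), (56, 3, 2), (57, 6, 3), (58, 5, 3), (59, 4, 3), (60, 6, 4), (61, 5,
   4), (62, 6, 5), (63, 5, 6), (64, 4, 5), (65, 4, 6), (66, 3, 4), (67, 3, 5), (68, 3, 6), (69, 2, 3), (70, 2, 4), (71,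
   2, 5), (72, 2, 6), (78, 3, 7), (79, 2, 7), (80, 2, 8), (81, 2, 9), (82, 2, 10), (109, 5, 43), (110, 4, 43), (111, 4,
   44), (112, 3, 43), (113, 3, 44), (114, 3, 45), (115, 2, 43), (116, 2, 44), (117, 2, 45), (118, 2, 46), (119, 2, 53),
   (120, 2, 54), (121, 2, 55), (122, 2, 56), (123, 3, 69)]

theorem chkIsoE7 : chkIso chevE7 7 ((0 : Fin 7) : ℕ) certE7 = true := by decide +kernel

/-- a word which takes the fundamental root `0` to the highest root -/
def wE7 : List (Fin 7) := [0, 2, 3, 4, 5, 6, 1, 3, 4, 5, 2, 3, 4, 1, 3, 2]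

theorem orthE7 : orthOK chevE7 [(1 : Fin 7), 2, 3, 4, 5, 6] (act chevE7 wE7 (chevE7.simple ((0 : Fin 7) : ℕ))) = true := by
  decide +kernel

theorem memE7 : ∀ j : Fin 7, j ∈ [(1 : Fin 7), 2, 3, 4, 5, 6] ↔ toF 7 [1, 0, 0, 0, 0, 0, 0] j = 0 := by decide +kernel

variable {F : Type} [Field F] [Fintype F]

theorem indexE7 (hF : Odd (Fintype.card F)) :
    ¬ 2 ∣ (Subgroup.centralizer ({phi typeE7 F 0 (-1)} : Set ↥(chevE7.group F))).index :=
  index typeE7 F 0 hF chkOddE7 orthE7 aE7_ok (by decide) (ok_of_chkF tabE7_ok) memE7 (N := oddE7) (odd_oddE7 hF)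
    (tabE7_sum _)

theorem lgE7 (hF : Odd (Fintype.card F)) : Lg (phi typeE7 F 0 (-1)) (phi typeE7 F 0).range :=
  lg_of_phi hF _ (phi_injective typeE7 F 0 (two_ne_of_odd hF) chkOddE7) (nrm typeE7 F 0 hF chkE7 chkIsoE7)

omit [Fintype F] in
/-- a field with `2 ≠ 0` has odd order -/
theorem odd_of_two_ne [Fintype F] (h : (2 : F) ≠ 0) : Odd (Fintype.card F) := by
  rw [← Nat.not_even_iff_odd]
  intro he
  apply h
  have h1 : ringChar F ∣ 2 := by
    by_contra h2
    have := Fact.mk (CharP.char_is_prime F (ringChar F))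
    obtain ⟨n, hn, hc⟩ := FiniteField.card F (ringChar F)
    rw [hc, Nat.even_pow] at he
    have h3 : ringChar F = 2 := by
      rcases hn.eq_two_or_odd' with h4 | h4
      · exact h4
      · exact absurd h4 (Nat.not_odd_iff_even.2 he.1)
    exact h2 (h3 ▸ dvd_refl _)
  have h2 : ((2 : ℕ) : F) = 0 := (ringChar.spec F 2).2 h1
  exact_mod_cast h2

/-- **No group `E₇(q)`, `q` odd.** -/
theorem row_e7 {K : Type*} [Group K] [Finite K] {F : Type} [Field F] [Fintype F] (h2 : (2 : F) ≠ 0)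
    (e : K ≃* ↥(Lie.chevE7.group F)) {th : V → K} {O K0 : Subgroup K} (h : Sit th O K0) : False := by
  have hF := odd_of_two_ne h2
  have L := (lgE7 hF).map e.symm
  refine false_of_lg h L ?_
  have h3 := indexE7 hF
  have h4 : (Subgroup.centralizer ({phi typeE7 F 0 (-1)} : Set ↥(chevE7.group F))).comap e.toMonoidHom =
      Subgroup.centralizer ({e.symm (phi typeE7 F 0 (-1))} : Set K) := by
    ext x
    rw [Subgroup.mem_comap, Subgroup.mem_centralizer_singleton_iff, Subgroup.mem_centralizer_singleton_iff]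
    constructor
    · intro h5
      apply e.injective
      rw [map_mul, map_mul, e.apply_symm_apply]
      exact h5
    · intro h5
      have h6 := congrArg e h5
      rw [map_mul, map_mul, e.apply_symm_apply] at h6
      exact h6
  rw [← h4, Subgroup.index_comap_of_surjective _ e.surjective]
  exact h3

end Cfsg.Agent.H785.SpE7
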