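import Cfsg.Agent.H785.SpSL
import Cfsg.Agent.H785.SpE7Idx

/-!
# Long involutions: `Lg` from an injective homomorphism of `SL₂(q)`, `q` odd (helper785)
-/

set_option autoImplicit false
set_option linter.unusedSectionVars false

namespace Cfsg.Agent.H785.SpSL

open Subgroup Cfsg.Agent.H336.SpSix Cfsg.Agent.H785.SpLong

local notation "SL2" => Matrix.SpecialLinearGroup (Fin 2)

variable {F : Type*} [Field F] [Fintype F]

theorem four_dvd (hF : Odd (Fintype.card F)) : 4 ∣ Nat.card (SL2 F) := by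
  rw [Cfsg.Agent.H785.SpE7.card_SL, Cfsg.Agent.H785.SpE7.card_B0]
  obtain ⟨k, hk⟩ := hF
  rw [hk]
  have h1 : 2 * k + 1 - 1 = 2 * k := by omega
  rw [h1]
  exact ⟨k * (2 * k + 1) * (k + 1), by ring⟩

/-- **The facts on the long involution**: `phi` is an injective homomorphism of `SL₂(q)`, `q` odd, and `C(phi(-1))` normalises
the image. -/
theorem lg_of_phi {K : Type*} [Group K] (hF : Odd (Fintype.card F)) (φ : SL2 F →* K) (hi : Function.Injective φ)
    (hn : ∀ g : K, g * φ (-1) = φ (-1) * g → ∀ x ∈ φ.range, g * x * g⁻¹ ∈ φ.range) : Lg (φ (-1)) φ.range := by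
  classical
  have h2 : (2 : F) ≠ 0 := Cfsg.Agent.OddHalf.LongSL.two_ne_of_odd hF
  have hne : (-1 : SL2 F) ≠ 1 := by
    intro h
    have h1 := congrArg (fun s : SL2 F => s.1 0 0) h
    have h3 : (-1 : F) = 1 := by simpa using h1
    apply h2
    linear_combination -h3
  have hneg : ∀ x : SL2 F, x * -1 = -1 * x := fun x => by rw [neg_one_mul, mul_neg_one]
  refine ⟨?_, ?_, ⟨-1, rfl⟩, ?_, hn, ?_, ?_, ?_, ?_, ?_⟩
  · intro h
    exact hne (hi (by rw [h, map_one]))
  · rw [← map_mul]
    have : (-1 : SL2 F) * -1 = 1 := by simp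
    rw [this, map_one]
  · rintro _ ⟨s, rfl⟩
    rw [← map_mul, ← map_mul, hneg]
  · rintro _ ⟨s, rfl⟩ h
    rw [← map_mul] at h
    rcases sl_sq hF (hi (h.trans (map_one φ).symm)) with rfl | rfl
    · left; exact map_one φ
    · right; rfl
  · intro D hD hDn hodd
    have hE : (D.comap φ).map φ = D := Subgroup.map_comap_eq_self hD
    have hcard : Nat.card ↥(D.comap φ) = Nat.card D := by
      rw [← Nat.card_congr ((D.comap φ).equivMapOfInjective _ hi).toEquiv.symm, hE]
    have hN : (D.comap φ).Normal := by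
      refine ⟨fun x hx g => ?_⟩
      show φ (g * x * g⁻¹) ∈ D
      rw [map_mul, map_mul, map_inv]
      exact hDn _ ⟨g, rfl⟩ _ hx
    have h3 : D.comap φ ≤ Cfsg.oddCore (SL2 F) := by
      refine Cfsg.Agent.Lib.Cores.le_pPrimeCore hN ?_
      rw [hcard]
      exact Nat.coprime_two_right.2 hodd
    rw [Cfsg.Agent.TypeLFive.LThreeSLTwo.oddCore_sl hF, le_bot_iff] at h3
    rw [← hE, h3, Subgroup.map_bot]
  · rw [← Nat.card_congr (MonoidHom.ofInjective hi).toEquiv]
    exact four_dvd hF
  · rintro _ ⟨s, rfl⟩ h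
    have h3 : ∀ x, s * x = x * s := fun x => hi (by rw [map_mul, map_mul]; exact h _ ⟨x, rfl⟩)
    rcases sl_center hF h3 with rfl | rfl
    · rw [map_one, one_mul]
    · rw [← map_mul]
      have : (-1 : SL2 F) * -1 = 1 := by simp
      rw [this, map_one]
  · intro f hf hfj hfi
    have h0 : f 0 = 1 := by
      have := hf 0 0
      rw [add_zero] at this
      exact left_eq_mul.mp this
    have hsq : ∀ u, f u * f u = 1 := fun u => by rw [← hf, v_add_self, h0]
    have hT : ∀ u s, ∃ t, φ t = f u * φ s * (f u)⁻¹ := fun u s => hn (f u) (hfj u) _ ⟨s, rfl⟩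
    choose T hT using hT
    have hTT : ∀ u s, T u (T u s) = s := fun u s => hi (by
      rw [hT, hT]
      have h3 : (f u)⁻¹ = f u := inv_eq_of_mul_eq_one_left (hsq u)
      calc f u * (f u * φ s * (f u)⁻¹) * (f u)⁻¹ = (f u * f u) * φ s * ((f u)⁻¹ * (f u)⁻¹) := by group
        _ = φ s := by rw [h3, hsq]; group)
    let Φ : V → MulAut (SL2 F) := fun u =>
      { toFun := T u
        invFun := T u
        left_inv := hTT u
        right_inv := hTT u
        map_mul' := fun x y => hi (by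
          show φ (T u (x * y)) = φ (T u x * T u y)
          rw [map_mul, hT, hT, hT, map_mul]; group) }
    have hΦ : ∀ u v, Φ (u + v) = Φ u * Φ v := by
      intro u v
      refine MulEquiv.ext fun s => hi ?_
      show φ (T (u + v) s) = φ (T u (T v s))
      rw [hT, hT, hT, hf]; group
    obtain ⟨a, ha⟩ : ∃ a : V, ∀ c, f c = φ (-1) → c = a := by
      by_cases h3 : ∃ a, f a = φ (-1)
      · obtain ⟨a, ha⟩ := h3
        exact ⟨a, fun c hc => hfi (hc.trans ha.symm)⟩
      · exact ⟨0, fun c hc => absurd ⟨c, hc⟩ h3⟩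
    obtain ⟨c, hc0, hca, hc⟩ := exists_ker hF Φ hΦ a
    refine ⟨c, hc0, fun h => hca (ha c h), ?_⟩
    rintro _ ⟨s, rfl⟩
    have h3 : T c s = s := by
      have := congrArg (fun A : MulAut (SL2 F) => A s) hc
      exact this
    have h4 := hT c s
    rw [h3] at h4
    exact (mul_inv_eq_iff_eq_mul.1 h4.symm)

end Cfsg.Agent.H785.SpSL
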