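import Cfsg.Agent.H81.PJTab
import Cfsg.Agent.OddHalf.LongSL.Abs

/-!
# The centraliser of a long involution in a group with a root group datum (helper785)

* `not_two_dvd_index` : the index of the centraliser is odd;
* `nrm_of_rgd` : the centraliser normalises the long root `SL₂`;
* `sum_tab_eq` : the sum over `W` is the sum over `W_K` times the sum over the table.
-/

set_option autoImplicit false
set_option linter.unusedSectionVars false

namespace Cfsg.Agent.H785.SpOdd

open CoxeterSystem Cfsg.Agent.ChevalleyStructure.CoxeterGeom Cfsg.Agent.Tits.Roots Cfsg.Agent.Tits.Core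
  Cfsg.Agent.Tits.Exchange Cfsg.Agent.Nodes.Reps Cfsg.Agent.Nodes.BNOf Cfsg.Agent.Nodes.StabComb
  Cfsg.Agent.Nodes.Bruhat Cfsg.Agent.Nodes.LeviDec Cfsg.Agent.Nodes.NormalForm Cfsg.Agent.Nodes.CardSup
  Cfsg.Agent.OddHalf.LongSL Cfsg.Agent.H612.WModel Cfsg.Agent.H81.PJSum Cfsg.Agent.H81.PJTab

theorem card_sup_mul_inf {G : Type*} [Group G] [Finite G] {K H : Subgroup G}
    (h : H ≤ Subgroup.normalizer (K : Set G)) :
    Nat.card (H ⊔ K : Subgroup G) * Nat.card (H ⊓ K : Subgroup G) = Nat.card H * Nat.card K := by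
  have hKn : (K.subgroupOf (K ⊔ H)).Normal :=
    Subgroup.normal_subgroupOf_of_le_normalizer (sup_le Subgroup.le_normalizer h)
  have h1 := Subgroup.relIndex_sup_left (H.subgroupOf (K ⊔ H)) (K.subgroupOf (K ⊔ H))
  rw [← Subgroup.subgroupOf_sup le_sup_left le_sup_right, Subgroup.subgroupOf_self,
    Subgroup.relIndex_subgroupOf le_sup_right, Subgroup.relIndex_top_right] at h1
  have h2 : Nat.card K * K.relIndex H = Nat.card (K ⊔ H : Subgroup G) := by
    rw [← h1, Subgroup.index_eq_card, ← Subgroup.card_mul_index (K.subgroupOf (K ⊔ H)), Subgroup.index_eq_card,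
      Nat.card_congr (Subgroup.subgroupOfEquivOfLe (le_sup_left : K ≤ K ⊔ H)).toEquiv]
  have h3 : Nat.card (H ⊓ K : Subgroup G) * K.relIndex H = Nat.card H := by
    have h4 := Subgroup.card_mul_index (K.subgroupOf H)
    have h5 : Nat.card (K.subgroupOf H) = Nat.card (H ⊓ K : Subgroup G) := by
      rw [← Subgroup.inf_subgroupOf_left]
      exact Nat.card_congr (Subgroup.subgroupOfEquivOfLe inf_le_left).toEquiv
    rw [h5] at h4
    exact h4
  rw [sup_comm, ← h2, ← h3]
  ring

section Gen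

variable {I W Y : Type*} [Fintype I] [DecidableEq I] [Group W] [Group Y] {M : CoxeterMatrix I}
  {cs : CoxeterSystem M W} {A : I → I → ℤ} {h : IsCartan M A} {p : ℕ} {T : Subgroup Y} {n : I → Y}
  {X : (I → ℤ) → Subgroup Y} (R : RGD cs h p T n X)

include R

theorem T_nrm_X {x : I → ℤ} (hx : IsRoot cs h x) {t : Y} (ht : t ∈ T) : cj t (X x) = X x := by
  have h1 := R.conj_rp (rp_of_mem (cs := cs) (hN := R.nsys) ht) hx
  rwa [map_one, Module.End.one_apply] at h1

/-- **The index of the centraliser is odd.** -/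
theorem not_two_dvd_index [Finite W] [Finite Y] [hp : Fact p.Prime] (hp2 : p ≠ 2) {J : Set I} {b : I → ℤ}
    (hb : IsRoot cs h b) (hfix : ∀ j ∈ J, rep cs h (cs.simple j) b = b)
    (hcomm : ∀ j ∈ J, ∀ u ∈ X (sr j), ∀ v ∈ X b ⊔ X (-b), u * v = v * u) {q M' : ℕ} (hM : Odd M')
    (hN : Nat.card Y = Nat.card ↥(PJ cs h T X J) * ((q + 1) * M'))
    (hcard : ∀ H : Subgroup Y, H ≤ X b ⊔ X (-b) → H ≤ Subgroup.normalizer (X b : Set Y) →
      ∃ c, c * (q + 1) * Nat.card H = Nat.card ↥(X b ⊔ X (-b)))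
    {z : Y} (hzT : ∀ t ∈ T, t * z = z * t) (hz : z ∈ X b ⊔ X (-b)) (hzc : ∀ v ∈ X b ⊔ X (-b), v * z = z * v) :
    ¬ 2 ∣ (Subgroup.centralizer ({z} : Set Y)).index := by
  have hL1 : RGD.Sup X (RootsJ cs h J) ≤ Subgroup.centralizer ((X b ⊔ X (-b) : Subgroup Y) : Set Y) := by
    refine RGD.Sup_le fun x hx => ?_
    obtain ⟨v, hv, j, hj, rfl⟩ := exists_of_mem_RootsJ hx
    have hvb : rep cs h v b = b := by
      refine Subgroup.closure_induction (p := fun v _ => rep cs h v b = b) ?_ ?_ ?_ ?_ hv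
      · rintro _ ⟨j, hj, rfl⟩
        exact hfix j hj
      · rw [map_one, Module.End.one_apply]
      · intro x y _ _ hx hy
        rw [rep_mul_apply, hy, hx]
      · intro x _ hx
        conv_lhs => rw [← hx]
        exact rep_inv_apply cs h x b
    obtain ⟨g, hg⟩ := exists_rp cs R.nsys v
    have h1 : cj g (X b ⊔ X (-b)) = X b ⊔ X (-b) := by
      rw [cj_sup, R.conj_rp hg hb, R.conj_rp hg hb.neg, map_neg, hvb]
    intro u hu
    rw [← R.conj_rp hg (isRoot_sr cs h j), mem_cj] at hu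
    rw [Subgroup.mem_centralizer_iff]
    intro z hz
    have h2 : g⁻¹ * z * g ∈ X b ⊔ X (-b) := by
      have hz' : z ∈ cj g (X b ⊔ X (-b)) := by rw [h1]; exact hz
      exact mem_cj.1 hz'
    have h3 := hcomm j hj _ hu _ h2
    have h4 : g * (g⁻¹ * u * g * (g⁻¹ * z * g)) * g⁻¹ = g * (g⁻¹ * z * g * (g⁻¹ * u * g)) * g⁻¹ := by rw [h3]
    have h5 : g * (g⁻¹ * u * g * (g⁻¹ * z * g)) * g⁻¹ = u * z := by group
    have h6 : g * (g⁻¹ * z * g * (g⁻¹ * u * g)) * g⁻¹ = z * u := by group
    rw [h5, h6] at h4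
    exact h4.symm
  have hL2 : LJ cs h T X J ≤ Subgroup.centralizer ({z} : Set Y) := by
    refine sup_le (fun t ht => ?_) (hL1.trans (Subgroup.centralizer_le ?_))
    · rw [Subgroup.mem_centralizer_singleton_iff]
      exact hzT t ht
    · rintro _ rfl
      exact hz
  have hTX : T ≤ Subgroup.normalizer (X b : Set Y) := fun t ht => mem_normalizer_iff_cj.2 (T_nrm_X R hb ht)
  have hTJ : T ≤ Subgroup.normalizer ((X b ⊔ X (-b) : Subgroup Y) : Set Y) := fun t ht =>
    mem_normalizer_iff_cj.2 (by rw [cj_sup, T_nrm_X R hb ht, T_nrm_X R hb.neg ht])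
  have hL3 : LJ cs h T X J ≤ Subgroup.normalizer ((X b ⊔ X (-b) : Subgroup Y) : Set Y) :=
    sup_le hTJ (hL1.trans (Subgroup.centralizer_le_normalizer _))
  have hL4 : LJ cs h T X J ≤ Subgroup.normalizer (X b : Set Y) :=
    sup_le hTX ((hL1.trans (Subgroup.centralizer_le (show ((X b : Subgroup Y) : Set Y) ⊆ _ from
      (le_sup_left : X b ≤ X b ⊔ X (-b))))).trans (Subgroup.centralizer_le_normalizer _))
  obtain ⟨c, hc⟩ := hcard (LJ cs h T X J ⊓ (X b ⊔ X (-b))) inf_le_right (inf_le_left.trans hL4)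
  have h1 := card_sup_mul_inf hL3
  rw [← hc] at h1
  have h2 : Nat.card ↥(LJ cs h T X J ⊔ (X b ⊔ X (-b))) = Nat.card ↥(LJ cs h T X J) * (c * (q + 1)) := by
    have h3 : 0 < Nat.card ↥(LJ cs h T X J ⊓ (X b ⊔ X (-b))) := Nat.card_pos
    refine Nat.eq_of_mul_eq_mul_right h3 ?_
    rw [h1]
    ring
  have h3 : LJ cs h T X J ⊔ (X b ⊔ X (-b)) ≤ Subgroup.centralizer ({z} : Set Y) := by
    refine sup_le hL2 fun v hv => ?_
    rw [Subgroup.mem_centralizer_singleton_iff]
    exact hzc v hv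
  have h4 : Nat.card ↥(LJ cs h T X J) * (q + 1) ∣ Nat.card ↥(Subgroup.centralizer ({z} : Set Y)) := by
    refine dvd_trans ?_ (Subgroup.card_dvd_of_le h3)
    rw [h2]
    exact mul_dvd_mul_left _ (Dvd.intro_left c rfl)
  have h5 : Nat.card ↥(PJ cs h T X J) ∣ Nat.card ↥(LJ cs h T X J) * Nat.card ↥(VJ cs h X J) := by
    rw [← card_sup_mul_inf (LJ_le_normalizer_VJ R J)]
    exact Dvd.intro _ rfl
  obtain ⟨k, hk⟩ := (IsPGroup.iff_card (p := p)).1 (R.isPGroup_Upos.to_le (VJ_le_U (X := X) (cs := cs) (h := h) J))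
  have h6 : Nat.card Y ∣ Nat.card ↥(Subgroup.centralizer ({z} : Set Y)) * (p ^ k * M') := by
    rw [hN]
    have h7 : Nat.card ↥(LJ cs h T X J) * (q + 1) * (p ^ k * M') =
        Nat.card ↥(LJ cs h T X J) * Nat.card ↥(VJ cs h X J) * ((q + 1) * M') := by
      rw [hk]; ring
    exact (mul_dvd_mul_right h5 _).trans (h7 ▸ mul_dvd_mul_right h4 _)
  rw [← Subgroup.card_mul_index (Subgroup.centralizer ({z} : Set Y))] at h6
  have h7 : (Subgroup.centralizer ({z} : Set Y)).index ∣ p ^ k * M' :=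
    Nat.dvd_of_mul_dvd_mul_left Nat.card_pos h6
  intro h8
  have h9 : Odd (p ^ k * M') := ((hp.out.odd_of_ne_two hp2).pow).mul hM
  exact (Nat.not_even_iff_odd.2 h9) (even_iff_two_dvd.2 (h8.trans h7))

/-- **The centraliser normalises `J`.** -/
theorem nrm_of_rgd [Finite W] (hG : GG cs h T X = ⊤) {z : Y} (hz : z ∈ T) {b : I → ℤ} (hb : IsRoot cs h b)
    (hx : ∀ x, IsRoot cs h x → x ≠ b → x ≠ -b → ∀ u ∈ ZX X z x, ∀ v ∈ JX X z b, u * v = v * u)
    (hW : ∀ w : W, (∀ x, IsRoot cs h x → (X x ≤ Subgroup.centralizer ({z} : Set Y) ↔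
      X (rep cs h w x) ≤ Subgroup.centralizer ({z} : Set Y))) → rep cs h w b = b ∨ rep cs h w b = -b) :
    ∀ g, g * z = z * g → ∀ x ∈ JX X z b, g * x * g⁻¹ ∈ JX X z b := by
  have hnorm : ∀ y, IsRoot cs h y → ZX X z y ≤ Subgroup.normalizer (JX X z b : Set Y) := by
    intro y hy
    by_cases hya : y = b
    · subst hya
      exact le_trans le_sup_left Subgroup.le_normalizer
    by_cases hya' : y = -b
    · subst hya'
      exact le_trans le_sup_right Subgroup.le_normalizer
    · intro u hu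
      have h2 : ∀ v ∈ JX X z b, u * v * u⁻¹ = v := fun v hv => by rw [hx y hy hya hya' u hu v hv]; group
      have h3 : ∀ v ∈ JX X z b, u⁻¹ * v * u = v := fun v hv => by
        have h4 := hx y hy hya hya' u hu v hv
        rw [mul_assoc, ← h4]; group
      refine Subgroup.mem_normalizer_iff.2 fun v => ⟨fun hv => by rw [h2 v hv]; exact hv, fun hv => ?_⟩
      have h5 := h3 _ hv
      have h6 : u⁻¹ * (u * v * u⁻¹) * u = v := by group
      rw [h6] at h5
      rw [h5]; exact hv
  have hsup : RGD.Sup (fun x => X x ⊓ Subgroup.centralizer ({z} : Set Y)) (RGD.Pos cs h) ≤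
      Subgroup.normalizer (JX X z b : Set Y) := RGD.Sup_le fun x hx => hnorm x hx.1
  have hjT : ({z} : Set Y) ⊆ T := by rintro _ rfl; exact hz
  intro g hg
  have hg' : g ∈ Subgroup.centralizer ({z} : Set Y) := Subgroup.mem_centralizer_singleton_iff.2 hg
  obtain ⟨u, hu, w, k, hk, hkj, v, hv, rfl⟩ := Cfsg.Agent.Nodes.NormalForm.mem_centralizer R hjT (by rw [hG]; trivial) hg'
  have hkn : k ∈ Subgroup.normalizer (JX X z b : Set Y) := by
    rw [mem_normalizer_iff_cj, cj_JX R hk hkj hb]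
    have hkc : cj k (Subgroup.centralizer ({z} : Set Y)) = Subgroup.centralizer ({z} : Set Y) :=
      mem_normalizer_iff_cj.1 (Subgroup.le_normalizer hkj)
    rcases hW w (fun x hx => by
      rw [← R.conj_rp hk hx]
      constructor
      · intro h1
        have h2 := cj_mono k h1
        rwa [hkc] at h2
      · intro h1 y hy
        have h2 : k * y * k⁻¹ ∈ Subgroup.centralizer ({z} : Set Y) := h1 (conj_mem_cj.2 hy)
        have h3 := mul_mem (mul_mem (inv_mem hkj) h2) hkj
        have h4 : k⁻¹ * (k * y * k⁻¹) * k = y := by group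
        rwa [h4] at h3) with h1 | h1
    · rw [h1]
    · rw [h1, JX_neg]
  have h1 : u * k * v ∈ Subgroup.normalizer (JX X z b : Set Y) := mul_mem (mul_mem (hsup hu) hkn) (hsup hv)
  exact fun x hx => (Subgroup.mem_normalizer_iff.1 h1 x).1 hx

end Gen

/-! ### the sum over a table -/

section Tab

variable {l : ℕ} {W Y : Type*} [Group W] [Group Y] {M : CoxeterMatrix (Fin l)}
  {cs : CoxeterSystem M W} {A : Fin l → Fin l → ℤ} {h : IsCartan M A} {p : ℕ} {T : Subgroup Y} {n : Fin l → Y}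
  {X : (Fin l → ℤ) → Subgroup Y} {Al : List (List ℤ)} {J : List (Fin l)} {l0 : List ℤ}
  {Tb : List (List ℤ × List (Fin l))}

/-- a faster check -/
def chkF (l : ℕ) (Al : List (List ℤ)) (J : List (Fin l)) (l0 : List ℤ) (Tb : List (List ℤ × List (Fin l))) : Bool :=
  Al.length == l && (Al.all fun r => r.length == l) && l0.length == l && (l0.all fun x => decide (0 ≤ x)) &&
    ((List.finRange l).all fun i => l0.getD i 0 != 0 || J.contains i) && (Tb.map Prod.fst).contains l0 &&
    (Tb.all fun e => e == (l0, []) ||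
      (match e.2.getLast? with
        | none => false
        | some j => J.contains j && Tb.any fun e' => e'.2 == e.2.dropLast && decide (0 < e'.1.getD j 0) &&
            e.1 == fireL Al e'.1 j)) &&
    (Tb.all fun e => J.all fun j => (Tb.map Prod.fst).contains (fireL Al e.1 j)) &&
    decide (Tb.map Prod.fst).Nodup

theorem ok_of_chkF (h : chkF l Al J l0 Tb = true) : Ok l Al J l0 Tb := by
  unfold chkF at h
  simp only [Bool.and_eq_true, List.all_eq_true, beq_iff_eq, decide_eq_true_eq, Bool.or_eq_true, bne_iff_ne,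
    List.contains_iff_mem, List.mem_finRange, forall_true_left] at h
  obtain ⟨⟨⟨⟨⟨⟨⟨⟨h1, h2⟩, h3⟩, h4⟩, h5⟩, h6⟩, h7⟩, h8⟩, h9⟩ := h
  refine ⟨h1, h2, h3, h4, fun i hi => ?_, ?_, fun e he => ?_, fun e he j hj => ?_, h9⟩
  · exact (h5 i).resolve_left fun h => h hi
  · obtain ⟨e, he, h⟩ := List.mem_map.1 h6
    exact ⟨e, he, h⟩
  · rcases h7 e he with h | h
    · exact Or.inl h
    · right
      cases hl : e.2.getLast? with
      | none => rw [hl] at h; exact absurd h (by simp)
      | some j =>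
        rw [hl] at h
        simp only [Bool.and_eq_true, List.contains_iff_mem, List.any_eq_true, beq_iff_eq, decide_eq_true_eq] at h
        obtain ⟨hj, e', he', ⟨ha, hb⟩, hc⟩ := h
        refine ⟨e', he', j, hj, ?_, hb, hc⟩
        rw [ha]
        have hne : e.2 ≠ [] := by
          intro h0
          rw [h0] at hl
          simp at hl
        rw [List.getLast?_eq_some_getLast hne, Option.some.injEq] at hl
        rw [← hl]
        exact (List.dropLast_concat_getLast hne).symm
  · obtain ⟨e', he', h⟩ := List.mem_map.1 (h8 e he j hj)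
    exact ⟨e', he', h⟩

/-- **The sum over `W_J` is the sum over `W_K` times the sum over the table.** -/
theorem sum_tab_eq (R : RGD cs h p T n X) [Finite W] (hA : ∀ i j : Fin l, (Al.getD i []).getD j 0 = A i j)
    (O : Ok l Al J l0 Tb) [Fintype ↥(WJ cs {j | j ∈ J})] [Fintype ↥(WJ cs {i | toF l l0 i = 0})] :
    ∑ w : ↥(WJ cs {j | j ∈ J}), Nat.card ↥(RGD.Sup X (NW cs h (w : W))) =
      (∑ w : ↥(WJ cs {i | toF l l0 i = 0}), Nat.card ↥(RGD.Sup X (NW cs h (w : W)))) *
        (Tb.map fun e => (e.2.map fun i => Nat.card ↥(X (sr i))).prod).sum := by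
  classical
  have h0 : ∀ i, 0 ≤ toF l l0 i := by
    intro i
    unfold toF
    have h1 : (i : ℕ) < l0.length := by rw [O.len0]; exact i.2
    rw [List.getD_eq_getElem _ _ h1]
    exact O.nn _ (List.getElem_mem _)
  have hsp := fun e he => O.spec (cs := cs) (h := h) hA e.2.length e he rfl
  have key := sum_eq R (ι := Fin Tb.length) (fun a => cs.wordProd (Tb.get a).2) (l := toF l l0) (J := {j | j ∈ J}) h0
    (fun i hi => O.zero i hi) (fun a => (hsp _ (List.get_mem _ _)).2.1) (fun a => (hsp _ (List.get_mem _ _)).2.2.1)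
    (fun a b hab => ?_) (fun w hw => ?_)
  · unfold f at key
    rw [key]
    have h2 : ∑ a : Fin Tb.length, Nat.card ↥(RGD.Sup X (NW cs h (cs.wordProd (Tb.get a).2))) =
        (Tb.map fun e => (e.2.map fun i => Nat.card ↥(X (sr i))).prod).sum := by
      rw [← Fin.sum_univ_fun_getElem]
      refine Finset.sum_congr rfl fun a _ => ?_
      exact card_word R (hsp _ (List.get_mem _ _)).2.2.2
    rw [h2]
  · have h1 : toF l (Tb.get a).1 = toF l (Tb.get b).1 := by
      rw [← (hsp _ (List.get_mem _ _)).1, ← (hsp _ (List.get_mem _ _)).1]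
      exact hab
    have h2 := toF_inj (O.len_tab _ _ (List.get_mem _ _) rfl) (O.len_tab _ _ (List.get_mem _ _) rfl) h1
    have h3 := List.nodup_iff_injective_get.1 O.nodup
    have h4 : (Tb.map Prod.fst).get ⟨a, by rw [List.length_map]; exact a.2⟩ =
        (Tb.map Prod.fst).get ⟨b, by rw [List.length_map]; exact b.2⟩ := by
      simp only [List.get_eq_getElem, List.getElem_map]
      exact h2
    have h5 := h3 h4
    rw [Fin.mk.injEq] at h5
    exact Fin.ext h5
  · -- every functional of the orbit is in the table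
    obtain ⟨e0, he0, hb0⟩ := O.base
    have hex : ∃ e ∈ Tb, fl cs h (toF l l0) w = toF l e.1 := by
      obtain ⟨ω, hω, rfl⟩ := exists_word_of_mem_WJ cs hw
      clear hw
      induction ω using List.reverseRecOn with
      | nil =>
        refine ⟨e0, he0, ?_⟩
        rw [wordProd_nil, fl_one, hb0]
      | append_singleton ω j ih =>
        obtain ⟨e, he, h1⟩ := ih (fun i hi => hω i (List.mem_append_left _ hi))
        have hj : j ∈ J := hω j (by simp)
        obtain ⟨e', he', h2⟩ := O.cl e he j hj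
        refine ⟨e', he', ?_⟩
        rw [wordProd_append, wordProd_singleton, fl_mul_simple, h1, h2,
          O.toF_fire hA (O.len_tab _ e he rfl)]
    obtain ⟨e, he, h1⟩ := hex
    obtain ⟨a, rfl⟩ := List.mem_iff_get.1 he
    exact ⟨a, by rw [h1]; exact ((hsp _ (List.get_mem _ _)).1).symm⟩

end Tab

end Cfsg.Agent.H785.SpOdd
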